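import Cfsg.Agent.TwoF.SpB.Ech
import Cfsg.Agent.TwoF.Gen.BCov
import Mathlib.RingTheory.RootsOfUnity.AlgebraicallyClosed

/-!
# TwoF SP-B: weights of an elementary abelian group given by generators, coded by numbers (helper24)

`f 0, …, f (m - 1)` commute and have order dividing the prime `l`; a weight is a number `u < l ^ m` (digits = exponents).
`exists_mu`: the multiplicity function `μ` with `Mu ρ f l m μ`.
-/

set_option autoImplicit false
set_option maxHeartbeats 400000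
set_option linter.unusedSectionVars false

namespace Cfsg.Agent.TwoF.SpB

open Module Gen

/-- a digit -/
def dg (l u i : ℕ) : ℕ := u / l ^ i % l

/-- the exponent of a weight on a word -/
def ip (l u : ℕ) : List ℕ → ℕ
  | [] => 0
  | i :: w => dg l u i + ip l u w

theorem ip_realised : True := by have := @ip.eq_def; trivial

/-- the number with given digits -/
def pk (l : ℕ) (g : ℕ → ℕ) : ℕ → ℕ
  | 0 => 0
  | j + 1 => pk l g j + l ^ j * (g j % l)

theorem pk_realised : True := by have := @pk.eq_def; trivial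

/-- the image of a weight -/
def tws (l m : ℕ) (ws : List (List ℕ)) (u : ℕ) : ℕ := pk l (fun j => ip l u (ws.getD j [])) m

theorem pk_lt {l : ℕ} (hl : 0 < l) (g : ℕ → ℕ) (j : ℕ) : pk l g j < l ^ j := by
  induction j with
  | zero => simp [pk]
  | succ j ih =>
    have h1 : g j % l + 1 ≤ l := Nat.mod_lt _ hl
    have h2 := Nat.mul_le_mul_left (l ^ j) h1
    rw [pk, pow_succ]
    rw [mul_add, mul_one] at h2
    omega

theorem dg_pk {l : ℕ} (hl : 0 < l) (g : ℕ → ℕ) {i j : ℕ} (h : i < j) : dg l (pk l g j) i = g i % l := by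
  induction j with
  | zero => omega
  | succ j ih =>
    rcases Nat.lt_succ_iff_lt_or_eq.1 h with h1 | rfl
    · obtain ⟨c, rfl⟩ := Nat.exists_eq_add_of_lt h1
      rw [← ih h1, dg, dg, pk, pow_succ', pow_add, mul_left_comm, mul_assoc,
        Nat.add_mul_div_left _ _ (Nat.pow_pos hl), mul_assoc, Nat.add_mul_mod_self_left]
    · rw [dg, pk, Nat.add_mul_div_left _ _ (Nat.pow_pos hl), Nat.div_eq_of_lt (pk_lt hl g i), zero_add, Nat.mod_mod]

theorem eq_of_dg {l m u v : ℕ} (hu : u < l ^ m) (hv : v < l ^ m) (h : ∀ i < m, dg l u i = dg l v i) : u = v := by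
  have : ∀ j ≤ m, u % l ^ j = v % l ^ j := fun j hj => by
    induction j with
    | zero => simp [Nat.mod_one]
    | succ j ih => rw [Nat.mod_pow_succ, Nat.mod_pow_succ, ih (by omega)]; exact congrArg (_ + _ * ·) (h j hj)
  rw [← Nat.mod_eq_of_lt hu, this m le_rfl, Nat.mod_eq_of_lt hv]

/-- a partial sum -/
def sm (p : ℕ → Bool) (μ : ℕ → ℕ) (N : ℕ) : ℕ := ∑ u ∈ Finset.range N, if p u = true then μ u else 0

variable {k : Type} [Field k] {G : Type} [Group G] {V : Type} [AddCommGroup V] [Module k V]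

/-- `h⁻¹ (f j) h` is the word `ws j` -/
def Rl (f : ℕ → G) (m : ℕ) (h : G) (ws : List (List ℕ)) : Prop :=
  ∀ j < m, (∀ i ∈ ws.getD j [], i < m) ∧ f j * h = h * ((ws.getD j []).map f).prod

/-- the properties of the multiplicities -/
structure Mu (ρ : Representation k G V) (f : ℕ → G) (l m : ℕ) (μ : ℕ → ℕ) : Prop where
  mv : ∀ h ws, Rl f m h ws → ∀ u, μ u ≤ μ (tws l m ws u)
  lo : ∀ h ws, Rl f m h ws → ∀ X : ℕ → Bool, (∀ u < l ^ m, X u = true → X (tws l m ws u) = false) →
    sm X μ (l ^ m) ≤ cod ρ (Subgroup.zpowers h)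
  eq : ∀ w : List ℕ, (∀ i ∈ w, i < m) →
    cod ρ (Subgroup.zpowers (w.map f).prod) = sm (fun u => !Nat.beq (ip l u w % l) 0) μ (l ^ m)

/-- the weight space -/
def Wu (ρ : Representation k G V) (f : ℕ → G) (l m : ℕ) (ω : k) (u : ℕ) : Submodule k V where
  carrier := {v | ∀ i < m, ρ (f i) v = ω ^ dg l u i • v}
  zero_mem' := fun i _ => by simp
  add_mem' := fun {a b} ha hb i hi => by rw [map_add, ha i hi, hb i hi, smul_add]
  smul_mem' := fun c v hv i hi => by rw [map_smul, hv i hi, smul_comm]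

variable {ρ : Representation k G V} {f : ℕ → G} {l m : ℕ} {ω : k}

theorem wu_word {u : ℕ} {v : V} (hv : v ∈ Wu ρ f l m ω u) {w : List ℕ} (hw : ∀ i ∈ w, i < m) :
    ρ (w.map f).prod v = ω ^ ip l u w • v := by
  induction w with
  | nil => simp [ip]
  | cons i w ih =>
    rw [List.map_cons, List.prod_cons, rho_mul, ih fun j hj => hw j (List.mem_cons_of_mem _ hj), map_smul,
      hv i (hw i List.mem_cons_self), ip, pow_add, mul_comm, mul_smul]

theorem wu_map (hl : 0 < l) (hω : ω ^ l = 1) {h : G} {ws : List (List ℕ)} (H : Rl f m h ws) {u : ℕ} {v : V}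
    (hv : v ∈ Wu ρ f l m ω u) : ρ h v ∈ Wu ρ f l m ω (tws l m ws u) := fun i hi => by
  rw [← rho_mul, (H i hi).2, rho_mul, wu_word hv (H i hi).1, map_smul, tws, dg_pk hl _ hi, ← pow_eq_pow_mod _ hω]

theorem wu_indep (hl : 0 < l) (hω : IsPrimitiveRoot ω l) : iSupIndep fun u : Fin (l ^ m) => Wu ρ f l m ω u := by
  obtain ⟨ζ, rfl⟩ := hω.isUnit hl.ne'
  let φ : FreeGroup (Fin m) →* G := FreeGroup.lift fun i => f i
  let χ : Fin (l ^ m) → ((⊤ : Subgroup (FreeGroup (Fin m))) →* kˣ) := fun u =>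
    (FreeGroup.lift fun i : Fin m => ζ ^ dg l u i).comp (Subgroup.subtype ⊤)
  have hχ : Function.Injective χ := fun u v h => Fin.ext (eq_of_dg u.2 v.2 fun i hi => by
    have h1 := DFunLike.congr_fun h ⟨FreeGroup.of ⟨i, hi⟩, Subgroup.mem_top _⟩
    simp only [χ, MonoidHom.comp_apply, Subgroup.coe_subtype, FreeGroup.lift_apply_of] at h1
    exact hω.pow_inj (Nat.mod_lt _ hl) (Nat.mod_lt _ hl) (by
      rw [← Units.val_pow_eq_pow_val, ← Units.val_pow_eq_pow_val]; exact congrArg Units.val h1))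
  refine ((indep_wt (ρ.comp φ : Representation k _ V) ⊤).comp hχ).mono fun u v hv => mem_wt.2 fun r => ?_
  obtain ⟨r, hr⟩ := r
  change ρ (φ r) v = ((FreeGroup.lift fun i : Fin m => ζ ^ dg l u i) r : k) • v
  clear hr
  induction r using FreeGroup.induction_on with
  | C1 => simp
  | of i => simpa [φ] using hv i i.2
  | inv_of i ih =>
    rw [map_inv φ, map_inv (FreeGroup.lift fun i : Fin m => ζ ^ dg l u i), ← (rho_injective ρ (φ (FreeGroup.of i))).eq_iff, rho_apply_inv, map_smul,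
      ih, smul_smul, Units.inv_mul, one_smul]
  | mul a b ha hb => rw [map_mul, rho_mul, hb, map_smul, ha, smul_smul, map_mul, Units.val_mul, mul_comm]

variable [FiniteDimensional k V] [Finite G]

theorem wu_span [IsAlgClosed k] (hl : l.Prime) (hk : (l : k) ≠ 0) (hω : IsPrimitiveRoot ω l)
    (hc : ∀ i < m, ∀ j < m, f i * f j = f j * f i) (hp : ∀ i < m, f i ^ l = 1) :
    ⨆ u : Fin (l ^ m), Wu ρ f l m ω u = ⊤ := by
  let R := Subgroup.closure (f '' {i | i < m})
  have h1 : ∀ a ∈ R, ∀ b ∈ R, a * b = b * a := fun a ha b hb =>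
    Subgroup.closure_induction₂ (p := fun a b _ _ => Commute a b)
      (by rintro _ _ ⟨i, hi, rfl⟩ ⟨j, hj, rfl⟩; exact hc i hi j hj) (fun x _ => Commute.one_left x)
      (fun x _ => Commute.one_right x) (fun _ _ _ _ _ _ h h' => h.mul_left h') (fun _ _ _ _ _ _ h h' => h.mul_right h')
      (fun _ _ _ _ h => h.inv_left) (fun _ _ _ _ h => h.inv_right) ha hb
  have h2 : ∀ a ∈ R, a ^ l = 1 := fun a ha => Subgroup.closure_induction (p := fun a _ => a ^ l = 1)
    (by rintro _ ⟨i, hi, rfl⟩; exact hp i hi) (one_pow _)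
    (fun x y hx hy h h' => by rw [Commute.mul_pow (h1 x hx y hy), h, h', mul_one])
    (fun x _ h => by rw [inv_pow, h, inv_one]) ha
  rw [eq_top_iff, ← iSup_wt (ρ := ρ) h1 (card_ne_zero_of_exp hl hk h2)]
  refine iSup_le fun χ => ?_
  have : NeZero l := ⟨hl.ne_zero⟩
  have hm : ∀ i < m, f i ∈ R := fun i hi => Subgroup.subset_closure ⟨i, hi, rfl⟩
  have h3 : ∀ i, ∃ t, ∀ hi : i < m, ω ^ t = χ ⟨f i, hm i hi⟩ := fun i => by
    by_cases hi : i < m
    · obtain ⟨t, -, ht⟩ := hω.eq_pow_of_pow_eq_one (ξ := (χ ⟨f i, hm i hi⟩ : k)) (by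
        rw [← Units.val_pow_eq_pow_val, ← map_pow, show (⟨f i, hm i hi⟩ : R) ^ l = 1 from Subtype.ext (hp i hi),
          map_one]
        rfl)
      exact ⟨t, fun _ => ht⟩
    · exact ⟨0, fun h => absurd h hi⟩
  choose t ht using h3
  refine le_iSup_of_le ⟨pk l t m, pk_lt hl.pos t m⟩ fun v hv i hi => ?_
  rw [dg_pk hl.pos _ hi, ← pow_eq_pow_mod _ hω.pow_eq_one, ht i hi]
  exact mem_wt.1 hv ⟨f i, hm i hi⟩

theorem sm_eq (p : ℕ → Bool) (μ : ℕ → ℕ) (N : ℕ) :
    sm p μ N = ∑ u ∈ Finset.univ.filter fun u : Fin N => p u = true, μ u := by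
  rw [sm, Finset.sum_filter, Fin.sum_univ_eq_sum_range fun u => if p u = true then μ u else 0]

theorem sm_add (p : ℕ → Bool) (μ : ℕ → ℕ) (N : ℕ) :
    sm (fun u => !p u) μ N + sm p μ N = ∑ u : Fin N, μ u := by
  rw [sm, sm, ← Finset.sum_add_distrib, Fin.sum_univ_eq_sum_range]
  exact Finset.sum_congr rfl fun u _ => by cases p u <;> simp

theorem mu_closed [IsAlgClosed k] (hl : l.Prime) (hk : (l : k) ≠ 0) (hω : IsPrimitiveRoot ω l)
    (hc : ∀ i < m, ∀ j < m, f i * f j = f j * f i) (hp : ∀ i < m, f i ^ l = 1) :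
    Mu ρ f l m fun u => finrank k (Wu ρ f l m ω u) := by
  have hi := wu_indep (ρ := ρ) (f := f) (m := m) hl.pos hω
  refine ⟨fun h ws H u => ?_, fun h ws H X hX => ?_, fun w hw => ?_⟩
  · rw [← finrank_map_rho (ρ := ρ) h]
    exact Submodule.finrank_mono (Submodule.map_le_iff_le_comap.2 fun v hv => wu_map hl.pos hω.pow_eq_one H hv)
  · rw [sm_eq, ← finrank_biSup_of_indep hi]
    refine finrank_le_cod (eq_bot_iff.2 fun v hv => ?_)
    have h1 := hi.disjoint_biSup_biSup' (s := {u : Fin (l ^ m) | X u = true}) (t := {u : Fin (l ^ m) | X u = false})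
      (Set.disjoint_left.2 fun u (h1 : X u = true) (h2 : X u = false) => absurd (h1.symm.trans h2) (by decide))
      (Set.toFinite _)
    have h2 : (⨆ u ∈ Finset.univ.filter fun u : Fin (l ^ m) => X u = true, Wu ρ f l m ω u) ≤
        (⨆ u ∈ {u : Fin (l ^ m) | X u = true}, Wu ρ f l m ω u) ⊓
          (⨆ u ∈ {u : Fin (l ^ m) | X u = false}, Wu ρ f l m ω u).comap (ρ h) := iSup₂_le fun u hu => le_inf
      (le_iSup₂_of_le u (Finset.mem_filter.1 hu).2 le_rfl) fun v hv =>
        (le_iSup₂_of_le (f := fun (u : Fin (l ^ m)) (_ : u ∈ {u : Fin (l ^ m) | X u = false}) => Wu ρ f l m ω u)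
          ⟨tws l m ws u, pk_lt hl.pos _ _⟩ (hX u u.2 (Finset.mem_filter.1 hu).2) le_rfl)
          (wu_map hl.pos hω.pow_eq_one H hv)
    have h3 := (h2 hv.1).2
    rw [SetLike.mem_coe, Submodule.mem_comap, mem_fx_zpowers.1 hv.2] at h3
    exact h1.le_bot ⟨(h2 hv.1).1, h3⟩
  · have h1 := sm_add (fun u => Nat.beq (ip l u w % l) 0) (fun u => finrank k (Wu ρ f l m ω u)) (l ^ m)
    have h2 := finrank_biSup_of_indep hi Finset.univ
    rw [show (⨆ u ∈ (Finset.univ : Finset (Fin (l ^ m))), Wu ρ f l m ω u) = ⊤ from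
      top_le_iff.1 ((wu_span (ρ := ρ) hl hk hω hc hp).ge.trans
        (iSup_mono fun u => le_iSup_of_le (Finset.mem_univ u) le_rfl)),
      finrank_top] at h2
    have h3 := cod_add (ρ := ρ) (Subgroup.zpowers (w.map f).prod)
    have h4 : sm (fun u => Nat.beq (ip l u w % l) 0) (fun u => finrank k (Wu ρ f l m ω u)) (l ^ m) ≤
        finrank k (fx ρ (Subgroup.zpowers (w.map f).prod)) := by
      rw [sm_eq]
      refine sum_finrank_le_of_indep hi _ fun u hu v hv => mem_fx_zpowers.2 ?_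
      rw [wu_word hv hw, pow_eq_pow_mod _ hω.pow_eq_one, Nat.eq_of_beq_eq_true (Finset.mem_filter.1 hu).2, pow_zero,
        one_smul]
    have h5 : sm (fun u => !Nat.beq (ip l u w % l) 0) (fun u => finrank k (Wu ρ f l m ω u)) (l ^ m) ≤
        cod ρ (Subgroup.zpowers (w.map f).prod) := by
      rw [sm_eq, cod_zpowers]
      refine sum_finrank_le_of_indep hi _ fun u hu v hv => ?_
      have h6 : ω ^ ip l u w - 1 ≠ 0 := fun e => by
        have h7 := (Finset.mem_filter.1 hu).2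
        rw [Nat.mod_eq_zero_of_dvd ((hω.pow_eq_one_iff_dvd _).1 (sub_eq_zero.1 e))] at h7
        exact absurd h7 (by decide)
      refine ⟨(ω ^ ip l u w - 1)⁻¹ • v, ?_⟩
      rw [map_smul, LinearMap.sub_apply, wu_word hv hw, Module.End.one_apply, ← one_smul k v, smul_smul, ← sub_smul,
        smul_smul, mul_one, inv_mul_cancel₀ h6]
    omega

/-- **the multiplicities** -/
theorem exists_mu (ρ : Representation k G V) (hl : l.Prime) (hk : (l : k) ≠ 0)
    (hc : ∀ i < m, ∀ j < m, f i * f j = f j * f i) (hp : ∀ i < m, f i ^ l = 1) : ∃ μ, Mu ρ f l m μ := by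
  have hk' := card_ne_zero_closure hk
  have : NeZero (l : AlgebraicClosure k) := ⟨hk'⟩
  have : NeZero l := ⟨hl.ne_zero⟩
  obtain ⟨ω, hω⟩ := HasEnoughRootsOfUnity.exists_primitiveRoot (AlgebraicClosure k) l
  have H := mu_closed (ρ := bc (AlgebraicClosure k) ρ) hl hk' hω hc hp
  exact ⟨_, H.mv, fun h ws h1 X h2 => (H.lo h ws h1 X h2).trans (cod_bc _ _).le,
    fun w hw => (cod_bc (AlgebraicClosure k) _).symm.trans (H.eq w hw)⟩

/-! ### orbits and counts -/

/-- the images of `D` -/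
def pushF (D : ℕ) : List (ℕ → ℕ) → List ℕ → ℕ → (List ℕ → ℕ → Bool) → Bool
  | [], st, v, k => k st v
  | A :: As, st, v, k => frc (A D) fun E => cond (Nat.beq ((v >>> E) % 2) 1) (pushF D As st v k)
      (frc (v ||| 2 ^ E) fun v' => pushF D As (E :: st) v' k)

theorem pushF_realised : True := by have := @pushF.eq_def; trivial

theorem pushF_sound {Q : ℕ → Prop} {D : ℕ} {As : List (ℕ → ℕ)} (hQ : ∀ A ∈ As, Q (A D)) {st : List ℕ} {v : ℕ}
    {k : List ℕ → ℕ → Bool} (h : pushF D As st v k = true) (h1 : ∀ x ∈ st, Q x) (h2 : ∀ x, v.testBit x = true → Q x) :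
    ∃ st' v', k st' v' = true ∧ (∀ x ∈ st', Q x) ∧ ∀ x, v'.testBit x = true → Q x := by
  induction As generalizing st v with
  | nil => exact ⟨st, v, h, h1, h2⟩
  | cons A As ih =>
    rw [pushF, frc_eq] at h
    have hQ' := fun B hB => hQ B (List.mem_cons_of_mem _ hB)
    have h3 := hQ A List.mem_cons_self
    cases e : Nat.beq ((v >>> A D) % 2) 1
    · rw [e, cond_false, frc_eq] at h
      refine ih hQ' h (fun x hx => (List.mem_cons.1 hx).elim (fun e => e ▸ h3) (h1 x)) fun x hx => ?_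
      rw [Nat.testBit_or, Bool.or_eq_true, Nat.testBit_two_pow, decide_eq_true_eq] at hx
      exact hx.elim (h2 x) fun e => e ▸ h3
    · rw [e, cond_true] at h
      exact ih hQ' h h1 h2

/-- the orbits of the elements of the stack -/
noncomputable def orbF (As : List (ℕ → ℕ)) (k : ℕ → Bool) (f : ℕ) : List ℕ → ℕ → Bool :=
  Nat.rec (fun _ v => k v) (fun _ rc st v => List.rec (k v) (fun D st' _ => pushF D As st' v rc) st) f

theorem orbF_sound {Q : ℕ → Prop} {As : List (ℕ → ℕ)} (hQ : ∀ A ∈ As, ∀ D, Q D → Q (A D)) {k : ℕ → Bool} (f : ℕ)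
    {st : List ℕ} {v : ℕ} (h : orbF As k f st v = true) (h1 : ∀ x ∈ st, Q x) (h2 : ∀ x, v.testBit x = true → Q x) :
    ∃ v', k v' = true ∧ ∀ x, v'.testBit x = true → Q x := by
  induction f generalizing st v with
  | zero => exact ⟨v, h, h2⟩
  | succ f ih =>
    cases st with
    | nil => exact ⟨v, h, h2⟩
    | cons D st =>
      obtain ⟨st', v', h3, h4, h5⟩ := pushF_sound (Q := Q) (k := orbF As k f)
        (fun A hA => hQ A hA D (h1 D List.mem_cons_self)) h (fun x hx => h1 x (List.mem_cons_of_mem _ hx)) h2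
      exact ih h3 h4 h5

/-- iterate -/
def itr (τ : ℕ → ℕ) : ℕ → ℕ → ℕ
  | 0, u => u
  | j + 1, u => frc (τ u) (itr τ j)

theorem itr_realised : True := by have := @itr.eq_def; trivial

theorem le_itr {μ τ : ℕ → ℕ} (h : ∀ u, μ u ≤ μ (τ u)) (j u : ℕ) : μ u ≤ μ (itr τ j u) := by
  induction j generalizing u with
  | zero => exact le_rfl
  | succ j ih => rw [itr, frc_eq]; exact (h u).trans (ih _)

/-- the maps have finite order -/
def chkO (l m : ℕ) (Ws : List (List (List ℕ) × ℕ)) : Bool :=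
  Ws.all fun p => allTo (fun u => Nat.beq (itr (tws l m p.1) (p.2 + 1) u) u) (l ^ m)

/-- the orbit of `r` is `v` -/
noncomputable def chkV (l m : ℕ) (Ws : List (List (List ℕ) × ℕ)) (r v : ℕ) : Bool :=
  Nat.blt r (l ^ m) && orbF (Ws.map fun p => tws l m p.1) (fun v' => Nat.beq v' v) (l ^ m) [r] 0

omit [FiniteDimensional k V] [Finite G] in
/-- the multiplicity is constant on orbits -/
theorem Mu.orb {μ : ℕ → ℕ} (H : Mu ρ f l m μ) (hl : 0 < l) {Ws : List (List (List ℕ) × ℕ)}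
    (h1 : ∀ p ∈ Ws, ∃ h, Rl f m h p.1) (h2 : chkO l m Ws = true) {r v : ℕ} (h3 : chkV l m Ws r v = true) (u : ℕ)
    (hu : v.testBit u = true) : μ u = μ r := by
  rw [chkV, Bool.and_eq_true, Nat.blt_eq] at h3
  obtain ⟨v', h4, h5⟩ := orbF_sound (Q := fun u => u < l ^ m ∧ μ u = μ r) (by
    intro A hA D hD
    obtain ⟨p, hp, rfl⟩ := List.mem_map.1 hA
    obtain ⟨h, h4⟩ := h1 p hp
    have h5 := Nat.eq_of_beq_eq_true ((allTo_iff _ _).1 (List.all_eq_true.1 h2 p hp) D hD.1)
    have h6 := le_itr (H.mv h _ h4) p.2 (tws l m p.1 D)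
    rw [itr, frc_eq] at h5
    rw [h5] at h6
    exact ⟨pk_lt hl _ _, (le_antisymm h6 (H.mv h _ h4 D)).trans hD.2⟩) _ h3.2
    (fun x hx => by rw [List.mem_singleton.1 hx]; exact ⟨h3.1, rfl⟩) (by simp)
  exact (h5 u (Nat.eq_of_beq_eq_true h4 ▸ hu)).2

/-- a count -/
def cnt (p : ℕ → Bool) : ℕ → ℕ
  | 0 => 0
  | j + 1 => cond (p j) (cnt p j + 1) (cnt p j)

theorem cnt_realised : True := by have := @cnt.eq_def; trivial

/-- the label of a weight -/
def lab (v1 v2 v3 u : ℕ) : ℕ := cond (v1.testBit u) 1 (cond (v2.testBit u) 2 (cond (v3.testBit u) 3 0))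

/-- the number of weights with a given label -/
def cl (v1 v2 v3 : ℕ) (p : ℕ → Bool) (N i : ℕ) : ℕ := cnt (fun u => p u && Nat.beq (lab v1 v2 v3 u) i) N

theorem sm_lab {μ : ℕ → ℕ} {v1 v2 v3 a b c : ℕ} (h1 : ∀ u, v1.testBit u = true → μ u = a)
    (h2 : ∀ u, v2.testBit u = true → μ u = b) (h3 : ∀ u, v3.testBit u = true → μ u = c) (p : ℕ → Bool) (N : ℕ) :
    cl v1 v2 v3 p N 1 * a + cl v1 v2 v3 p N 2 * b + cl v1 v2 v3 p N 3 * c ≤ sm p μ N ∧
      (cl v1 v2 v3 p N 0 = 0 → sm p μ N = cl v1 v2 v3 p N 1 * a + cl v1 v2 v3 p N 2 * b + cl v1 v2 v3 p N 3 * c) := by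
  induction N with
  | zero => simp [cl, cnt, sm]
  | succ N ih =>
    simp only [cl, sm] at ih
    simp only [cl, cnt, sm, Finset.sum_range_succ]
    have k1 := h1 N
    have k2 := h2 N
    have k3 := h3 N
    obtain ⟨i1, i2⟩ := ih
    cases p N
    · simpa using ⟨i1, i2⟩
    rw [lab]
    cases e1 : v1.testBit N
    · cases e2 : v2.testBit N
      · cases e3 : v3.testBit N
        · simp only [cond_false, cond_true, Bool.true_and, Nat.beq, if_true]
          exact ⟨by omega, fun h => by omega⟩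
        · have := k3 e3
          simp only [cond_false, cond_true, Bool.true_and, Nat.beq, if_true, add_mul, one_mul]
          exact ⟨by omega, fun h => by have := i2 h; omega⟩
      · have := k2 e2
        simp only [cond_false, cond_true, Bool.true_and, Nat.beq, if_true, add_mul, one_mul]
        exact ⟨by omega, fun h => by have := i2 h; omega⟩
    · have := k1 e1
      simp only [cond_false, cond_true, Bool.true_and, Nat.beq, if_true, add_mul, one_mul]
      exact ⟨by omega, fun h => by have := i2 h; omega⟩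

end Cfsg.Agent.TwoF.SpB
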