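import Cfsg.Agent.TwoF.Gen.ASmall
import Cfsg.Agent.TwoF.Gen.BCov

/-!
# TwoF SP-B: reduction to modules of the simple group itself, lemma Q (helper24)
-/

set_option autoImplicit false

namespace Cfsg.Agent.TwoF.SpB

open Module Gen

/-- the goal of S3088 for the faithful irreducible modules of `S` itself -/
def Core (p : ℕ) [Fact p.Prime] (S : Type) [Group S] : Prop :=
  ∀ (V : Type) [AddCommGroup V] [Module (ZMod p) V] [Finite V] (ρ : Representation (ZMod p) S V),
    Function.Injective ρ → Irr ρ ⊤ → G88 p ρ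

section

variable {k : Type*} [Field k] {Y Y' : Type*} [Group Y] [Group Y'] {V : Type*} [AddCommGroup V] [Module k V]
  {ρ : Representation k Y V}

theorem off_map {p : ℕ} (f : Y' →* Y) (hf : Function.Injective f) {B : Subgroup Y'}
    (h : Off p (ρ.comp f : Representation k Y' V) B) : Off p ρ (B.map f) := by
  refine ⟨elemAb_map h.1 f, fun e => h.2.1 ((Subgroup.map_eq_bot_iff_of_injective B hf).1 e), ?_⟩
  rw [← cod_comp, Subgroup.card_map_of_injective hf]
  exact h.2.2

theorem off_comap {p : ℕ} (f : Y' →* Y) (hf : Function.Injective f) {A : Subgroup Y} (hA : A ≤ f.range)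
    (h : Off p ρ A) : Off p (ρ.comp f : Representation k Y' V) (A.comap f) := by
  have e : (A.comap f).map f = A := Subgroup.map_comap_eq_self hA
  refine ⟨elemAb_of (fun a ha b hb => hf ?_) (fun a ha => hf ?_), fun h1 => h.2.1 ?_, ?_⟩
  · rw [map_mul, map_mul]; exact elemAb_comm h.1 ha hb
  · rw [map_pow, map_one]; exact h.1.2 _ ha
  · rw [← e, h1, Subgroup.map_bot]
  · rw [cod_comp, e, ← Subgroup.card_map_of_injective hf, e]
    exact h.2.2

end

variable {p : ℕ} [Fact p.Prime] {S : Type} [Group S]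

theorem Core.of_equiv {T : Type} [Group T] (h : Core p T) (e : S ≃* T) : Core p S := by
  intro V _ _ _ ρ hf hi A hA
  have hs : Function.Injective e.symm.toMonoidHom := e.symm.injective
  obtain ⟨B, h1, h2⟩ := h V (ρ.comp e.symm.toMonoidHom) (hf.comp hs)
    (fun U hU => hi U fun b _ v hv => by
      have := hU (e b) (Subgroup.mem_top _) v hv
      simpa using this) (A.comap e.symm.toMonoidHom)
    (off_comap _ hs (fun a _ => ⟨e a, by simp⟩) hA)
  exact ⟨_, off_map _ hs h1, (cub_comp _ _).1 h2⟩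

/-- the row of a group without outer automorphisms whose multiplier is a cyclic `p`-group -/
theorem row_of_core (ho : Nat.card (Out S) = 1) {m : ℕ} (hm : HasCyclicSchurMultiplier S m)
    (hd : ∀ d, d ∣ m → ¬ p ∣ d → d = 1) (h : Core p S) : Row p S := by
  refine ⟨row88_of_sit fun Y _ _ V _ _ _ K ρ π φ H => ?_, row89_of_not_dvd ?_⟩
  · have hK : K = ⊤ := by
      have := H.toFrm.index_dvd
      rw [ho, Nat.dvd_one] at this
      exact Subgroup.index_eq_one.1 this
    have hZ : Subgroup.center K = ⊥ :=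
      Subgroup.card_eq_one.1 (hd _ (H.toFrm.card_center_dvd' H.toStp.perfect hm) H.cop)
    have hπ : Function.Bijective π := ⟨(MonoidHom.ker_eq_bot_iff π).1 (H.ker_π.trans hZ), H.surj⟩
    subst hK
    exact (h.of_equiv (Subgroup.topEquiv.symm.trans (MulEquiv.ofBijective π hπ))) V ρ H.faithful H.irr
  · rw [ho]
    exact (Fact.out : p.Prime).not_dvd_one

section

variable {k : Type*} [Field k] {Y : Type*} [Group Y] {V : Type*} [AddCommGroup V] [Module k V]
  {ρ : Representation k Y V} [FiniteDimensional k V] [CharP k 2]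

omit [FiniteDimensional k V] in
theorem sq_zero {a : Y} (ha : a ^ 2 = 1) (u : V) : (ρ a - 1) ((ρ a - 1) u) = 0 := by
  have := sub_one_pow (ρ := ρ) (p := 2) (n := 1) (by rw [pow_one]; exact ha)
  rw [pow_one, pow_two] at this
  exact DFunLike.congr_fun this u

/-- **Lemma Q** -/
theorem quad_of_le {A : Subgroup Y} (hA : IsElementaryAbelian 2 A) {t : Y} (ht : t ∈ A)
    (h : cod ρ A ≤ cod ρ (Subgroup.zpowers t) + 2) {a b : Y} (ha : a ∈ A) (hb : b ∈ A) (v : V) :
    (ρ a - 1) ((ρ b - 1) ((ρ t - 1) v)) = 0 := by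
  by_contra hv
  have hI : Inv ρ A (fx ρ (Subgroup.zpowers t)) := fun c hc w hw => by
    rw [mem_fx_zpowers] at hw ⊢
    rw [← rho_mul, elemAb_comm hA ht hc, rho_mul, hw]
  have h1 : cod ρ A = cod ρ (Subgroup.zpowers t) + codOn ρ (fx ρ (Subgroup.zpowers t)) A := by
    rw [← cod_sup_eq, sup_eq_right.2 ((Subgroup.zpowers_le).2 ht)]
  have h2 : codOn ρ (fx ρ (Subgroup.zpowers t)) A = cod (resOn ρ hI) ⊤ := by
    rw [cod_resOn, ← MonoidHom.range_eq_map, Subgroup.range_subtype]
  have m0 : (ρ t - 1) v ∈ fx ρ (Subgroup.zpowers t) := by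
    rw [fx_zpowers]; exact sq_zero (hA.2 t ht) v
  have m1 : ∀ c ∈ A, (ρ c - 1) ((ρ t - 1) v) ∈ fx ρ (Subgroup.zpowers t) := fun c hc =>
    sub_mem (hI c hc _ m0) m0
  have h3 : 3 ≤ cod (resOn ρ hI) ⊤ := by
    refine le_cod_of_indep ![⟨_, m0⟩, ⟨_, m1 a ha⟩, ⟨_, m1 b hb⟩] fun s hs => ?_
    have e : ∀ c ∈ A, (ρ c - 1) (s 0 • (ρ t - 1) v + (s 1 • (ρ a - 1) ((ρ t - 1) v) +
        s 2 • (ρ b - 1) ((ρ t - 1) v))) = 0 := fun c hc => by
      have := congrArg Subtype.val (hs ⟨c, hc⟩ (Subgroup.mem_top _))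
      rw [coe_resOn] at this
      simp only [Fin.sum_univ_succ, Fin.sum_univ_zero, add_zero, Submodule.coe_add, Submodule.coe_smul,
        Matrix.cons_val_zero, Matrix.cons_val_succ, Fin.succ_zero_eq_one, Fin.succ_one_eq_two] at this
      exact sub_eq_zero.2 this
    have xx := sq_zero (ρ := ρ) (hA.2 a ha)
    have yy := sq_zero (ρ := ρ) (hA.2 b hb)
    have yx := sub_one_comm (ρ := ρ) (elemAb_comm hA hb ha)
    have e1 := e a ha
    have e2 := e b hb
    clear hs e
    generalize (ρ t - 1) v = u at *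
    generalize ρ a - 1 = x at *
    generalize ρ b - 1 = y at *
    have e0 := congrArg x e2
    simp [xx, yy, yx, hv] at e0
    simp [xx, yy, yx, hv, e0] at e1 e2
    intro i
    fin_cases i <;> assumption
  omega

omit [FiniteDimensional k V] [CharP k 2] in
/-- the elements `t` of `A` with `[V, t, A, A] = 0` -/
def qk (ρ : Representation k Y V) {A : Subgroup Y} (hA : IsElementaryAbelian 2 A) : Subgroup Y where
  carrier := {t | t ∈ A ∧ ∀ a ∈ A, ∀ b ∈ A, ∀ v, (ρ a - 1) ((ρ b - 1) ((ρ t - 1) v)) = 0}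
  one_mem' := ⟨one_mem _, fun a _ b _ v => by simp⟩
  mul_mem' := fun {s t} hs ht => ⟨mul_mem hs.1 ht.1, fun a ha b hb v => by
    rw [Gen.mul_sub_one, map_add, map_add, map_add, map_add, hs.2 a ha b hb, ht.2 a ha b hb, hs.2 a ha b hb]
    simp⟩
  inv_mem' := fun {t} ht => by
    have : t⁻¹ = t := inv_eq_of_mul_eq_one_right (by rw [← pow_two]; exact hA.2 t ht.1)
    rw [this]; exact ht

omit [FiniteDimensional k V] in
/-- `A` is cubic if `qk` has index at most two -/
theorem cub_of_qk {A : Subgroup Y} (hA : IsElementaryAbelian 2 A)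
    (h : ∀ a ∈ A, ∀ b ∈ A, a ∈ qk ρ hA ∨ b ∈ qk ρ hA ∨ a * b ∈ qk ρ hA) : Cub ρ A := by
  intro a ha b hb c hc
  ext v
  change (ρ a - 1) ((ρ b - 1) ((ρ c - 1) v)) = 0
  rcases h b hb c hc with h1 | h1 | h1
  · rw [sub_one_comm (elemAb_comm hA hb hc)]
    exact h1.2 a ha c hc v
  · exact h1.2 a ha b hb v
  · have e : c = b * (b * c) := by rw [← mul_assoc, ← pow_two, hA.2 b hb, one_mul]
    rw [e, Gen.mul_sub_one, map_add, map_add, map_add, map_add, sq_zero (hA.2 b hb), sq_zero (hA.2 b hb),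
      h1.2 a ha b hb]
    simp

/-- all non-trivial elements have large codimension -/
theorem cub_of_all {A : Subgroup Y} (hA : IsElementaryAbelian 2 A)
    (h : ∀ t ∈ A, t ≠ 1 → cod ρ A ≤ cod ρ (Subgroup.zpowers t) + 2) : Cub ρ A := by
  refine cub_of_qk hA fun a ha b _ => Or.inl ?_
  by_cases h1 : a = 1
  · rw [h1]; exact one_mem _
  · exact ⟨ha, fun x hx y hy v => quad_of_le hA ha (h a ha h1) hx hy v⟩

omit [FiniteDimensional k V] in
/-- more than a third of the elements lie in `qk` -/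
theorem cub_of_card [Finite Y] {A : Subgroup Y} (hA : IsElementaryAbelian 2 A)
    (h : Nat.card A < 3 * Nat.card (qk ρ hA)) : Cub ρ A := by
  have hle : qk ρ hA ≤ A := fun _ h => h.1
  have h1 := ((qk ρ hA).subgroupOf A).index_mul_card
  rw [Nat.card_congr (Subgroup.subgroupOfEquivOfLe hle).toEquiv] at h1
  have h2 : ((qk ρ hA).subgroupOf A).index < 3 := by
    rw [← h1] at h
    exact lt_of_mul_lt_mul_right h (Nat.zero_le _)
  have h3 : ((qk ρ hA).subgroupOf A).index ≠ 0 := Subgroup.index_ne_zero_of_finite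
  refine cub_of_qk hA fun a ha b hb => ?_
  rcases (by omega : ((qk ρ hA).subgroupOf A).index = 1 ∨ ((qk ρ hA).subgroupOf A).index = 2) with h4 | h4
  · left
    have : (⟨a, ha⟩ : A) ∈ (qk ρ hA).subgroupOf A := by rw [Subgroup.index_eq_one.1 h4]; exact Subgroup.mem_top _
    exact this
  · by_cases h5 : a ∈ qk ρ hA
    · exact Or.inl h5
    by_cases h6 : b ∈ qk ρ hA
    · exact Or.inr (Or.inl h6)
    · exact Or.inr (Or.inr ((Subgroup.mul_mem_iff_of_index_two h4 (a := ⟨a, ha⟩) (b := ⟨b, hb⟩)).2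
        (iff_of_false h5 h6)))

end

end Cfsg.Agent.TwoF.SpB
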