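import Cfsg.Agent.TwoF.SpB.Mon
import Cfsg.Agent.TwoF.SpB.C1Tab

/-!
# TwoF SP-B: the data for Co1 (helper24)
-/

set_option autoImplicit false
set_option maxRecDepth 100000
set_option Elab.async false

namespace Cfsg.Agent.TwoF.SpB.C1

/-- the data -/
def d : Dat where
  n := 11
  s := 23
  ν := 10
  N := 191
  c := 16777215
  eb := [11654144, 8077824, 4038912, 2019456, 15515712, 11952160, 10170384, 7221256, 13938692, 4845570, 13062145]
  Gl := [729656069134889100313307177434127854, 770206826545150152525069379756708460, 665490754562320014943925135454864470, 776575502967684448917478299129795168, 776695969388484824783222985899232896, 582320240765117451167547417470411126, 984723249968559545477841165439377760, 729568878528077854482723183083497136, 517511504946929859838518136924111954, 974338656214362718975024378963690560, 956302485175575353788796878166559809]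
  Ms := [[383, 1248, 720, 1856, 1732, 1154, 64, 192, 520, 1600, 1024], [575, 1275, 1205, 1856, 1439, 1767, 1800, 502, 1352, 1608, 1024], [9, 1026, 76, 8, 1048, 96, 64, 1216, 1608, 1352, 1024], [276, 1275, 772, 776, 517, 388, 832, 548, 256, 512, 1024], [1526, 1275, 1205, 776, 1767, 1439, 832, 1599, 584, 328, 1024], [194, 1026, 402, 162, 1152, 26, 19, 1040, 1174, 879, 1024], [26, 2, 402, 19, 16, 194, 162, 128, 150, 1903, 1024], [1541, 251, 507, 2035, 1519, 548, 955, 1407, 6, 1023, 1024], [24, 2, 1015, 1032, 1033, 1056, 64, 1152, 1544, 264, 1024], [3, 2, 2013, 10, 16, 34, 162, 96, 546, 288, 1024], [2047, 1025, 2, 4, 1032, 16, 32, 1088, 1152, 1280, 1536]]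
  ct := [[], [[0]], [[0], [1]], [[1, 0], [1], [2]], [[1, 0], [1], [2], [3]], [[1, 0], [1], [4, 3, 2], [4], [3]], [[4, 3, 0], [1], [4, 3, 2], [4], [3], [5]], [[5, 4, 2, 0], [1], [6, 5, 3, 1], [6, 5, 2, 1], [6, 5, 4, 3, 2, 1], [5], [6]], [[0], [4, 3, 1], [2], [6, 5, 2, 1], [6, 5, 4, 3, 2, 1], [6, 4, 2, 1], [6], [7, 6, 5, 3, 2, 1]], [[8, 0], [6, 4, 3, 1], [8, 4, 3, 2], [8, 7, 2], [8, 7, 4, 3, 2], [7, 1], [6], [6, 5, 4, 3, 1], [8]]]
  hw := [10, 7, 10, 5]
  ww := []
  Mh := [973, 1789, 1945, 983, 34, 2041, 1019, 1542, 859, 1060, 1024]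
  Mw := [1, 2, 4, 8, 16, 32, 64, 128, 256, 512, 1024]
  kk := 1
  TP := [919792126524317560502641751604666368, 1002955567405731424122191317374599588, 1323447839121157526100633915597917314, 212915230970604448655576231093928832, 462181943240946873677179203918627040, 701912895526733640379860647526550162, 27373662926213060507332250798974352, 349406180364877197792517604764061566, 194813812126245411323505581967796426, 50624944560643348035449172666188968, 24765650107623347948213528699588]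
  q := [0, 1, 1024, 0, 2, 0, 0, 0, 0, 0, 0]
  r3 := [1]
  r2 := []

theorem lvc : lv d.n d.A d.ν (cov d.n d.N T) = true := by decide +kernel

theorem f5 : d.u 0 ≤ d.ν ∧ chkForm d.n [d.A (d.u 0), d.A d.ν] [] 0 0 0 = true := by decide +kernel

theorem f4 : d.u 1 ≤ d.ν ∧ d.u 2 < 2 ^ d.n ∧ d.u 2 ≠ 0 ∧ app (d.A (d.u 1)) (d.u 2) = d.u 2 ∧ app d.Mh (d.u 2) = d.u 2 ∧
    chkForm d.n [d.A (d.u 1), d.Mh] [d.u 2] (app d.TP (d.u 2)) (d.u 3) (d.u 4) = true := by decide +kernel

theorem f3 : chkForm d.n [d.A d.ν, d.Mw] [] (app d.TP (d.u 5)) (d.u 6) (d.u 7) = true ∧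
    (d.u 5 = 0 ∨ (2 ^ d.n ≤ d.u 5 ∧ d.u 5 < 2 ^ 11 ∧ d.u 8 ≤ d.ν ∧ d.u 9 < 2 ^ d.n ∧ d.u 9 ≠ 0 ∧
      app (d.M (d.u 8)) (d.u 5 ^^^ d.u 9) = d.u 5)) := by decide +kernel

theorem z1 : chkZ1 d.n d.TP = true := by decide +kernel

theorem z3 : ∀ D ∈ d.r3, chkRep d.n d.TP 3 D = true := by decide +kernel

theorem z2 : ∀ D ∈ d.r2, chkRep d.n d.TP 2 D = true := by decide +kernel

theorem z : d.u 10 ≤ d.ν ∧ chkZ d.n d.N d.TP T [d.M d.ν, d.M (d.u 10)] d.r3 d.r2 = true := by decide +kernel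

end Cfsg.Agent.TwoF.SpB.C1
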