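import Cfsg.Agent.TwoF.SpB.C1Tab

/-!
# TwoF SP-B: check of the table for M24 (helper24)
-/

set_option autoImplicit false
set_option maxRecDepth 100000
set_option Elab.async false

namespace Cfsg.Agent.TwoF.SpB.C1

theorem row0 : allTo (fun j => chkRow 191 T (0 + j)) 50 = true := by decide +kernel

theorem row1 : allTo (fun j => chkRow 191 T (50 + j)) 50 = true := by decide +kernel

theorem row2 : allTo (fun j => chkRow 191 T (100 + j)) 50 = true := by decide +kernel

theorem row3 : allTo (fun j => chkRow 191 T (150 + j)) 41 = true := by decide +kernel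

theorem row_ok : ∀ j < 191, chkRow 191 T j = true := fun j hj => by
  by_cases h0 : j < 50
  · have := (allTo_iff _ _).1 row0 (j - 0) (by omega)
    rwa [show 0 + (j - 0) = j by omega] at this
  by_cases h1 : j < 100
  · have := (allTo_iff _ _).1 row1 (j - 50) (by omega)
    rwa [show 50 + (j - 50) = j by omega] at this
  by_cases h2 : j < 150
  · have := (allTo_iff _ _).1 row2 (j - 100) (by omega)
    rwa [show 100 + (j - 100) = j by omega] at this
  have := (allTo_iff _ _).1 row3 (j - 150) (by omega)
  rwa [show 150 + (j - 150) = j by omega] at this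

theorem tab : TabOk 11 191 T := tabOk_of rec_ok row_ok

end Cfsg.Agent.TwoF.SpB.C1
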