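import Cfsg.Agent.TwoF.SpB.C1Tab

/-!
# TwoF SP-B: the elementary abelian subgroups of a Sylow 2-subgroup of M24 (helper24)
-/

set_option autoImplicit false
set_option maxRecDepth 100000
set_option Elab.async false

namespace Cfsg.Agent.TwoF.SpB.C1

theorem top0 : allTo (fun j => top T (PP 11) (0 + j)) 120 = true := by decide +kernel

theorem top1 : allTo (fun j => top T (PP 11) (120 + j)) 25 = true := by decide +kernel

theorem top2 : allTo (fun j => top T (PP 11) (145 + j)) 15 = true := by decide +kernel

theorem top3 : allTo (fun j => top T (PP 11) (160 + j)) 12 = true := by decide +kernel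

theorem top4 : allTo (fun j => top T (PP 11) (172 + j)) 10 = true := by decide +kernel

theorem top5 : allTo (fun j => top T (PP 11) (182 + j)) 9 = true := by decide +kernel

theorem top_ok : ∀ j < 191, top T (PP 11) j = true := fun j hj => by
  by_cases h0 : j < 120
  · have := (allTo_iff _ _).1 top0 (j - 0) (by omega)
    rwa [show 0 + (j - 0) = j by omega] at this
  by_cases h1 : j < 145
  · have := (allTo_iff _ _).1 top1 (j - 120) (by omega)
    rwa [show 120 + (j - 120) = j by omega] at this
  by_cases h2 : j < 160
  · have := (allTo_iff _ _).1 top2 (j - 145) (by omega)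
    rwa [show 145 + (j - 145) = j by omega] at this
  by_cases h3 : j < 172
  · have := (allTo_iff _ _).1 top3 (j - 160) (by omega)
    rwa [show 160 + (j - 160) = j by omega] at this
  by_cases h4 : j < 182
  · have := (allTo_iff _ _).1 top4 (j - 172) (by omega)
    rwa [show 172 + (j - 172) = j by omega] at this
  have := (allTo_iff _ _).1 top5 (j - 182) (by omega)
  rwa [show 182 + (j - 182) = j by omega] at this

end Cfsg.Agent.TwoF.SpB.C1
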