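import Cfsg.Agent.TwoF.SpB.C2Small
import Cfsg.Agent.TwoF.SpB.C1Dat
import Cfsg.Agent.TwoF.SpB.C1Row
import Cfsg.Agent.TwoF.SpB.C1Top
import Cfsg.Agent.CoOneType.CoOneE
import Cfsg.Agent.H49.CoOnePr

/-!
# TwoF SP-B: the 2-rank and the small modules of Co1 (helper24)
-/

set_option autoImplicit false
set_option maxRecDepth 100000

namespace Cfsg.Agent.TwoF.SpB.C1

open Module Cfsg.Agent.SporadicA.GolayPerm Cfsg.Agent.SporadicStructure.M24El Cfsg.Agent.Co2Type.Mono
open Cfsg.Agent.SporadicA.GolayBase (isCode isCode_lt isCode_xor)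
open Cfsg.Agent.CoOneType.CoOneE (pr pr_sign_eq_iff)
open Cfsg.Agent.SporadicA.Co1Simple (allOne)
open Cfsg.Agent.SporadicA.Co0Mono (signCo0 signCo0_zero)

theorem code_all : isCode 16777215 = true := by decide +kernel

theorem cd_all : cd 16777215 = allOne := Subtype.ext (by
  rw [coe_cd code_all]
  funext p
  revert p
  decide +kernel)

theorem mo_id (m : ℕ) : mo m idP = signCo0 (cd m) := by rw [mo, el_idP, map_one, mul_one]

/-- sign changes -/
noncomputable def sg (m : ℕ) : Spor.Co1 := pr (mo m idP)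

/-- permutations -/
noncomputable def ps (P : ℕ) : Spor.Co1 := pr (mo 0 P)

theorem sg_eq (m : ℕ) : sg m = pr (mo m idP) := rfl

theorem ps_eq (P : ℕ) : ps P = pr (mo 0 P) := rfl

theorem code_zero : isCode 0 = true := by decide +kernel

theorem mon : Mon isCode ok sg ps 16777215 where
  hm := ⟨ok_idP, fun _ _ => ok_pcomp, by rw [ps_eq, mo_one, map_one], fun P Q hP hQ => by
    rw [ps_eq, ps_eq, ps_eq, ← map_mul, mo_mul code_zero code_zero hP hQ, pimg_zero (ok_iff.1 hP).1, Nat.xor_self]⟩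
  m0 := code_zero
  mx := fun _ _ => isCode_xor
  mc := code_all
  sx := fun _ _ ha hb => by rw [sg_eq, sg_eq, sg_eq, ← map_mul, mo_mul_mo ha hb]
  sc := by
    rw [sg_eq, mo_id, cd_all, ← map_one pr, ← signCo0_zero, eq_comm, pr_sign_eq_iff]
    exact Or.inr (zero_add _).symm
  si := fun m hm h => by
    rw [sg_eq, mo_id, ← map_one pr, ← signCo0_zero, eq_comm, pr_sign_eq_iff, zero_add, ← cd_all, ← cd_zero] at h
    exact h.imp (cd_inj hm code_zero) (cd_inj hm code_all)
  cj := fun P m hP hm => by rw [ps_eq, sg_eq, sg_eq, ← map_inv, ← map_mul, ← map_mul, C2.mo_conj hm hP]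

theorem small : d.chk isCode ok = true := by decide +kernel

theorem ck : d.Ck isCode ok T :=
  ⟨by decide, by decide, by decide +kernel, by decide, by decide +kernel, small, lvc, f5, f4, f3, tab, top_ok, z1, z3, z2,
    z⟩

theorem fin : Finite Spor.Co1 := Nat.finite_of_card_ne_zero (by rw [H49.CoOnePr.card_co1]; norm_num)

/-- **the 2-rank and the modules of dimension at most 24** -/
theorem main : (∀ A : Subgroup Spor.Co1, IsElementaryAbelian 2 A → Nat.card A ≤ 2 ^ 11) ∧
    ∀ (V : Type) [AddCommGroup V] [Module F2 V] [Finite V] (ρ : Representation F2 Spor.Co1 V), finrank F2 V ≤ 24 →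
      G88 2 ρ :=
  haveI := fin
  ck.main mon (by rw [H49.CoOnePr.card_co1]; decide +kernel)

end Cfsg.Agent.TwoF.SpB.C1
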