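import Cfsg.Agent.TwoF.SpB.Mon
import Cfsg.Agent.TwoF.SpB.C2Tab

/-!
# TwoF SP-B: the data for Co2 (helper24)
-/

set_option autoImplicit false
set_option maxRecDepth 100000
set_option Elab.async false

namespace Cfsg.Agent.TwoF.SpB.C2

/-- the data -/
def d : Dat where
  n := 10
  s := 11
  ν := 8
  N := 71
  c := 0
  eb := [4845570, 2605066, 421910, 692282, 1265762, 90318, 180636, 21116, 42232, 10558]
  Gl := [29340620570662517957029049942508631, 984330238668445353307680420861740096, 984193134333667655196206109968142752, 976990105829392847739289005721748544, 984355386066803413838770983050249280, 984232233431490913630068531325373600, 22457238388354283599544079504026903, 984159739662526352166722481920720096, 980542068012182071734141025679090176]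
  Ms := [[299, 296, 4, 290, 164, 32, 832, 52, 256, 512, 1801], [57, 164, 4, 48, 296, 288, 576, 294, 256, 512, 1182], [1, 620, 4, 520, 70, 630, 632, 806, 670, 512, 1480], [137, 29, 4, 128, 15, 297, 832, 8, 256, 512, 1024], [5, 296, 4, 12, 164, 144, 120, 132, 158, 512, 1164], [457, 164, 516, 960, 16, 118, 742, 624, 670, 512, 1480], [340, 457, 525, 349, 69, 544, 841, 578, 256, 512, 1792], [57, 164, 60, 174, 70, 208, 136, 238, 670, 414, 1792], [424, 303, 107, 434, 54, 96, 802, 116, 308, 532, 1024]]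
  ct := [[], [[0]], [[1, 0], [1]], [[0], [1], [2, 1]], [[0], [1], [2], [3]], [[1, 0], [1], [2], [3, 1], [4, 1]], [[0], [1], [5, 1], [3], [4, 3], [2, 1]], [[5, 2, 1, 0], [1], [2], [5, 3, 2, 1], [4, 2, 1], [5], [6]]]
  hw := [8, 8, 4, 8, 5, 8, 4]
  ww := [8, 8, 5, 8, 3, 8, 8, 3, 8, 7]
  Mh := [457, 107, 237, 320, 521, 641, 17, 617, 712, 240]
  Mw := [518, 456, 226, 122, 86, 72, 12, 51, 60, 124]
  kk := 3
  TP := [349851168593425337280407453696, 581408427032793003785422111664, 62179062275491272221354770800, 477523020339866456599761716192, 524316646247892774533327394406, 24796363845701888970973267422, 160948588177192580086798754236, 428963149225342347237334479978, 191881327095449930168197088878, 187792136643814850279462170, 234017289138786317767317881348]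
  q := [0, 4, 926, 0, 3, 1024, 0, 2, 0, 777, 0]
  r3 := [1, 83]
  r2 := [1029]

theorem lvc : lv d.n d.A d.ν (cov d.n d.N T) = true := by decide +kernel

theorem f5 : d.u 0 ≤ d.ν ∧ chkForm d.n [d.A (d.u 0), d.A d.ν] [] 0 0 0 = true := by decide +kernel

theorem f4 : d.u 1 ≤ d.ν ∧ d.u 2 < 2 ^ d.n ∧ d.u 2 ≠ 0 ∧ app (d.A (d.u 1)) (d.u 2) = d.u 2 ∧ app d.Mh (d.u 2) = d.u 2 ∧
    chkForm d.n [d.A (d.u 1), d.Mh] [d.u 2] (app d.TP (d.u 2)) (d.u 3) (d.u 4) = true := by decide +kernel

theorem f3 : chkForm d.n [d.A d.ν, d.Mw] [] (app d.TP (d.u 5)) (d.u 6) (d.u 7) = true ∧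
    (d.u 5 = 0 ∨ (2 ^ d.n ≤ d.u 5 ∧ d.u 5 < 2 ^ 11 ∧ d.u 8 ≤ d.ν ∧ d.u 9 < 2 ^ d.n ∧ d.u 9 ≠ 0 ∧
      app (d.M (d.u 8)) (d.u 5 ^^^ d.u 9) = d.u 5)) := by decide +kernel

theorem z1 : chkZ1 d.n d.TP = true := by decide +kernel

theorem z3 : ∀ D ∈ d.r3, chkRep d.n d.TP 3 D = true := by decide +kernel

theorem z2 : ∀ D ∈ d.r2, chkRep d.n d.TP 2 D = true := by decide +kernel

theorem z : d.u 10 ≤ d.ν ∧ chkZ d.n d.N d.TP T [d.M d.ν, d.M (d.u 10)] d.r3 d.r2 = true := by decide +kernel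

end Cfsg.Agent.TwoF.SpB.C2
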