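import Cfsg.Agent.TwoF.SpB.C2Tab

/-!
# TwoF SP-B: the elementary abelian subgroups of a Sylow 2-subgroup of M22:2 (helper24)
-/

set_option autoImplicit false
set_option maxRecDepth 100000
set_option Elab.async false

namespace Cfsg.Agent.TwoF.SpB.C2

theorem row0 : allTo (fun j => chkRow 71 T (0 + j)) 71 = true := by decide +kernel

theorem row_ok : ∀ j < 71, chkRow 71 T j = true := fun j hj => by
  have := (allTo_iff _ _).1 row0 (j - 0) (by omega)
  rwa [show 0 + (j - 0) = j by omega] at this

theorem tab : TabOk 10 71 T := tabOk_of rec_ok row_ok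

theorem top0 : allTo (fun j => top T (PP 10) (0 + j)) 71 = true := by decide +kernel

theorem top_ok : ∀ j < 71, top T (PP 10) j = true := fun j hj => by
  have := (allTo_iff _ _).1 top0 (j - 0) (by omega)
  rwa [show 0 + (j - 0) = j by omega] at this

end Cfsg.Agent.TwoF.SpB.C2
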