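import Cfsg.Agent.TwoF.SpB.MonMain
import Cfsg.Agent.TwoF.SpB.C2Dat
import Cfsg.Agent.TwoF.SpB.C2Row
import Cfsg.Agent.Co2Type.Mono
import Cfsg.Agent.H49.CoStab

/-!
# TwoF SP-B: the 2-rank and the small modules of Co2 (helper24)
-/

set_option autoImplicit false
set_option maxRecDepth 100000

namespace Cfsg.Agent.TwoF.SpB.C2

open Module Cfsg.Agent.SporadicA.GolayPerm Cfsg.Agent.SporadicStructure.M24El Cfsg.Agent.Co2Type.Mono
open Cfsg.Agent.SporadicA.GolayBase (isCode isCode_lt)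

theorem mo_conj {m P : ℕ} (hm : isCode m = true) (hP : ok P = true) :
    mo 0 P * mo m idP * (mo 0 P)⁻¹ = mo (pimg P m) idP := by
  delta mo
  simp only [cd_zero, SporadicA.Co0Mono.signCo0_zero, one_mul, el_idP, map_one, mul_one]
  rw [SporadicA.Co0Mono.perm_mul_sign_mul_inv, wordPerm_cd hP hm]

/-- sign changes -/
noncomputable def sg (m : ℕ) : Spor.Co2 := mo2 m idP

/-- permutations -/
noncomputable def ps (P : ℕ) : Spor.Co2 := mo2 0 P

theorem sg_eq (m : ℕ) : sg m = mo2 m idP := rfl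

theorem ps_eq (P : ℕ) : ps P = mo2 0 P := rfl

theorem idP_lt : idP < 2 ^ 120 := by decide +kernel

theorem mon : Mon inE okP sg ps 0 where
  hm := ⟨okP_idP, fun _ _ => okP_pcomp, mo2_one, fun P Q hP hQ => by
    rw [ps_eq, ps_eq, ps_eq, mo2_mul inE_zero inE_zero hP hQ, pimg_zero (ok_iff.1 (ok_of_okP hP)).1, Nat.xor_self]⟩
  m0 := inE_zero
  mx := fun _ _ => inE_xor
  mc := inE_zero
  sx := fun _ _ ha hb => by rw [sg_eq, sg_eq, sg_eq, mo2_mul_left ha hb okP_idP]
  sc := mo2_one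
  si := fun m hm h => Or.inl (mo2_inj hm inE_zero okP_idP okP_idP idP_lt idP_lt (h.trans mo2_one.symm)).1
  cj := fun P m hP hm => toCo0_injective (by
    rw [map_mul, map_mul, map_inv, ps_eq, sg_eq, sg_eq, toCo0_mo2 inE_zero hP, toCo0_mo2 hm okP_idP,
      toCo0_mo2 (inE_pimg hP hm) okP_idP, mo_conj (isCode_of_inE hm) (ok_of_okP hP)])

theorem small : d.chk inE okP = true := by decide +kernel

theorem ck : d.Ck inE okP T :=
  ⟨by decide, by decide, Nat.prime_eleven, by decide, by decide +kernel, small, lvc, f5, f4, f3, tab, top_ok, z1, z3, z2,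
    z⟩

theorem fin : Finite Spor.Co2 := Nat.finite_of_card_ne_zero (by rw [H49.CoStab.card_co2]; norm_num)

/-- **the 2-rank and the modules of dimension at most 24** -/
theorem main : (∀ A : Subgroup Spor.Co2, IsElementaryAbelian 2 A → Nat.card A ≤ 2 ^ 10) ∧
    ∀ (V : Type) [AddCommGroup V] [Module F2 V] [Finite V] (ρ : Representation F2 Spor.Co2 V), finrank F2 V ≤ 24 →
      G88 2 ρ :=
  haveI := fin
  ck.main mon (by rw [H49.CoStab.card_co2]; decide +kernel)

end Cfsg.Agent.TwoF.SpB.C2
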