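import Cfsg.Agent.TwoF.SpB.Fin

/-!
# TwoF SP-B: the 2-group `P` as a chain, and the action on `E` (helper24)
-/

set_option autoImplicit false
set_option maxHeartbeats 400000
set_option linter.unusedSectionVars false

namespace Cfsg.Agent.TwoF.SpB

open Module Gen

/-- the action of the normaliser -/
theorem exists_sigma {G : Type} [Group G] {n : ℕ} (e : Sp n → G) (add : ∀ a b, e (a + b) = e a * e b)
    (inj : Function.Injective e) : ∃ σ : Representation F2 (Subgroup.normalizer (Set.range e)) (Sp n),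
      ∀ (g : Subgroup.normalizer (Set.range e)) a, (g : G) * e a * (g : G)⁻¹ = e (σ g a) := by
  have h : ∀ (g : Subgroup.normalizer (Set.range e)) a, ∃ b, e b = (g : G) * e a * (g : G)⁻¹ := fun g a =>
    (g.2 (e a)).1 ⟨a, rfl⟩
  choose f hf using h
  have h1 : ∀ g a b, f g (a + b) = f g a + f g b := fun g a b => inj (by rw [add, hf, hf, hf, add]; group)
  have h0 : ∀ g, f g 0 = 0 := fun g => by
    have := h1 g 0 0
    rwa [add_zero, add_self'] at this
  let l : Subgroup.normalizer (Set.range e) → Module.End F2 (Sp n) := fun g =>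
    { toFun := f g
      map_add' := h1 g
      map_smul' := fun c v => by
        rcases f2_cases c with h | h
        · rw [h, zero_smul, h0, RingHom.id_apply, zero_smul]
        · rw [h, one_smul, RingHom.id_apply, one_smul] }
  refine ⟨⟨⟨l, LinearMap.ext fun a => inj ?_⟩, fun g g' => LinearMap.ext fun a => inj ?_⟩, fun g a => (hf g a).symm⟩
  · change e (f 1 a) = e a
    rw [hf]; simp
  · change e (f (g * g') a) = e (f g (f g' a))
    rw [hf, hf, hf, Subgroup.coe_mul]; group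

theorem mem_sup_two {Y : Type} [Group Y] {H : Subgroup Y} {g : Y} (h2 : g * g = 1)
    (hn : g ∈ Subgroup.normalizer (H : Set Y)) {x : Y} (hx : x ∈ H ⊔ Subgroup.zpowers g) :
    x ∈ H ∨ ∃ h ∈ H, x = g * h := by
  have hi : g⁻¹ = g := inv_eq_of_mul_eq_one_right h2
  have hc : ∀ h ∈ H, g * h * g ∈ H := fun h hh => by
    have := (hn h).1 hh
    rwa [hi] at this
  let K : Subgroup Y :=
    { carrier := {x | x ∈ H ∨ ∃ h ∈ H, x = g * h}
      one_mem' := Or.inl (one_mem _)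
      mul_mem' := by
        rintro a b (ha | ⟨a, ha, rfl⟩) (hb | ⟨b, hb, rfl⟩)
        · exact Or.inl (mul_mem ha hb)
        · refine Or.inr ⟨_, mul_mem (hc a ha) hb, ?_⟩
          rw [← mul_assoc, ← mul_assoc, ← mul_assoc, ← mul_assoc, h2, one_mul]
        · exact Or.inr ⟨_, mul_mem ha hb, mul_assoc _ _ _⟩
        · exact Or.inl (by rw [← mul_assoc]; exact mul_mem (hc a ha) hb)
      inv_mem' := by
        rintro a (ha | ⟨a, ha, rfl⟩)
        · exact Or.inl (inv_mem ha)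
        · refine Or.inr ⟨_, hc _ (inv_mem ha), ?_⟩
          rw [mul_inv_rev, hi, ← mul_assoc, ← mul_assoc, h2, one_mul] }
  exact (show H ⊔ Subgroup.zpowers g ≤ K from sup_le (fun _ h => Or.inl h)
    (Subgroup.zpowers_le.2 (Or.inr ⟨1, one_mem _, (mul_one g).symm⟩))) hx

/-- force a list -/
def frL : List ℕ → (List ℕ → Bool) → Bool
  | [], k => k []
  | a :: l, k => frc a fun b => frL l fun m => k (b :: m)

theorem frL_realised : True := by have := @frL.eq_def; trivial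

theorem frL_eq (l : List ℕ) (k : List ℕ → Bool) : frL l k = k l := by
  induction l generalizing k with
  | nil => rfl
  | cons a l ih => rw [frL, frc_eq, ih]

/-- adjoin the products with `M` -/
def dblK (M : List ℕ) : List (List ℕ) → (List (List ℕ) → Bool) → Bool
  | [], k => k []
  | A :: L, k => cond (leq A M) false (mulK M A fun B => dblK M L fun L' => k (A :: B :: L'))

theorem dblK_realised : True := by have := @dblK.eq_def; trivial

theorem dblK_sound {M : List ℕ} {L : List (List ℕ)} {k : List (List ℕ) → Bool} (h : dblK M L k = true) :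
    M ∉ L ∧ ∃ L', k L' = true ∧ ∀ B, B ∈ L' ↔ B ∈ L ∨ ∃ A ∈ L, B = mulM M A := by
  induction L generalizing k with
  | nil => exact ⟨by simp, [], h, by simp⟩
  | cons A L ih =>
    rw [dblK] at h
    cases e : leq A M
    · rw [e, cond_false, mulK_eq] at h
      obtain ⟨h1, L', h2, h3⟩ := ih h
      refine ⟨fun h4 => ?_, _, h2, fun B => ?_⟩
      · rcases List.mem_cons.1 h4 with h5 | h5
        · rw [leq_iff.2 h5.symm] at e; exact absurd e (by decide)
        · exact h1 h5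
      · simp only [List.mem_cons, h3, exists_eq_or_imp]
        tauto
    · rw [e, cond_true] at h; exact absurd h (by decide)

/-- the matrices of the terms of the chain -/
noncomputable def lv (n : ℕ) (M : ℕ → List ℕ) (j : ℕ) : (List (List ℕ) → Bool) → Bool :=
  Nat.rec (fun k => frL (idM n) fun I => k [I]) (fun j r k => r fun L => frL (M j) fun A => dblK A L k) j

/-- every involution is in the table -/
def cov (n N : ℕ) (T : ℕ → Rec) (L : List (List ℕ)) : Bool :=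
  frL (idM n) fun I => L.all fun A => neq2 A I A I || (leq A I || !allTo (fun j => !leq A (T j).mt) N)

variable {Y : Type} [Group Y] [Finite Y] {n : ℕ} {σ : Representation F2 Y (Sp n)} {e : Sp n → Y}

/-- the invariant -/
structure Ci (σ : Representation F2 Y (Sp n)) (e : Sp n → Y) (H : Subgroup Y) (L : List (List ℕ)) (m : ℕ) :
    Prop where
  pg : IsPGroup 2 H
  cd : 2 ^ m ≤ Nat.card H
  mt : ∀ x ∈ H, ∃ A ∈ L, σ x = lin n n A
  kr : ∀ x ∈ H, σ x = 1 → ∃ a, e a = x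
  wf : ∀ A ∈ L, wf n n A = true

theorem Ci.step {H : Subgroup Y} {L L' : List (List ℕ)} {m : ℕ} (h : Ci σ e H L m) {g : Y} (h2 : g * g = 1)
    (hn : g ∈ Subgroup.normalizer (H : Set Y)) {M : List ℕ} (hM : σ g = lin n n M) (hw : SpB.wf n n M = true)
    (hL : M ∉ L) (hL' : ∀ B, B ∈ L' ↔ B ∈ L ∨ ∃ A ∈ L, B = mulM M A) :
    Ci σ e (H ⊔ Subgroup.zpowers g) L' (m + 1) := by
  have hg : ∀ x ∈ H, σ g ≠ σ x := fun x hx e1 => by
    obtain ⟨A, hA, e2⟩ := h.mt x hx
    exact hL (lin_inj hw (h.wf A hA) (by rw [← hM, e1, e2]) ▸ hA)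
  refine ⟨h.pg.to_sup_of_normal_left' (elemAb_isPGroup (elemAb_zpowers (by rw [pow_two, h2])))
    (Subgroup.zpowers_le.2 hn), ?_, fun x hx => ?_, fun x hx h1 => ?_, fun B hB => ?_⟩
  · obtain ⟨c, hc⟩ := Subgroup.card_dvd_of_le (le_sup_left : H ≤ H ⊔ Subgroup.zpowers g)
    have h3 : c ≠ 1 := fun e1 => hg g (by
      rw [Subgroup.eq_of_le_of_card_ge (le_sup_left : H ≤ H ⊔ Subgroup.zpowers g) (by rw [hc, e1, mul_one])]
      exact Subgroup.mem_sup_right (Subgroup.mem_zpowers g)) rfl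
    have h4 : c ≠ 0 := fun e1 => by
      rw [e1, mul_zero] at hc
      exact Nat.card_pos.ne' hc
    rw [hc, pow_succ]
    exact Nat.mul_le_mul h.cd (by omega)
  · rcases mem_sup_two h2 hn hx with h3 | ⟨x, h3, rfl⟩
    · obtain ⟨A, hA, e1⟩ := h.mt x h3
      exact ⟨A, (hL' A).2 (Or.inl hA), e1⟩
    · obtain ⟨A, hA, e1⟩ := h.mt x h3
      exact ⟨_, (hL' _).2 (Or.inr ⟨A, hA, rfl⟩), by
        rw [map_mul, hM, e1, lin_mulM (wf_iff.1 hw).1 (wf_iff.1 (h.wf A hA)).1]; rfl⟩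
  · rcases mem_sup_two h2 hn hx with h3 | ⟨x, h3, rfl⟩
    · exact h.kr x h3 h1
    · refine (hg x⁻¹ (inv_mem h3) ?_).elim
      rw [← one_mul (σ x⁻¹), ← h1, ← map_mul, mul_inv_cancel_right]
  · rcases (hL' B).1 hB with h3 | ⟨A, hA, rfl⟩
    · exact h.wf B h3
    · exact wf_mulM hw (wf_iff.1 (h.wf A hA)).1

/-- the terms of the chain -/
def Pk (e : Sp n → Y) (g : ℕ → Y) (k : ℕ) : Subgroup Y := Subgroup.closure (Set.range e ∪ g '' {j | j < k})

theorem e_mem_Pk (g : ℕ → Y) (k : ℕ) (a : Sp n) : e a ∈ Pk e g k := Subgroup.subset_closure (Or.inl ⟨a, rfl⟩)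

theorem g_mem_Pk (g : ℕ → Y) {j k : ℕ} (h : j < k) : g j ∈ Pk e g k := Subgroup.subset_closure (Or.inr ⟨j, h, rfl⟩)

theorem Pk_le {g : ℕ → Y} {k : ℕ} {H : Subgroup Y} (h1 : ∀ a, e a ∈ H) (h2 : ∀ j < k, g j ∈ H) : Pk e g k ≤ H :=
  (Subgroup.closure_le _).2 (by rintro _ (⟨a, rfl⟩ | ⟨j, hj, rfl⟩); exacts [h1 a, h2 j hj])

theorem Pk_succ (g : ℕ → Y) (k : ℕ) : Pk e g (k + 1) = Pk e g k ⊔ Subgroup.zpowers (g k) :=
  le_antisymm (Pk_le (fun a => Subgroup.mem_sup_left (e_mem_Pk g k a)) fun j hj => by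
      rcases Nat.lt_succ_iff_lt_or_eq.1 hj with h | rfl
      · exact Subgroup.mem_sup_left (g_mem_Pk g h)
      · exact Subgroup.mem_sup_right (Subgroup.mem_zpowers _))
    (sup_le (Pk_le (e_mem_Pk g _) fun j hj => g_mem_Pk g (by omega))
      (Subgroup.zpowers_le.2 (g_mem_Pk g (by omega))))

theorem ci_zero (add : ∀ a b, e (a + b) = e a * e b) (inj : Function.Injective e)
    (conj : ∀ g a, g * e a * g⁻¹ = e (σ g a)) (g : ℕ → Y) : Ci σ e (Pk e g 0) [idM n] n := by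
  have e0 : e 0 = 1 := by
    have := add 0 0
    rw [add_zero] at this
    exact left_eq_mul.1 this
  have sq : ∀ a, e a * e a = 1 := fun a => by rw [← add, add_self', e0]
  let E : Subgroup Y :=
    { carrier := Set.range e
      one_mem' := ⟨0, e0⟩
      mul_mem' := by rintro _ _ ⟨a, rfl⟩ ⟨b, rfl⟩; exact ⟨a + b, add a b⟩
      inv_mem' := by rintro _ ⟨a, rfl⟩; exact ⟨a, (inv_eq_of_mul_eq_one_right (sq a)).symm⟩ }
  have h1 : ∀ x ∈ Pk e g 0, ∃ a, e a = x := fun x hx =>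
    (show Pk e g 0 ≤ E from Pk_le (fun a => ⟨a, rfl⟩) fun j hj => absurd hj (Nat.not_lt_zero j)) hx
  refine ⟨fun x => ⟨1, Subtype.ext ?_⟩, ?_, fun x hx => ⟨_, List.mem_singleton.2 rfl, ?_⟩, fun x hx _ => h1 x hx,
    fun A hA => List.mem_singleton.1 hA ▸ wf_idM n⟩
  · obtain ⟨a, ha⟩ := h1 x x.2
    rw [pow_one, SubgroupClass.coe_pow, ← ha, pow_two, sq]; rfl
  · have := Nat.card_le_card_of_injective (fun a => (⟨e a, e_mem_Pk g 0 a⟩ : Pk e g 0))
      fun a b h => inj (congrArg Subtype.val h)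
    rwa [Nat.card_fun, Nat.card_zmod, Nat.card_fin] at this
  · obtain ⟨a, rfl⟩ := h1 x hx
    rw [lin_idM]
    exact LinearMap.ext fun b => inj (by rw [← conj, ← add, add_comm, add, mul_inv_cancel_right]; rfl)

theorem lv_sound (add : ∀ a b, e (a + b) = e a * e b) (inj : Function.Injective e)
    (conj : ∀ g a, g * e a * g⁻¹ = e (σ g a)) {g : ℕ → Y} {M : ℕ → List ℕ} (ν : ℕ)
    (h1 : ∀ j < ν, g j * g j = 1 ∧ σ (g j) = lin n n (M j) ∧ wf n n (M j) = true ∧
      ∀ i < j, g j * g i * (g j)⁻¹ ∈ Pk e g j) {k : List (List ℕ) → Bool} (h : lv n M ν k = true) :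
    ∃ L, k L = true ∧ Ci σ e (Pk e g ν) L (n + ν) := by
  induction ν generalizing k with
  | zero => exact ⟨_, (frL_eq _ _).symm.trans h, ci_zero add inj conj g⟩
  | succ j ih =>
    obtain ⟨L, h2, h3⟩ := ih (fun i hi => h1 i (by omega)) (k := fun L => frL (M j) fun A => dblK A L k) h
    rw [frL_eq] at h2
    obtain ⟨h4, L', h5, h6⟩ := dblK_sound h2
    obtain ⟨c1, c2, c3, c4⟩ := h1 j (by omega)
    refine ⟨L', h5, ?_⟩
    rw [Pk_succ]
    refine h3.step c1 (Subgroup.mem_normalizer_fintype fun x hx => ?_) c2 c3 h4 h6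
    exact (show Pk e g j ≤ (Pk e g j).comap (MulAut.conj (g j)).toMonoidHom from
      Pk_le (fun a => by change g j * e a * (g j)⁻¹ ∈ Pk e g j; rw [conj]; exact e_mem_Pk g j _) c4) hx

theorem Ci.cov {H : Subgroup Y} {L : List (List ℕ)} {m N : ℕ} {T : ℕ → Rec} (h : Ci σ e H L m)
    (hc : cov n N T L = true) : ∀ g ∈ H, g * g = 1 → σ g = 1 ∨ ∃ j < N, σ g = lin n n (T j).mt := by
  intro g hg h2
  obtain ⟨A, hA, e1⟩ := h.mt g hg
  rw [SpB.cov, frL_eq, List.all_eq_true] at hc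
  have h3 := hc A hA
  have hw := h.wf A hA
  have hI := wf_idM n
  simp only [Bool.or_eq_true, leq_iff, Bool.not_eq_true'] at h3
  rcases h3 with h3 | h3 | h3
  · refine (neq2_sound h3 (lin_inj (wf_mulM hw (wf_iff.1 hw).1) (wf_mulM hI (wf_iff.1 hI).1) ?_)).elim
    rw [lin_mulM (wf_iff.1 hw).1 (wf_iff.1 hw).1, lin_mulM (wf_iff.1 hI).1 (wf_iff.1 hI).1, ← e1, lin_idM,
      ← Module.End.mul_eq_comp, ← map_mul, h2, map_one]
    rfl
  · exact Or.inl (by rw [e1, h3, lin_idM]; rfl)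
  · right
    by_contra h4
    rw [(allTo_iff _ _).2 fun j hj => ?_] at h3
    · exact absurd h3 (by decide)
    · rw [Bool.not_eq_true', ← Bool.not_eq_true, leq_iff]
      exact fun e2 => h4 ⟨j, hj, e2 ▸ e1⟩

/-- Sylow -/
theorem exists_conj_le {G : Type} [Group G] [Finite G] {H A : Subgroup G} {m : ℕ} (hH : IsPGroup 2 H)
    (h1 : 2 ^ m ≤ Nat.card H) (h2 : ¬ 2 ^ (m + 1) ∣ Nat.card G) (hA : IsPGroup 2 A) :
    ∃ g : G, A.map (MulAut.conj g).toMonoidHom ≤ H := by
  obtain ⟨Q, hQ⟩ := hH.exists_le_sylow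
  obtain ⟨R, hR⟩ := hA.exists_le_sylow
  obtain ⟨k, hk⟩ := IsPGroup.iff_card.1 Q.isPGroup'
  have h3 : k ≤ m := by
    by_contra h
    exact h2 ((Nat.pow_dvd_pow 2 (by omega)).trans (hk ▸ Subgroup.card_subgroup_dvd_card (Q : Subgroup G)))
  have h4 : H = Q := Subgroup.eq_of_le_of_card_ge hQ (hk ▸ (Nat.pow_le_pow_right (by norm_num) h3).trans h1)
  obtain ⟨g, hg⟩ := MulAction.exists_smul_eq G R Q
  refine ⟨g, ?_⟩
  rw [h4, ← hg]
  exact Subgroup.map_mono hR

end Cfsg.Agent.TwoF.SpB
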