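import Mathlib.LinearAlgebra.Dual.Lemmas
import Mathlib.LinearAlgebra.Matrix.Dual
import Mathlib.Algebra.Field.ZMod
import Mathlib.Data.Nat.Bitwise
import Mathlib.LinearAlgebra.FiniteDimensional.Lemmas

/-!
# TwoF SP-B: linear algebra over the field with two elements on bit masks (helper24)

`vc n x` the vector with mask `x`, `app R x` matrix (list of rows) applied to a mask, `lin` the linear map,
`red`, `ins`, `insL` echelon lists, `ann` annihilators for the dot product.
-/

set_option autoImplicit false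

namespace Cfsg.Agent.TwoF.SpB

open Module

/-- the field -/
abbrev F2 : Type := ZMod 2

/-- the space -/
abbrev Sp (n : ℕ) : Type := Fin n → ZMod 2

/-- a bit -/
def bt (x i : ℕ) : F2 := if x.testBit i then 1 else 0

/-- the vector of a mask -/
def vc (n x : ℕ) : Sp n := fun i => bt x i

theorem bt_xor (x y i : ℕ) : bt (x ^^^ y) i = bt x i + bt y i := by
  unfold bt
  rw [Nat.testBit_xor]
  cases x.testBit i <;> cases y.testBit i <;> decide

theorem vc_xor (n x y : ℕ) : vc n (x ^^^ y) = vc n x + vc n y := funext fun i => bt_xor x y i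

theorem vc_zero (n : ℕ) : vc n 0 = 0 := funext fun i => by simp [vc, bt]

theorem vc_pow {n : ℕ} (i : Fin n) : vc n (2 ^ (i : ℕ)) = Pi.single i 1 := funext fun j => by
  unfold vc bt
  rw [Nat.testBit_two_pow, Pi.single_apply]
  by_cases h : j = i
  · simp [h]
  · have : (i : ℕ) ≠ j := fun e => h (Fin.ext e.symm)
    simp [h, this]

theorem bt_eq_iff {x y i j : ℕ} : bt x i = bt y j ↔ x.testBit i = y.testBit j := by
  unfold bt
  cases x.testBit i <;> cases y.testBit j <;> decide

theorem vc_inj {n x y : ℕ} (hx : x < 2 ^ n) (hy : y < 2 ^ n) (h : vc n x = vc n y) : x = y := by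
  refine Nat.eq_of_testBit_eq fun i => ?_
  by_cases hi : i < n
  · exact bt_eq_iff.1 (congrFun h ⟨i, hi⟩)
  · have : 2 ^ n ≤ 2 ^ i := Nat.pow_le_pow_right (by norm_num) (by omega)
    rw [Nat.testBit_lt_two_pow (by omega), Nat.testBit_lt_two_pow (by omega)]

theorem vc_surj {n : ℕ} (v : Sp n) : ∃ x < 2 ^ n, vc n x = v := by
  have h : Function.Injective fun x : Fin (2 ^ n) => vc n x := fun x y e => Fin.ext (vc_inj x.2 y.2 e)
  obtain ⟨x, hx⟩ := (h.bijective_of_nat_card_le (by simp)).2 v
  exact ⟨x, x.2, hx⟩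

theorem vc_ne_zero {n x : ℕ} (hx : x < 2 ^ n) (h : x ≠ 0) : vc n x ≠ 0 := fun e =>
  h (vc_inj hx (Nat.two_pow_pos n) (e.trans (vc_zero n).symm))

theorem vc_mul (n a r : ℕ) : vc n (a % 2 * r) = bt a 0 • vc n r := by
  unfold bt
  rcases Nat.mod_two_eq_zero_or_one a with h | h
  · rw [h, zero_mul, vc_zero, Nat.testBit_zero, h]; simp
  · rw [h, one_mul, Nat.testBit_zero, h]; simp

theorem bt_div (a i : ℕ) : bt (a / 2) i = bt a (i + 1) := by
  unfold bt
  rw [Nat.testBit_succ]

theorem f2_cases (c : F2) : c = 0 ∨ c = 1 := by revert c; decide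

theorem add_self' {M : Type*} [AddCommGroup M] [Module F2 M] (v : M) : v + v = 0 := by
  rw [← two_smul F2 v, show (2 : F2) = 0 from rfl, zero_smul]

theorem sub_eq_add' {M : Type*} [AddCommGroup M] [Module F2 M] (v w : M) : v - w = v + w := by
  rw [sub_eq_iff_eq_add, add_assoc, add_self', add_zero]

/-- force the evaluation of a number -/
def frc {α : Sort*} (n : ℕ) (f : ℕ → α) : α := Nat.rec (f 0) (fun k _ => f (k + 1)) n

theorem frc_eq {α : Sort*} (n : ℕ) (f : ℕ → α) : frc n f = f n := by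
  cases n <;> rfl

/-- all `k < n` satisfy the test -/
def allTo (F : ℕ → Bool) : ℕ → Bool
  | 0 => true
  | k + 1 => F k && allTo F k

theorem allTo_realised : True := by have := @allTo.eq_def; trivial

theorem allTo_iff (F : ℕ → Bool) (n : ℕ) : allTo F n = true ↔ ∀ k < n, F k = true := by
  induction n with
  | zero => simp [allTo]
  | succ n ih =>
    rw [allTo, Bool.and_eq_true, ih]
    refine ⟨fun h k hk => ?_, fun h => ⟨h n (by omega), fun k hk => h k (by omega)⟩⟩
    rcases Nat.lt_succ_iff_lt_or_eq.1 hk with h1 | h1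
    · exact h.2 k h1
    · rw [h1]; exact h.1

/-- a matrix applied to a mask -/
def app : List ℕ → ℕ → ℕ
  | [], _ => 0
  | r :: R, x => (x % 2 * r) ^^^ app R (x / 2)

theorem app_realised : True := by have := @app.eq_def; trivial

theorem vc_app (m : ℕ) (R : List ℕ) (x : ℕ) :
    vc m (app R x) = ∑ i ∈ Finset.range R.length, bt x i • vc m (R.getD i 0) := by
  induction R generalizing x with
  | nil => simp [app, vc_zero]
  | cons r R ih =>
    rw [app, vc_xor, ih, vc_mul, List.length_cons, Finset.sum_range_succ', add_comm]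
    simp only [bt_div, List.getD_cons_succ, List.getD_cons_zero]

theorem app_lt {m : ℕ} {R : List ℕ} (h : ∀ r ∈ R, r < 2 ^ m) (x : ℕ) : app R x < 2 ^ m := by
  induction R generalizing x with
  | nil => exact Nat.two_pow_pos m
  | cons r R ih =>
    refine Nat.xor_lt_two_pow ?_ (ih (fun s hs => h s (List.mem_cons_of_mem _ hs)) _)
    have := h r List.mem_cons_self
    rcases Nat.mod_two_eq_zero_or_one x with e | e <;> rw [e]
    · rw [zero_mul]; exact Nat.two_pow_pos m
    · rwa [one_mul]

/-- the linear map of a matrix -/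
noncomputable def lin (n m : ℕ) (R : List ℕ) : Sp n →ₗ[F2] Sp m :=
  Fintype.linearCombination F2 fun i : Fin n => vc m (R.getD i 0)

theorem lin_apply (n m : ℕ) (R : List ℕ) (v : Sp n) : lin n m R v = ∑ i : Fin n, v i • vc m (R.getD i 0) :=
  Fintype.linearCombination_apply _ _ _

theorem lin_single (n m : ℕ) (R : List ℕ) (i : Fin n) : lin n m R (Pi.single i 1) = vc m (R.getD i 0) := by
  unfold lin
  rw [Fintype.linearCombination_apply_single, one_smul]

theorem lin_vc {n : ℕ} (m : ℕ) {R : List ℕ} (h : R.length = n) (x : ℕ) : lin n m R (vc n x) = vc m (app R x) := by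
  rw [vc_app, h, lin_apply, ← Fin.sum_univ_eq_sum_range (fun i => bt x i • vc m (R.getD i 0)) n]
  rfl

theorem lin_ext {n : ℕ} {M : Type*} [AddCommGroup M] [Module F2 M] {f g : Sp n →ₗ[F2] M}
    (h : ∀ i < n, f (vc n (2 ^ i)) = g (vc n (2 ^ i))) : f = g := by
  refine (Pi.basisFun F2 (Fin n)).ext fun i => ?_
  rw [Pi.basisFun_apply, ← vc_pow]
  exact h i i.2

theorem lin_pow {n : ℕ} (m : ℕ) (R : List ℕ) {i : ℕ} (hi : i < n) : lin n m R (vc n (2 ^ i)) = vc m (R.getD i 0) := by
  have := vc_pow (⟨i, hi⟩ : Fin n)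
  rw [show vc n (2 ^ i) = Pi.single ⟨i, hi⟩ 1 from this, lin_single]

/-- a well-formed `n × m` matrix -/
def wf (n m : ℕ) (R : List ℕ) : Bool := Nat.beq R.length n && R.all fun r => Nat.blt r (2 ^ m)

theorem wf_iff {n m : ℕ} {R : List ℕ} : wf n m R = true ↔ R.length = n ∧ ∀ r ∈ R, r < 2 ^ m := by
  simp [wf, Nat.blt_eq]

theorem getD_lt {m : ℕ} {R : List ℕ} (h : ∀ r ∈ R, r < 2 ^ m) (i : ℕ) : R.getD i 0 < 2 ^ m := by
  by_cases hi : i < R.length
  · rw [List.getD_eq_getElem _ _ hi]; exact h _ (List.getElem_mem hi)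
  · rw [List.getD_eq_default _ _ (by omega)]; exact Nat.two_pow_pos m

theorem lin_inj {n m : ℕ} {R S : List ℕ} (hR : wf n m R = true) (hS : wf n m S = true) (h : lin n m R = lin n m S) :
    R = S := by
  rw [wf_iff] at hR hS
  refine List.ext_getElem (hR.1.trans hS.1.symm) fun i h1 h2 => ?_
  have e := DFunLike.congr_fun h (vc n (2 ^ i))
  rw [lin_pow _ _ (hR.1 ▸ h1), lin_pow _ _ (hR.1 ▸ h1), List.getD_eq_getElem _ _ h1, List.getD_eq_getElem _ _ h2] at e
  exact vc_inj (hR.2 _ (List.getElem_mem h1)) (hS.2 _ (List.getElem_mem h2)) e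

/-- first `R`, then `S` -/
def mulM (S R : List ℕ) : List ℕ := R.map (app S)

theorem lin_mulM {n m l : ℕ} {S R : List ℕ} (hS : S.length = m) (hR : R.length = n) :
    lin n l (mulM S R) = lin m l S ∘ₗ lin n m R := by
  refine lin_ext fun i hi => ?_
  rw [LinearMap.comp_apply, lin_pow _ _ hi, lin_pow _ _ hi, lin_vc _ hS, mulM,
    List.getD_eq_getElem _ _ (by rw [List.length_map]; omega), List.getD_eq_getElem _ _ (by omega), List.getElem_map]

theorem wf_mulM {n m l : ℕ} {S R : List ℕ} (hS : wf m l S = true) (hR : R.length = n) : wf n l (mulM S R) = true := by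
  rw [wf_iff] at hS ⊢
  refine ⟨by rw [mulM, List.length_map, hR], fun r hr => ?_⟩
  obtain ⟨x, -, rfl⟩ := List.mem_map.1 hr
  exact app_lt hS.2 x

/-- the strict product -/
def mulK (S : List ℕ) : List ℕ → (List ℕ → Bool) → Bool
  | [], k => k []
  | r :: R, k => frc (app S r) fun a => mulK S R fun L => k (a :: L)

theorem mulK_realised : True := by have := @mulK.eq_def; trivial

theorem mulK_eq (S R : List ℕ) (k : List ℕ → Bool) : mulK S R k = k (mulM S R) := by
  induction R generalizing k with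
  | nil => rfl
  | cons r R ih => rw [mulK, frc_eq, ih]; rfl

/-- the identity matrix -/
def idM (n : ℕ) : List ℕ := (List.range n).map (2 ^ ·)

theorem getD_idM {n i : ℕ} (hi : i < n) : (idM n).getD i 0 = 2 ^ i := by
  rw [idM, List.getD_eq_getElem _ _ (by simpa using hi)]; simp

theorem wf_idM (n : ℕ) : wf n n (idM n) = true := by
  rw [wf_iff]
  refine ⟨by simp [idM], fun r hr => ?_⟩
  obtain ⟨i, hi, rfl⟩ := List.mem_map.1 hr
  exact Nat.pow_lt_pow_right (by norm_num) (List.mem_range.1 hi)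

theorem lin_idM (n : ℕ) : lin n n (idM n) = LinearMap.id :=
  lin_ext fun i hi => by rw [lin_pow _ _ hi, getD_idM hi]; rfl

/-- equality of lists -/
def leq : List ℕ → List ℕ → Bool
  | [], [] => true
  | a :: A, b :: B => Nat.beq a b && leq A B
  | _, _ => false

theorem leq_realised : True := by have := @leq.eq_def; trivial

theorem leq_iff {A B : List ℕ} : leq A B = true ↔ A = B := by
  induction A generalizing B with
  | nil => cases B <;> simp [leq]
  | cons a A ih => cases B <;> simp [leq, ih]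

/-- `R - 1` -/
def sub1 : List ℕ → ℕ → List ℕ
  | [], _ => []
  | r :: R, b => (r ^^^ b) :: sub1 R (2 * b)

theorem sub1_realised : True := by have := @sub1.eq_def; trivial

theorem mem_sub1 {R : List ℕ} {j v : ℕ} (h : v ∈ sub1 R (2 ^ j)) :
    ∃ i < R.length, v = R.getD i 0 ^^^ 2 ^ (i + j) := by
  induction R generalizing j with
  | nil => simp [sub1] at h
  | cons r R ih =>
    rw [sub1, List.mem_cons] at h
    rcases h with h | h
    · exact ⟨0, by simp, by simpa using h⟩
    · rw [← pow_succ'] at h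
      obtain ⟨i, hi, e⟩ := ih h
      refine ⟨i + 1, by simpa using hi, ?_⟩
      rw [e, List.getD_cons_succ]
      congr 2
      omega

/-- the transposed matrix (checked by `isTr`) -/
def trM (m : ℕ) (R : List ℕ) : List ℕ :=
  (List.range m).map fun j => R.foldr (fun r a => (r >>> j) % 2 + 2 * a) 0

/-- `T` is the transpose of `R` -/
def isTr (n m : ℕ) (R T : List ℕ) : Bool :=
  allTo (fun i => allTo (fun j => Nat.beq ((R.getD i 0 >>> j) % 2) ((T.getD j 0 >>> i) % 2)) m) n

theorem bt_eq_of_mod {x y i j : ℕ} (h : (x >>> i) % 2 = (y >>> j) % 2) : bt x i = bt y j := by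
  rw [bt_eq_iff, Nat.testBit, Nat.testBit, Nat.one_and_eq_mod_two, Nat.one_and_eq_mod_two, h]

theorem dot_lin {n m : ℕ} {R T : List ℕ} (h : isTr n m R T = true) (x : Sp n) (y : Sp m) :
    lin m n T y ⬝ᵥ x = y ⬝ᵥ lin n m R x := by
  rw [lin_apply, lin_apply]
  simp only [dotProduct, Finset.sum_apply, Pi.smul_apply, smul_eq_mul, Finset.sum_mul, Finset.mul_sum]
  rw [Finset.sum_comm]
  refine Finset.sum_congr rfl fun j _ => Finset.sum_congr rfl fun i _ => ?_
  have e := (allTo_iff _ _).1 ((allTo_iff _ _).1 h i i.2) j j.2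
  have e' : vc m (R.getD i 0) j = vc n (T.getD j 0) i := bt_eq_of_mod (Nat.eq_of_beq_eq_true e)
  rw [e']
  ring

/-! ### echelon lists -/

/-- reduction -/
def red : List ℕ → ℕ → ℕ
  | [], v => v
  | u :: L, v => frc (red L v) fun x => ((x >>> u.log2) % 2 * u) ^^^ x

theorem red_realised : True := by have := @red.eq_def; trivial

theorem red_cons (u : ℕ) (L : List ℕ) (v : ℕ) :
    red (u :: L) v = if (red L v).testBit u.log2 then u ^^^ red L v else red L v := by
  rw [red, frc_eq, Nat.testBit, Nat.one_and_eq_mod_two]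
  rcases Nat.mod_two_eq_zero_or_one (red L v >>> u.log2) with e | e <;> simp [e]

/-- predicates closed under `xor` -/
def XC (P : ℕ → Prop) : Prop := ∀ a b, P a → P b → P (a ^^^ b)

theorem XC.red {P : ℕ → Prop} (h : XC P) {L : List ℕ} (hL : ∀ u ∈ L, P u) (v : ℕ) : P (red L v) ↔ P v := by
  induction L with
  | nil => exact Iff.rfl
  | cons u L ih =>
    rw [red_cons, ← ih fun s hs => hL s (List.mem_cons_of_mem _ hs)]
    have hu := hL u List.mem_cons_self
    split_ifs
    · refine ⟨fun e => ?_, fun e => h _ _ hu e⟩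
      have := h _ _ hu e
      rwa [← Nat.xor_assoc, Nat.xor_self, Nat.zero_xor] at this
    · exact Iff.rfl

/-- echelon lists -/
def Ech (L : List ℕ) : Prop := (∀ u ∈ L, u ≠ 0) ∧ L.Pairwise fun w u => w.testBit u.log2 = false

theorem ech_nil : Ech [] := ⟨by simp, List.Pairwise.nil⟩

theorem Ech.red_bit {L : List ℕ} (h : Ech L) (v : ℕ) : ∀ u ∈ L, (red L v).testBit u.log2 = false := by
  induction L with
  | nil => simp
  | cons w L ih =>
    have h1 := List.pairwise_cons.1 h.2
    have ih := ih ⟨fun s hs => h.1 s (List.mem_cons_of_mem _ hs), h1.2⟩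
    intro u hu
    rw [red_cons]
    rcases List.mem_cons.1 hu with e | e
    · subst e
      have : u.testBit u.log2 = true := Nat.testBit_log2 (h.1 u hu)
      split_ifs with h2
      · rw [Nat.testBit_xor, this, h2]; rfl
      · simpa using h2
    · split_ifs
      · rw [Nat.testBit_xor, h1.1 u e, ih u e]; rfl
      · exact ih u e

/-- insertion -/
def ins (L : List ℕ) (v : ℕ) : List ℕ := if red L v = 0 then L else red L v :: L

/-- insertion of a list -/
def insL (L : List ℕ) : List ℕ → List ℕ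
  | [] => L
  | v :: vs => insL (ins L v) vs

theorem insL_realised : True := by have := @insL.eq_def; trivial

/-- strict insertion -/
def insK (L : List ℕ) : List ℕ → (List ℕ → Bool) → Bool
  | [], k => k L
  | v :: vs, k => Nat.rec (insK L vs k) (fun m _ => insK ((m + 1) :: L) vs k) (red L v)

theorem insK_realised : True := by have := @insK.eq_def; trivial

theorem insK_eq (L vs : List ℕ) (k : List ℕ → Bool) : insK L vs k = k (insL L vs) := by
  induction vs generalizing L with
  | nil => rfl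
  | cons v vs ih =>
    rw [insK, insL, ins]
    rcases e : red L v with _ | m
    · rw [if_pos rfl, ← ih]; rfl
    · rw [if_neg (by omega), ← ih]

theorem Ech.insL {L : List ℕ} (h : Ech L) (vs : List ℕ) : Ech (insL L vs) := by
  induction vs generalizing L with
  | nil => exact h
  | cons v vs ih =>
    refine ih ?_
    rw [ins]
    split_ifs with e
    · exact h
    · exact ⟨fun u hu => (List.mem_cons.1 hu).elim (fun e' => e' ▸ e) (h.1 u),
        List.pairwise_cons.2 ⟨h.red_bit v, h.2⟩⟩

theorem XC.insL {P : ℕ → Prop} (h : XC P) {L vs : List ℕ} (hL : ∀ u ∈ L, P u) (hv : ∀ u ∈ vs, P u) :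
    ∀ u ∈ insL L vs, P u := by
  induction vs generalizing L with
  | nil => exact hL
  | cons v vs ih =>
    refine ih ?_ fun s hs => hv s (List.mem_cons_of_mem _ hs)
    rw [ins]
    split_ifs with e
    · exact hL
    · intro u hu
      rcases List.mem_cons.1 hu with e' | e'
      · rw [e']; exact (h.red hL v).2 (hv v List.mem_cons_self)
      · exact hL u e'

/-- masks of vectors of `W` -/
def In {n : ℕ} (W : Submodule F2 (Sp n)) (x : ℕ) : Prop := x < 2 ^ n ∧ vc n x ∈ W

theorem xc_in {n : ℕ} (W : Submodule F2 (Sp n)) : XC (In W) := fun _ _ ha hb =>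
  ⟨Nat.xor_lt_two_pow ha.1 hb.1, by rw [vc_xor]; exact add_mem ha.2 hb.2⟩

theorem In.mono {n : ℕ} {W W' : Submodule F2 (Sp n)} (h : W ≤ W') {x : ℕ} (hx : In W x) : In W' x := ⟨hx.1, h hx.2⟩

theorem Ech.length_le {n : ℕ} {L : List ℕ} (h : Ech L) {W : Submodule F2 (Sp n)} (hW : ∀ u ∈ L, In W u) :
    L.length ≤ finrank F2 W := by
  induction L using List.reverseRecOn generalizing W with
  | nil => exact Nat.zero_le _
  | append_singleton L u ih =>
    have h1 := List.pairwise_append.1 h.2
    have hu : u ∈ L ++ [u] := by simp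
    have hp : u.log2 < n := (Nat.log2_lt (h.1 u hu)).2 (hW u hu).1
    have h2 := ih ⟨fun s hs => h.1 s (by simp [hs]), h1.1⟩
      (W := W ⊓ LinearMap.ker (LinearMap.proj (⟨u.log2, hp⟩ : Fin n) : Sp n →ₗ[F2] F2)) fun s hs =>
        ⟨(hW s (by simp [hs])).1, (hW s (by simp [hs])).2, by
          change bt s u.log2 = 0
          rw [bt, h1.2.2 s hs u (by simp)]; rfl⟩
    have h3 : W ⊓ LinearMap.ker (LinearMap.proj (⟨u.log2, hp⟩ : Fin n) : Sp n →ₗ[F2] F2) < W := by
      refine lt_of_le_of_ne inf_le_left fun e => ?_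
      have : vc n u ∈ W ⊓ LinearMap.ker (LinearMap.proj (⟨u.log2, hp⟩ : Fin n) : Sp n →ₗ[F2] F2) := by
        rw [e]; exact (hW u hu).2
      have h4 : bt u u.log2 = 0 := this.2
      rw [bt, Nat.testBit_log2 (h.1 u hu)] at h4
      exact absurd h4 (by decide)
    have := Submodule.finrank_lt_finrank_of_lt h3
    rw [List.length_append, List.length_singleton]
    omega

theorem length_insL_le {n : ℕ} {W : Submodule F2 (Sp n)} {vs : List ℕ} (h : ∀ u ∈ vs, In W u) :
    (insL [] vs).length ≤ finrank F2 W :=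
  (ech_nil.insL vs).length_le ((xc_in W).insL (by simp) h)

/-! ### annihilators -/

/-- the annihilator for the dot product -/
def ann {n : ℕ} (W : Submodule F2 (Sp n)) : Submodule F2 (Sp n) :=
  W.dualAnnihilator.comap (dotProductEquiv F2 (Fin n)).toLinearMap

theorem mem_ann {n : ℕ} {W : Submodule F2 (Sp n)} {m : Sp n} : m ∈ ann W ↔ ∀ x ∈ W, m ⬝ᵥ x = 0 := by
  rw [ann, Submodule.mem_comap, Submodule.mem_dualAnnihilator]
  rfl

theorem finrank_ann {n : ℕ} (W : Submodule F2 (Sp n)) : finrank F2 W + finrank F2 (ann W) = n := by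
  rw [ann, Submodule.comap_equiv_eq_map_symm, LinearEquiv.finrank_map_eq,
    Subspace.finrank_add_finrank_dualAnnihilator_eq]
  simp

theorem ann_anti {n : ℕ} {W W' : Submodule F2 (Sp n)} (h : W ≤ W') : ann W' ≤ ann W := fun _ hm =>
  mem_ann.2 fun x hx => mem_ann.1 hm x (h hx)

theorem Ech.finrank_le {n : ℕ} {L : List ℕ} (h : Ech L) {W : Submodule F2 (Sp n)} (hW : ∀ u ∈ L, In (ann W) u) :
    finrank F2 W + L.length ≤ n := by
  have h1 := h.length_le hW
  have h2 := finrank_ann W
  omega

theorem exists_dot {n : ℕ} (f : Sp n →ₗ[F2] F2) : ∃ m : Sp n, ∀ x, f x = m ⬝ᵥ x := by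
  obtain ⟨m, rfl⟩ := (dotProductEquiv F2 (Fin n)).surjective f
  exact ⟨m, fun _ => rfl⟩

/-- the rows of `R - 1` lie in the image -/
theorem in_range_sub1 {n : ℕ} {R : List ℕ} (h : wf n n R = true) :
    ∀ u ∈ sub1 R 1, In (LinearMap.range (lin n n R - 1)) u := by
  intro u hu
  rw [wf_iff] at h
  obtain ⟨i, hi, rfl⟩ := mem_sub1 (j := 0) hu
  rw [h.1] at hi
  refine ⟨Nat.xor_lt_two_pow (getD_lt h.2 i) (Nat.pow_lt_pow_right (by norm_num) hi), vc n (2 ^ i), ?_⟩
  rw [LinearMap.sub_apply, lin_pow _ _ hi, vc_xor, sub_eq_add']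
  rfl

/-- the rows of the transpose of `R - 1` annihilate the kernel -/
theorem in_ann_sub1 {n : ℕ} {R T : List ℕ} (h : wf n n T = true) (ht : isTr n n R T = true) :
    ∀ u ∈ sub1 T 1, In (ann (LinearMap.ker (lin n n R - 1))) u := by
  intro u hu
  obtain ⟨h1, y, h2⟩ := in_range_sub1 h u hu
  refine ⟨h1, mem_ann.2 fun x hx => ?_⟩
  rw [← h2, LinearMap.sub_apply, sub_dotProduct, dot_lin ht, ← Module.End.one_apply (R := F2) x]
  rw [LinearMap.mem_ker, LinearMap.sub_apply, sub_eq_zero] at hx
  rw [Module.End.one_apply, hx]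
  simp

end Cfsg.Agent.TwoF.SpB
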