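import Cfsg.Agent.TwoF.SpB.Form

/-!
# TwoF SP-B: the inequality checked at each node (helper24)
-/

set_option autoImplicit false

namespace Cfsg.Agent.TwoF.SpB

/-- bound for the dimension of a space orthogonal to a space of dimension `k` -/
def zt (k : ℕ) : ℕ := cond (Nat.ble 6 k) 0 (cond (Nat.ble 4 k) 1 (cond (Nat.ble 3 k) 3 11))

/-- minimum -/
def mn (a b : ℕ) : ℕ := cond (Nat.ble a b) a b

/-- maximum -/
def mx (a b : ℕ) : ℕ := cond (Nat.ble a b) b a

/-- the test -/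
def PP (n r s s' : ℕ) : Bool := frc s fun s => frc s' fun s' =>
  Nat.blt r s' && ((Nat.blt r 4 || Nat.blt (2 * r) (s + s')) && allTo (fun j => frc (j + 1) fun k =>
    Nat.blt (r + k) 4 || Nat.blt (2 * (k + r) + mn (11 - s') (zt k)) (mx s k + n + 1)) (n - s'))

theorem mn_eq (a b : ℕ) : mn a b = min a b := by
  unfold mn
  simp only [Bool.cond_eq_ite, Nat.ble_eq]
  split_ifs <;> omega

theorem mx_eq (a b : ℕ) : mx a b = max a b := by
  unfold mx
  simp only [Bool.cond_eq_ite, Nat.ble_eq]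
  split_ifs <;> omega

theorem zt_eq (k : ℕ) : zt k = if 6 ≤ k then 0 else if 4 ≤ k then 1 else if 3 ≤ k then 3 else 11 := by
  unfold zt
  simp only [Bool.cond_eq_ite, Nat.ble_eq]

theorem pp_iff {n r s s' : ℕ} (h : PP n r s s' = true) : r < s' ∧ (r < 4 ∨ 2 * r < s + s') ∧
    ∀ k, 0 < k → k + s' ≤ n → r + k < 4 ∨ 2 * (k + r) + min (11 - s') (zt k) < max s k + n + 1 := by
  simp only [PP, frc_eq, Bool.and_eq_true, Bool.or_eq_true, Nat.blt_eq, allTo_iff, mn_eq, mx_eq] at h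
  refine ⟨h.1, h.2.1, fun k h1 h2 => ?_⟩
  have := h.2.2 (k - 1) (by omega)
  rwa [Nat.sub_add_cancel h1] at this

end Cfsg.Agent.TwoF.SpB
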