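import Cfsg.Agent.TwoF.SpB.Frame
import Cfsg.Agent.TwoF.SpB.Num

/-!
# TwoF SP-B: the elementary abelian subgroups of `P` (helper24)
-/

set_option autoImplicit false
set_option maxHeartbeats 400000
set_option linter.unusedSectionVars false

namespace Cfsg.Agent.TwoF.SpB

open Module Gen

variable {Y : Type} [Group Y] [Finite Y] {n : ℕ} {σ : Representation F2 Y (Sp n)} {e : Sp n → Y} {P : Subgroup Y}
  {y : Y} {s : ℕ}

theorem card_sub {m : ℕ} (W : Submodule F2 (Sp m)) : Nat.card W = 2 ^ finrank F2 W := by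
  rw [Module.natCard_eq_pow_finrank (K := F2), Nat.card_zmod]

/-- the facts on the table and on `P` -/
structure Td (σ : Representation F2 Y (Sp n)) (e : Sp n → Y) (P : Subgroup Y) (N : ℕ) (T : ℕ → Rec) : Prop where
  tab : TabOk n N T
  top : ∀ g < N, top T (PP n) g = true
  cov : ∀ g ∈ P, g * g = 1 → σ g = 1 ∨ ∃ j < N, σ g = lin n n (T j).mt
  ker : ∀ g ∈ P, σ g = 1 → ∃ a, e a = g

namespace Gd

variable (G : Gd n σ e P y s) {N : ℕ} {T : ℕ → Rec}
include G

theorem A0_le {A : Subgroup Y} (hA : IsElementaryAbelian 2 A) : G.A0 A ≤ fx σ A := fun x hx g hg =>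
  G.e_inj (by rw [← G.conj, elemAb_comm hA hg hx, mul_inv_cancel_right])

theorem card_le (D : Td σ e P N T) {A : Subgroup Y} (hP : A ≤ P) :
    Nat.card A ≤ (σ '' (A : Set Y)).ncard * 2 ^ finrank F2 (G.A0 A) := by
  let φ : A →* (Module.End F2 (Sp n))ˣ := σ.asGroupHom.comp A.subtype
  have h0 : ∀ a : A, (φ a : Module.End F2 (Sp n)) = σ a := fun a => σ.asGroupHom_apply _
  rw [← φ.ker.index_mul_card, Subgroup.index_ker, ← card_sub]
  refine Nat.mul_le_mul ?_ ?_
  · rw [← Nat.card_coe_set_eq]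
    refine Nat.card_le_card_of_injective (fun u => ⟨(u.1 : Module.End F2 (Sp n)), ?_⟩) fun u v h => ?_
    · obtain ⟨_, a, rfl⟩ := u
      exact ⟨a, a.2, (h0 a).symm⟩
    · exact Subtype.ext (Units.ext (congrArg Subtype.val h))
  · have h1 : ∀ u : φ.ker, ∃ a : G.A0 A, e a = u.1 := fun u => by
      obtain ⟨a, ha⟩ := D.ker _ (hP u.1.2) (by rw [← h0, u.2]; rfl)
      exact ⟨⟨a, G.mem_A0.2 (ha ▸ u.1.2)⟩, ha⟩
    choose f hf using h1
    exact Nat.card_le_card_of_injective f fun u v h => Subtype.ext (Subtype.ext (by rw [← hf, h, hf]))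

/-- the two cases -/
theorem cases (D : Td σ e P N T) {A : Subgroup Y} (hA : IsElementaryAbelian 2 A) (hP : A ≤ P) :
    Nat.card A ≤ 2 ^ finrank F2 (G.A0 A) ∨ ∃ r t t', Nat.card A ≤ 2 ^ (r + finrank F2 (G.A0 A)) ∧
      t ≤ finrank F2 (cm σ ⊤ A) ∧ finrank F2 (fx σ A) + t' ≤ n ∧ PP n r t t' = true ∧
      ∃ j < N, G.A0 A ≤ LinearMap.ker (lin n n (T j).mt - 1) := by
  let J : Set ℕ := {j | j < N ∧ ∃ a ∈ A, σ a = lin n n (T j).mt}
  have sq : ∀ a ∈ A, a * a = 1 := fun a ha => by rw [← pow_two, hA.2 a ha]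
  have hJ : GSet n N T J (cm σ ⊤ A) (fx σ A) := by
    refine ⟨fun j hj => hj.1, ?_, ?_, ?_, ?_, ?_⟩
    · rintro j ⟨-, a, ha, h⟩
      rw [← h, ← map_mul, sq a ha, map_one]
    · rintro i ⟨-, a, ha, h⟩ j ⟨-, b, hb, h'⟩
      rw [← h, ← h', ← map_mul, ← map_mul, elemAb_comm hA ha hb]
    · rintro i ⟨-, a, ha, h⟩ j ⟨-, b, hb, h'⟩ l hl h''
      exact ⟨hl, a * b, mul_mem ha hb, by rw [map_mul, h, h', h'']⟩
    · rintro j ⟨-, a, ha, h⟩ _ ⟨v, rfl⟩
      rw [← h]
      exact mem_cm ha Submodule.mem_top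
    · rintro j ⟨-, a, ha, h⟩ v hv
      rw [← h, LinearMap.mem_ker, LinearMap.sub_apply, hv a ha, Module.End.one_apply, sub_self]
  have h1 : σ '' (A : Set Y) ⊆ insert 1 ((fun j => lin n n (T j).mt) '' J) := by
    rintro _ ⟨a, ha, rfl⟩
    rcases D.cov a (hP ha) (sq a ha) with h | ⟨j, hj, h⟩
    · exact Or.inl h
    · exact Or.inr ⟨j, ⟨hj, a, ha, h⟩, h.symm⟩
  have : Finite (Module.End F2 (Sp n)) := Finite.of_injective _ DFunLike.coe_injective
  have h2 := (Set.ncard_le_ncard h1).trans (Set.ncard_insert_le _ _)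
  have h3 := G.card_le D hP
  rcases J.eq_empty_or_nonempty with h | h
  · left
    rw [h, Set.image_empty, Set.ncard_empty] at h2
    exact h3.trans (by nlinarith [Nat.zero_le (2 ^ finrank F2 (G.A0 A))])
  · obtain ⟨r, t, t', c1, c2, c3, c4⟩ := top_sound D.tab hJ D.top h
    obtain ⟨j, hj⟩ := h
    refine Or.inr ⟨r, t, t', h3.trans ?_, c2, c3, c4, j, hj.1, (G.A0_le hA).trans (hJ.w2 j hj)⟩
    rw [pow_add]
    exact Nat.mul_le_mul_right _ (h2.trans c1)

/-- the rank -/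
theorem rank_le (D : Td σ e P N T) {A : Subgroup Y} (hA : IsElementaryAbelian 2 A) (hP : A ≤ P) :
    Nat.card A ≤ 2 ^ n := by
  have h0 := Submodule.finrank_le (G.A0 A)
  rw [finrank_fintype_fun_eq_card, Fintype.card_fin] at h0
  have h1 := Submodule.finrank_mono (G.A0_le hA)
  rcases G.cases D hA hP with h | ⟨r, t, t', c1, -, c3, c4, -⟩
  · exact h.trans (Nat.pow_le_pow_right (by norm_num) h0)
  · have := (pp_iff c4).1
    exact c1.trans (Nat.pow_le_pow_right (by norm_num) (by omega))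

variable {V : Type} [AddCommGroup V] [Module F2 V] [Finite V] {ρ : Representation F2 Y V}

/-- offenders are cubic if the lower bound holds -/
theorem cub_of_bd (D : Td σ e P N T) {TP : List ℕ} (hS : Sym n TP) (Z : ZOk n N TP T) {A : Subgroup Y}
    (hA : Off 2 ρ A) (hP : A ≤ P) (hB : G.Bd ρ TP A) : Cub ρ A := by
  by_contra hc
  obtain ⟨R, -, hR, hcod⟩ := hA.exists_card
  have h4 : 4 ≤ R := by
    by_contra h
    exact hc (hA.cub (by rw [hR, small_two]; exact Nat.pow_le_pow_right (by norm_num) (by omega)))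
  obtain ⟨W, w1, w2, w3, w4⟩ := hB
  obtain ⟨z3, z4, z7, z6⟩ := Z.bounds G.n11 hS w1
  have h0 := Submodule.finrank_le (G.A0 A)
  rw [finrank_fintype_fun_eq_card, Fintype.card_fin] at h0
  have h1 := Submodule.finrank_mono (G.A0_le hA.1)
  have h2 := Submodule.finrank_mono (le_sup_left : cm σ ⊤ A ≤ cm σ ⊤ A ⊔ G.A0 A)
  have h3 := Submodule.finrank_mono (le_sup_right : G.A0 A ≤ cm σ ⊤ A ⊔ G.A0 A)
  have h5 := Submodule.finrank_mono w2
  have h6 := finrank_le_comap G.n11 W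
  have h7 := Submodule.finrank_le W
  rw [finrank_fintype_fun_eq_card, Fintype.card_fin] at h7
  have h8 : 0 < finrank F2 (G.A0 A) → G.A0 A ≠ ⊥ := fun h e1 => by rw [e1, finrank_bot] at h; omega
  have h10 := G.n10
  rcases G.cases D hA.1 hP with h | ⟨r, t, t', c1, c2, c3, c4, c5⟩
  · rw [hR, Nat.pow_le_pow_iff_right (by norm_num)] at h
    have := w4 (h8 (by omega))
    have := z4 (by omega)
    by_cases h9 : 7 ≤ finrank F2 (G.A0 A)
    · have := z7 h9
      omega
    · omega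
  · rw [hR, Nat.pow_le_pow_iff_right (by norm_num)] at c1
    obtain ⟨p1, p2, p3⟩ := pp_iff c4
    by_cases h9 : finrank F2 (G.A0 A) = 0
    · omega
    have := w4 (h8 (by omega))
    have p4 := (p3 _ (Nat.pos_of_ne_zero h9) (by omega)).resolve_left (by omega)
    have z6' := z6 c5
    rw [zt_eq] at p4
    split_ifs at p4 with a1 a2 a3
    · have := z6' a1
      omega
    · have := z4 a2
      omega
    · have := z3 a3
      omega
    · omega

/-- **an offender inside `P` can be replaced by a cubic one** -/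
theorem main (D : Td σ e P N T) {w : Y} {TP : List ℕ} (F : Fd σ P y w TP) (Z : ZOk n N TP T)
    (hd : finrank F2 V ≤ 24) {A : Subgroup Y} (hA : Off 2 ρ A) (hP : A ≤ P) : ∃ B, Off 2 ρ B ∧ Cub ρ B := by
  rcases G.frame (ρ := ρ) F hd with h | h
  · exact ⟨_, h⟩
  · exact ⟨A, hA, G.cub_of_bd D F.sym Z hA hP (h A (hP.trans le_sup_left))⟩

end Gd

end Cfsg.Agent.TwoF.SpB
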