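import Cfsg.Agent.TwoF.SpB.Tab
import Mathlib.LinearAlgebra.Matrix.DotProduct

/-!
# TwoF SP-B: invariant alternating forms, the trilinear form and its radicals (helper24)
-/

set_option autoImplicit false
set_option maxHeartbeats 400000

namespace Cfsg.Agent.TwoF.SpB

open Module

theorem add_app {M : Type*} [AddCommGroup M] [Module F2 M] {φ : ℕ → M} (h0 : φ 0 = 0)
    (h : ∀ x y, φ (x ^^^ y) = φ x + φ y) (R : List ℕ) (x : ℕ) :
    φ (app R x) = ∑ i ∈ Finset.range R.length, bt x i • φ (R.getD i 0) := by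
  induction R generalizing x with
  | nil => simp [app, h0]
  | cons r R ih =>
    rw [app, h, ih, List.length_cons, Finset.sum_range_succ', add_comm]
    simp only [bt_div, List.getD_cons_succ, List.getD_cons_zero]
    congr 1
    unfold bt
    rcases Nat.mod_two_eq_zero_or_one x with e | e
    · rw [e, zero_mul, h0, Nat.testBit_zero, e]; simp
    · rw [e, one_mul, Nat.testBit_zero, e]; simp

theorem vc_mod (n x : ℕ) : vc n (x % 2 ^ n) = vc n x := funext fun i => by
  unfold vc bt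
  rw [Nat.testBit_mod_two_pow]
  simp

theorem app_idM {n x : ℕ} (hx : x < 2 ^ n) : app (idM n) x = x :=
  vc_inj (app_lt (wf_iff.1 (wf_idM n)).2 x) hx (by rw [← lin_vc n (wf_iff.1 (wf_idM n)).1, lin_idM]; rfl)

/-- the rows of a packed matrix -/
def unp (n : ℕ) : ℕ → ℕ → List ℕ
  | 0, _ => []
  | m + 1, μ => (μ % 2 ^ n) :: unp n m (μ >>> n)

theorem unp_realised : True := by have := @unp.eq_def; trivial

theorem length_unp (n m μ : ℕ) : (unp n m μ).length = m := by
  induction m generalizing μ with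
  | zero => rfl
  | succ m ih => rw [unp, List.length_cons, ih]

theorem getD_unp (n : ℕ) {m i : ℕ} (hi : i < m) (μ : ℕ) : (unp n m μ).getD i 0 = (μ >>> (n * i)) % 2 ^ n := by
  induction m generalizing μ i with
  | zero => omega
  | succ m ih =>
    rcases i with _ | i
    · simp [unp]
    · rw [unp, List.getD_cons_succ, ih (by omega), ← Nat.shiftRight_add, Nat.mul_succ, add_comm]

theorem unp_lt (n m μ : ℕ) : ∀ r ∈ unp n m μ, r < 2 ^ n := by
  induction m generalizing μ with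
  | zero => simp [unp]
  | succ m ih =>
    intro r hr
    rw [unp, List.mem_cons] at hr
    rcases hr with e | e
    · rw [e]; exact Nat.mod_lt _ (Nat.two_pow_pos n)
    · exact ih _ r e

/-- the linear map of a packed matrix -/
noncomputable def fm (n μ : ℕ) : Sp n →ₗ[F2] Sp n := lin n n (unp n n μ)

theorem fm_pow {n : ℕ} (μ : ℕ) {i : ℕ} (hi : i < n) : fm n μ (vc n (2 ^ i)) = vc n (μ >>> (n * i)) := by
  rw [fm, lin_pow _ _ hi, getD_unp _ hi, vc_mod]

theorem fm_zero (n : ℕ) : fm n 0 = 0 := lin_ext fun i hi => by rw [fm_pow _ hi, Nat.zero_shiftRight, vc_zero]; rfl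

theorem fm_xor (n μ ν : ℕ) : fm n (μ ^^^ ν) = fm n μ + fm n ν := lin_ext fun i hi => by
  rw [LinearMap.add_apply, fm_pow _ hi, fm_pow _ hi, fm_pow _ hi, Nat.shiftRight_xor_distrib, vc_xor]

theorem dot_pow {n : ℕ} (v : Sp n) {j : ℕ} (hj : j < n) : v ⬝ᵥ vc n (2 ^ j) = v ⟨j, hj⟩ := by
  rw [show vc n (2 ^ j) = Pi.single ⟨j, hj⟩ 1 from vc_pow (⟨j, hj⟩ : Fin n), dotProduct_single, mul_one]

theorem bil_ext {n : ℕ} {B C : Sp n →ₗ[F2] Sp n →ₗ[F2] F2}
    (h : ∀ i < n, ∀ j < n, B (vc n (2 ^ i)) (vc n (2 ^ j)) = C (vc n (2 ^ i)) (vc n (2 ^ j))) : B = C :=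
  lin_ext fun i hi => lin_ext fun j hj => h i hi j hj

/-- the bilinear form of a linear map -/
noncomputable def bf {n : ℕ} (f : Sp n →ₗ[F2] Sp n) : Sp n →ₗ[F2] Sp n →ₗ[F2] F2 :=
  (dotProductEquiv F2 (Fin n)).toLinearMap ∘ₗ f

theorem bf_apply {n : ℕ} (f : Sp n →ₗ[F2] Sp n) (a b : Sp n) : bf f a b = f a ⬝ᵥ b := rfl

/-! ### invariant forms -/

/-- a linear functional on the forms -/
noncomputable def evl {n : ℕ} (B : Sp n →ₗ[F2] Sp n →ₗ[F2] F2) (μ : ℕ) : F2 :=
  ∑ i : Fin n, B (vc n (2 ^ (i : ℕ))) (vc n (μ >>> (n * i)))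

theorem evl_zero {n : ℕ} (B : Sp n →ₗ[F2] Sp n →ₗ[F2] F2) : evl B 0 = 0 := by simp [evl, vc_zero]

theorem evl_xor {n : ℕ} (B : Sp n →ₗ[F2] Sp n →ₗ[F2] F2) (μ ν : ℕ) : evl B (μ ^^^ ν) = evl B μ + evl B ν := by
  simp only [evl, Nat.shiftRight_xor_distrib, vc_xor, map_add, Finset.sum_add_distrib]

theorem evl_shift {n : ℕ} (B : Sp n →ₗ[F2] Sp n →ₗ[F2] F2) {b i : ℕ} (hb : b < 2 ^ n) (hi : i < n) :
    evl B (b <<< (n * i)) = B (vc n (2 ^ i)) (vc n b) := by
  rw [evl, Finset.sum_eq_single (⟨i, hi⟩ : Fin n)]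
  · rw [Nat.shiftLeft_shiftRight]
  · intro j _ hj
    have hj' : (j : ℕ) ≠ i := fun e => hj (Fin.ext e)
    have : vc n ((b <<< (n * i)) >>> (n * j)) = 0 := by
      funext p
      change bt _ _ = 0
      unfold bt
      rw [Nat.testBit_shiftRight, Nat.testBit_shiftLeft, if_neg]
      rw [Bool.and_eq_true, decide_eq_true_eq]
      rintro ⟨h1, h2⟩
      rcases Nat.lt_or_gt_of_ne hj' with h3 | h3
      · have : n * (j + 1) ≤ n * i := Nat.mul_le_mul_left _ h3
        have := p.2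
        rw [Nat.mul_succ] at *
        omega
      · have h4 : n * (i + 1) ≤ n * j := Nat.mul_le_mul_left _ h3
        rw [Nat.mul_succ] at h4
        have h5 : 2 ^ n ≤ 2 ^ (n * j + p - n * i) := Nat.pow_le_pow_right (by norm_num) (by omega)
        rw [Nat.testBit_lt_two_pow (by omega)] at h2
        exact absurd h2 (by decide)
    rw [this, map_zero]
  · simp

/-- the functional `B ↦ B a b` -/
def out (n a b : ℕ) : ℕ := app ((List.range n).map fun i => b <<< (n * i)) a

theorem evl_out {n : ℕ} (B : Sp n →ₗ[F2] Sp n →ₗ[F2] F2) (a : ℕ) {b : ℕ} (hb : b < 2 ^ n) :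
    evl B (out n a b) = B (vc n a) (vc n b) := by
  rw [out, add_app (evl_zero B) (evl_xor B), List.length_map, List.length_range]
  have h1 : vc n a = ∑ i ∈ Finset.range n, bt a i • vc n (2 ^ i) := by
    have := vc_app n (idM n) a
    rw [← lin_vc n (wf_iff.1 (wf_idM n)).1, lin_idM, (wf_iff.1 (wf_idM n)).1] at this
    exact this.trans (Finset.sum_congr rfl fun i hi => by rw [getD_idM (Finset.mem_range.1 hi)])
  rw [h1, map_sum, LinearMap.sum_apply]
  refine Finset.sum_congr rfl fun i hi => ?_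
  have hi' := Finset.mem_range.1 hi
  rw [List.getD_eq_getElem _ _ (by simpa using hi'), List.getElem_map, List.getElem_range, evl_shift B hb hi', map_smul,
    LinearMap.smul_apply]

/-- the equations -/
def eqs (n : ℕ) (Hs : List (List ℕ)) (R : List ℕ) : List ℕ :=
  ((List.range n).flatMap fun i => (List.range i).map fun j => out n (2 ^ i) (2 ^ j) ^^^ out n (2 ^ j) (2 ^ i)) ++
  (((List.range n).map fun i => out n (2 ^ i) (2 ^ i)) ++
  ((R.flatMap fun r => (List.range n).map fun j => out n r (2 ^ j)) ++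
  Hs.flatMap fun A => (List.range n).flatMap fun i => (List.range i).map fun j =>
    out n (A.getD i 0) (A.getD j 0) ^^^ out n (2 ^ i) (2 ^ j)))

/-- the invariant forms are `0` and `μ` -/
def chkForm (n : ℕ) (Hs : List (List ℕ)) (R : List ℕ) (μ i0 j0 : ℕ) : Bool :=
  Hs.all (wf n n) && (Nat.blt j0 n && insK [] (eqs n Hs R) fun L => allTo (fun i => allTo (fun j =>
    Nat.beq (red L (out n (2 ^ i) (2 ^ j) ^^^ ((μ >>> (n * i + j)) % 2 * out n (2 ^ i0) (2 ^ j0)))) 0) n) n)

theorem chkForm_sound {n : ℕ} {Hs : List (List ℕ)} {R : List ℕ} {μ i0 j0 : ℕ} (h : chkForm n Hs R μ i0 j0 = true)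
    (B : Sp n →ₗ[F2] Sp n →ₗ[F2] F2) (hs : ∀ a b, B a b = B b a) (ha : ∀ a, B a a = 0)
    (hr : ∀ r ∈ R, ∀ b, B (vc n r) b = 0) (hi : ∀ A ∈ Hs, ∀ a b, B (lin n n A a) (lin n n A b) = B a b) :
    B = 0 ∨ B = bf (fm n μ) := by
  rw [chkForm, Bool.and_eq_true, Bool.and_eq_true, insK_eq, List.all_eq_true, Nat.blt_eq] at h
  obtain ⟨hw, hj0, h⟩ := h
  have xc : XC fun μ => evl B μ = 0 := fun a b h1 h2 => by
    simp only at h1 h2 ⊢
    rw [evl_xor, h1, h2, add_zero]
  have lt : ∀ {j}, j < n → 2 ^ j < 2 ^ n := fun hj => Nat.pow_lt_pow_right (by norm_num) hj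
  have he : ∀ u ∈ eqs n Hs R, evl B u = 0 := by
    intro u hu
    simp only [eqs, List.mem_append, List.mem_flatMap, List.mem_map, List.mem_range] at hu
    rcases hu with ⟨i, h1, j, h2, rfl⟩ | ⟨i, h1, rfl⟩ | ⟨r, h1, j, h2, rfl⟩ | ⟨A, h1, i, h2, j, h3, rfl⟩
    · rw [evl_xor, evl_out _ _ (lt (h2.trans h1)), evl_out _ _ (lt h1), hs, add_self']
    · rw [evl_out _ _ (lt h1), ha]
    · rw [evl_out _ _ (lt h2), hr r h1]
    · rw [evl_xor, evl_out _ _ (getD_lt (wf_iff.1 (hw A h1)).2 j), evl_out _ _ (lt (h3.trans h2)), ← lin_pow _ _ h2,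
        ← lin_pow _ _ (h3.trans h2), hi A h1, add_self']
  have key : ∀ i < n, ∀ j < n, B (vc n (2 ^ i)) (vc n (2 ^ j)) =
      bt μ (n * i + j) * B (vc n (2 ^ i0)) (vc n (2 ^ j0)) := by
    intro i h1 j h2
    have h3 := Nat.eq_of_beq_eq_true ((allTo_iff _ _).1 ((allTo_iff _ _).1 h i h1) j h2)
    have h4 := (xc.red (xc.insL (L := []) (by simp) he) _).1 (by rw [h3]; exact evl_zero B)
    rw [evl_xor, evl_out _ _ (lt h2), ← sub_eq_add', sub_eq_zero] at h4
    rw [h4, ← evl_out _ _ (lt hj0), bt, Nat.testBit, Nat.one_and_eq_mod_two]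
    rcases Nat.mod_two_eq_zero_or_one (μ >>> (n * i + j)) with e | e <;> simp [e, evl_zero]
  rcases f2_cases (B (vc n (2 ^ i0)) (vc n (2 ^ j0))) with e | e
  · exact Or.inl (bil_ext fun i h1 j h2 => by rw [key i h1 j h2, e, mul_zero]; rfl)
  · refine Or.inr (bil_ext fun i h1 j h2 => ?_)
    rw [key i h1 j h2, e, mul_one, bf_apply, fm_pow _ h1, dot_pow _ h2]
    change _ = bt _ _
    unfold bt
    rw [Nat.testBit_shiftRight]

/-! ### the trilinear form -/

/-- the forms `τ D` -/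
noncomputable def tau (n : ℕ) (TP : List ℕ) : Sp 11 →ₗ[F2] Sp n →ₗ[F2] Sp n :=
  Fintype.linearCombination F2 fun l : Fin 11 => fm n (TP.getD l 0)

theorem tau_vc (n : ℕ) {TP : List ℕ} (h : TP.length = 11) (D : ℕ) : tau n TP (vc 11 D) = fm n (app TP D) := by
  rw [add_app (fm_zero n) (fm_xor n), h, tau, Fintype.linearCombination_apply,
    ← Fin.sum_univ_eq_sum_range (fun i => bt D i • fm n (TP.getD i 0)) 11]
  rfl

theorem tau_pow (n : ℕ) (TP : List ℕ) {l : ℕ} (hl : l < 11) : tau n TP (vc 11 (2 ^ l)) = fm n (TP.getD l 0) := by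
  rw [show vc 11 (2 ^ l) = Pi.single ⟨l, hl⟩ 1 from vc_pow (⟨l, hl⟩ : Fin 11), tau,
    Fintype.linearCombination_apply_single, one_smul]

/-- the inclusion -/
noncomputable def io (n : ℕ) : Sp n →ₗ[F2] Sp 11 := lin n 11 (idM n)

theorem io_vc {n x : ℕ} (hx : x < 2 ^ n) : io n (vc n x) = vc 11 x := by
  rw [io, lin_vc _ (wf_iff.1 (wf_idM n)).1, app_idM hx]

theorem io_inj {n : ℕ} (hn : n ≤ 11) : Function.Injective (io n) := by
  intro a b h
  obtain ⟨x, hx, rfl⟩ := vc_surj a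
  obtain ⟨y, hy, rfl⟩ := vc_surj b
  have : 2 ^ n ≤ 2 ^ 11 := Nat.pow_le_pow_right (by norm_num) hn
  rw [io_vc hx, io_vc hy] at h
  rw [vc_inj (by omega) (by omega) h]

theorem finrank_comap_io {n : ℕ} (hn : n ≤ 11) (W : Submodule F2 (Sp 11)) :
    finrank F2 (W.comap (io n)) = finrank F2 ↥(LinearMap.range (io n) ⊓ W) := by
  rw [← Submodule.map_comap_eq]
  exact LinearEquiv.finrank_eq (Submodule.equivMapOfInjective _ (io_inj hn) _)

theorem finrank_le_comap {n : ℕ} (hn : n ≤ 11) (W : Submodule F2 (Sp 11)) :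
    finrank F2 W + n ≤ finrank F2 (W.comap (io n)) + 11 := by
  have h1 := Submodule.finrank_sup_add_finrank_inf_eq (LinearMap.range (io n)) W
  have h2 := Submodule.finrank_le (LinearMap.range (io n) ⊔ W)
  rw [LinearMap.finrank_range_of_inj (io_inj hn)] at h1
  rw [finrank_comap_io hn]
  simp only [finrank_fintype_fun_eq_card, Fintype.card_fin] at h1 h2
  omega

/-- symmetry -/
def chkSym (n : ℕ) (TP : List ℕ) : Bool :=
  Nat.beq TP.length 11 && (allTo (fun l => isTr n n (unp n n (TP.getD l 0)) (unp n n (TP.getD l 0))) 11 &&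
    allTo (fun l => allTo (fun i =>
      Nat.beq ((TP.getD l 0 >>> (n * i)) % 2 ^ n) ((TP.getD i 0 >>> (n * l)) % 2 ^ n)) n) n)

/-- symmetry -/
structure Sym (n : ℕ) (TP : List ℕ) : Prop where
  len : TP.length = 11
  s2 : ∀ D a b, tau n TP D a ⬝ᵥ b = tau n TP D b ⬝ᵥ a
  s3 : ∀ x a, tau n TP (io n x) a = tau n TP (io n a) x

theorem sym_of {n : ℕ} (hn : n ≤ 11) {TP : List ℕ} (h : chkSym n TP = true) : Sym n TP := by
  rw [chkSym, Bool.and_eq_true, Bool.and_eq_true, allTo_iff, allTo_iff] at h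
  refine ⟨Nat.eq_of_beq_eq_true h.1, fun D a b => ?_, fun x a => ?_⟩
  · have : (dotProductEquiv F2 (Fin n) b : Sp n →ₗ[F2] F2) ∘ₗ (tau n TP).flip a =
        (dotProductEquiv F2 (Fin n) a : Sp n →ₗ[F2] F2) ∘ₗ (tau n TP).flip b := lin_ext fun l hl => by
      change b ⬝ᵥ tau n TP _ a = a ⬝ᵥ tau n TP _ b
      rw [tau_pow _ _ hl, fm, ← dot_lin (h.2.1 l hl), dotProduct_comm]
    rw [dotProduct_comm, dotProduct_comm _ a]
    exact DFunLike.congr_fun this D
  · have : tau n TP ∘ₗ io n = (tau n TP ∘ₗ io n).flip := lin_ext fun l hl => lin_ext fun i hi => by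
      rw [LinearMap.flip_apply, LinearMap.comp_apply, LinearMap.comp_apply, io_vc (Nat.pow_lt_pow_right (by norm_num) hl), io_vc (Nat.pow_lt_pow_right (by norm_num) hi),
        tau_pow _ _ (by omega), tau_pow _ _ (by omega), fm_pow _ hi, fm_pow _ hl, ← vc_mod,
        Nat.eq_of_beq_eq_true ((allTo_iff _ _).1 (h.2.2 l hl) i hi), vc_mod]
    have h1 := DFunLike.congr_fun (DFunLike.congr_fun this x) a
    rwa [LinearMap.flip_apply, LinearMap.comp_apply, LinearMap.comp_apply] at h1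

/-- invariance under the matrix `A` (eleven rows) -/
def chkInv (n : ℕ) (TP A : List ℕ) : Bool :=
  wf 11 11 A && (wf n n (A.take n) && (Nat.beq (trM n (A.take n)).length n && (isTr n n (A.take n) (trM n (A.take n)) &&
    allTo (fun l => frc (app TP (A.getD l 0)) fun μ => allTo (fun i =>
      Nat.beq (app (trM n (A.take n)) (app (unp n n μ) ((A.take n).getD i 0))) ((TP.getD l 0 >>> (n * i)) % 2 ^ n)) n)
      11)))

/-- invariance -/
structure InvM (n : ℕ) (TP A : List ℕ) : Prop where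
  wf1 : wf 11 11 A = true
  wf2 : wf n n (A.take n) = true
  inv : ∀ D a b, tau n TP (lin 11 11 A D) (lin n n (A.take n) a) ⬝ᵥ lin n n (A.take n) b = tau n TP D a ⬝ᵥ b
  io : ∀ x, lin 11 11 A (io n x) = io n (lin n n (A.take n) x)

theorem invM_of {n : ℕ} (hn : n ≤ 11) {TP A : List ℕ} (hT : TP.length = 11) (h : chkInv n TP A = true) :
    InvM n TP A := by
  simp only [chkInv, Bool.and_eq_true, allTo_iff, frc_eq] at h
  obtain ⟨h1, h2, h3, h4, h5⟩ := h
  refine ⟨h1, h2, fun D a b => ?_, fun x => ?_⟩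
  · rw [← dot_lin h4]
    congr 1
    have : ∀ l < 11, lin n n (trM n (A.take n)) ∘ₗ tau n TP (lin 11 11 A (vc 11 (2 ^ l))) ∘ₗ lin n n (A.take n) =
        tau n TP (vc 11 (2 ^ l)) := fun l hl => lin_ext fun i hi => by
      rw [LinearMap.comp_apply, LinearMap.comp_apply, lin_pow _ _ hl, lin_pow _ _ hi, tau_vc _ hT, tau_pow _ _ hl,
        fm_pow _ hi, fm, lin_vc _ (length_unp _ _ _), lin_vc _ (Nat.eq_of_beq_eq_true h3),
        Nat.eq_of_beq_eq_true (h5 l hl i hi), vc_mod]
    have h6 : lin n n (trM n (A.take n)) ∘ₗ (tau n TP).flip (lin n n (A.take n) a) ∘ₗ lin 11 11 A =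
        (tau n TP).flip a := lin_ext fun l hl => DFunLike.congr_fun (this l hl) a
    exact DFunLike.congr_fun h6 D
  · have : lin 11 11 A ∘ₗ SpB.io n = SpB.io n ∘ₗ lin n n (A.take n) := lin_ext fun i hi => by
      rw [LinearMap.comp_apply, LinearMap.comp_apply, io_vc (Nat.pow_lt_pow_right (by norm_num) hi),
        lin_pow _ _ (by omega), lin_pow _ _ hi, io_vc (getD_lt (wf_iff.1 h2).2 i)]
      simp [List.getD_eq_getElem?_getD, hi]
    exact DFunLike.congr_fun this x

/-! ### orbits -/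

/-- the images of `D` -/
def push (D : ℕ) : List (List ℕ) → List ℕ → ℕ → (List ℕ → ℕ → Bool) → Bool
  | [], st, v, k => k st v
  | A :: As, st, v, k => frc (app A D) fun E => cond (Nat.beq ((v >>> E) % 2) 1) (push D As st v k)
      (frc (v ||| 2 ^ E) fun v' => push D As (E :: st) v' k)

theorem push_realised : True := by have := @push.eq_def; trivial

theorem push_sound {Q : ℕ → Prop} {D : ℕ} {As : List (List ℕ)} (hQ : ∀ A ∈ As, Q (app A D)) {st : List ℕ} {v : ℕ}
    {k : List ℕ → ℕ → Bool} (h : push D As st v k = true) (h1 : ∀ x ∈ st, Q x) (h2 : ∀ x, v.testBit x = true → Q x) :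
    ∃ st' v', k st' v' = true ∧ (∀ x ∈ st', Q x) ∧ ∀ x, v'.testBit x = true → Q x := by
  induction As generalizing st v with
  | nil => exact ⟨st, v, h, h1, h2⟩
  | cons A As ih =>
    rw [push, frc_eq] at h
    have hQ' := fun B hB => hQ B (List.mem_cons_of_mem _ hB)
    have h3 := hQ A List.mem_cons_self
    cases e : Nat.beq ((v >>> app A D) % 2) 1
    · rw [e, cond_false, frc_eq] at h
      refine ih hQ' h (fun x hx => (List.mem_cons.1 hx).elim (fun e => e ▸ h3) (h1 x)) fun x hx => ?_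
      rw [Nat.testBit_or, Bool.or_eq_true, Nat.testBit_two_pow, decide_eq_true_eq] at hx
      exact hx.elim (h2 x) fun e => e ▸ h3
    · rw [e, cond_true] at h
      exact ih hQ' h h1 h2

/-- the orbits of the elements of the stack -/
noncomputable def orb (As : List (List ℕ)) (k : ℕ → Bool) (f : ℕ) : List ℕ → ℕ → Bool :=
  Nat.rec (fun _ v => k v) (fun _ rc st v => List.rec (k v) (fun D st' _ => push D As st' v rc) st) f

theorem orb_sound {Q : ℕ → Prop} {As : List (List ℕ)} (hQ : ∀ A ∈ As, ∀ D, Q D → Q (app A D)) {k : ℕ → Bool} (f : ℕ)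
    {st : List ℕ} {v : ℕ} (h : orb As k f st v = true) (h1 : ∀ x ∈ st, Q x) (h2 : ∀ x, v.testBit x = true → Q x) :
    ∃ v', k v' = true ∧ ∀ x, v'.testBit x = true → Q x := by
  induction f generalizing st v with
  | zero => exact ⟨v, h, h2⟩
  | succ f ih =>
    cases st with
    | nil => exact ⟨v, h, h2⟩
    | cons D st =>
      obtain ⟨st', v', h3, h4, h5⟩ := push_sound (Q := Q) (k := orb As k f)
        (fun A hA => hQ A hA D (h1 D List.mem_cons_self)) h (fun x hx => h1 x (List.mem_cons_of_mem _ hx)) h2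
      exact ih h3 h4 h5

/-! ### radicals -/

/-- the radical -/
noncomputable def rad (n : ℕ) (TP : List ℕ) (D : Sp 11) : Submodule F2 (Sp n) := LinearMap.ker (tau n TP D)

theorem in_ann_rad {n : ℕ} {TP : List ℕ} (hS : Sym n TP) (D : ℕ) :
    ∀ u ∈ unp n n (app TP D), In (ann (rad n TP (vc 11 D))) u := by
  intro u hu
  refine ⟨unp_lt _ _ _ u hu, mem_ann.2 fun x hx => ?_⟩
  obtain ⟨i, hi, rfl⟩ := List.getElem_of_mem hu
  have hi' : i < n := by rwa [length_unp] at hi
  rw [← List.getD_eq_getElem _ 0 hi, ← lin_pow n _ hi', ← fm, ← tau_vc _ hS.len, hS.s2, LinearMap.mem_ker.1 hx,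
    zero_dotProduct]

/-- small intersections of radicals -/
def Good (n : ℕ) (TP : List ℕ) (t : ℕ) (D : Sp 11) : Prop :=
  ∀ E, E ≠ 0 → E ≠ D → finrank F2 ↥(rad n TP D ⊓ rad n TP E) ≤ t

theorem Good.mono {n : ℕ} {TP : List ℕ} {t t' : ℕ} {D : Sp 11} (h : Good n TP t D) (ht : t ≤ t') : Good n TP t' D :=
  fun E h1 h2 => (h E h1 h2).trans ht

theorem Good.map {n : ℕ} {TP A : List ℕ} (hA : InvM n TP A) (h1 : Function.Injective (lin n n (A.take n)))
    (h2 : Function.Injective (lin 11 11 A)) {t : ℕ} {D : Sp 11} (h : Good n TP t D) : Good n TP t (lin 11 11 A D) := by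
  intro E' e1 e2
  obtain ⟨E, rfl⟩ := LinearMap.injective_iff_surjective.1 h2 E'
  have h3 := h E (fun e => e1 (by rw [e, map_zero])) fun e => e2 (by rw [e])
  have hs := LinearMap.injective_iff_surjective.1 h1
  have key : ∀ X a, lin n n (A.take n) a ∈ rad n TP (lin 11 11 A X) → a ∈ rad n TP X := by
    intro X a ha
    rw [rad, LinearMap.mem_ker] at ha ⊢
    refine dotProduct_eq_zero_iff.1 fun b => ?_
    rw [← hA.inv, ha, zero_dotProduct]
  have h4 : rad n TP (lin 11 11 A D) ⊓ rad n TP (lin 11 11 A E) ≤ (rad n TP D ⊓ rad n TP E).map (lin n n (A.take n)) := by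
    intro a' ha
    obtain ⟨a, rfl⟩ := hs a'
    exact ⟨a, ⟨key _ _ ha.1, key _ _ ha.2⟩, rfl⟩
  exact (Submodule.finrank_mono h4).trans ((Submodule.finrank_map_le _ _).trans h3)

/-- check of a representative -/
def chkRep (n : ℕ) (TP : List ℕ) (t D : ℕ) : Bool :=
  insK [] (unp n n (app TP D)) fun L => allTo (fun E => Nat.beq E 0 || (Nat.beq E D ||
    frc (app TP E) fun μ => insK L (unp n n μ) fun M => Nat.ble n (M.length + t))) 2048

theorem good_of_rep {n : ℕ} {TP : List ℕ} (hS : Sym n TP) {t D : ℕ} (h : chkRep n TP t D = true) :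
    Good n TP t (vc 11 D) := by
  intro E' e1 e2
  obtain ⟨E, hE, rfl⟩ := vc_surj E'
  rw [chkRep, insK_eq, allTo_iff] at h
  have h1 := h E hE
  simp only [Bool.or_eq_true, frc_eq, insK_eq, Nat.ble_eq] at h1
  rcases h1 with h1 | h1 | h1
  · exact absurd (by rw [Nat.eq_of_beq_eq_true h1, vc_zero]) e1
  · exact absurd (by rw [Nat.eq_of_beq_eq_true h1]) e2
  · have := ((ech_nil.insL (unp n n (app TP D))).insL (unp n n (app TP E))).finrank_le
      (W := rad n TP (vc 11 D) ⊓ rad n TP (vc 11 E)) ((xc_in _).insL ((xc_in _).insL (by simp)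
        fun u hu => (in_ann_rad hS D u hu).mono (ann_anti inf_le_left))
        fun u hu => (in_ann_rad hS E u hu).mono (ann_anti inf_le_right))
    omega

/-- the facts on radicals -/
structure ZOk (n N : ℕ) (TP : List ℕ) (T : ℕ → Rec) : Prop where
  z1 : ∀ D, D ≠ 0 → finrank F2 (rad n TP D) ≤ 6
  z2 : ∀ D, D ≠ 0 → Good n TP 3 D
  z3 : ∀ D, D ∉ LinearMap.range (io n) → Good n TP 2 D
  z4 : ∀ D, D ≠ 0 → ∀ j < N, finrank F2 ↥(rad n TP D ⊓ LinearMap.ker (lin n n (T j).mt - 1)) ≤ 5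

/-- rank test -/
def chkZ1 (n : ℕ) (TP : List ℕ) : Bool :=
  allTo (fun D => Nat.beq D 0 || frc (app TP D) fun μ => insK [] (unp n n μ) fun L => Nat.ble n (L.length + 6)) 2048

/-- the main check -/
noncomputable def chkZ (n N : ℕ) (TP : List ℕ) (T : ℕ → Rec) (As : List (List ℕ)) (r3 r2 : List ℕ) : Bool :=
  orb As (fun v3 => orb As (fun v2 => allTo (fun D => Nat.beq D 0 || frc (app TP D) fun μ => insK [] (unp n n μ) fun L =>
    frc L.length fun s => (Nat.ble n (s + 3) || (Nat.beq ((v3 >>> D) % 2) 1 || Nat.beq ((v2 >>> D) % 2) 1)) &&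
      ((Nat.blt D (2 ^ n) || (Nat.ble n (s + 2) || Nat.beq ((v2 >>> D) % 2) 1)) &&
      (Nat.ble n (s + 5) || allTo (fun j => insK L (T j).dm fun M => Nat.ble n (M.length + 5)) N))) 2048)
    2048 r2 0) 2048 r3 0

theorem zOk_of {n N : ℕ} {TP : List ℕ} {T : ℕ → Rec} {As : List (List ℕ)} {r3 r2 : List ℕ} (hn : 6 < n) (hS : Sym n TP)
    (hT : TabOk n N T) (hA : ∀ A ∈ As, InvM n TP A ∧ Function.Injective (lin n n (A.take n)))
    (h1 : chkZ1 n TP = true) (h3 : ∀ D ∈ r3, chkRep n TP 3 D = true) (h2 : ∀ D ∈ r2, chkRep n TP 2 D = true)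
    (h : chkZ n N TP T As r3 r2 = true) : ZOk n N TP T := by
  have rk : ∀ D, finrank F2 (rad n TP (vc 11 D)) + (insL [] (unp n n (app TP D))).length ≤ n := fun D =>
    (ech_nil.insL _).finrank_le ((xc_in _).insL (by simp) (in_ann_rad hS D))
  have z1 : ∀ D, D ≠ 0 → finrank F2 (rad n TP D) ≤ 6 := by
    intro D' e
    obtain ⟨D, hD, rfl⟩ := vc_surj D'
    have := (allTo_iff _ _).1 h1 D hD
    simp only [Bool.or_eq_true, frc_eq, insK_eq, Nat.ble_eq] at this
    rcases this with h4 | h4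
    · exact absurd (by rw [Nat.eq_of_beq_eq_true h4, vc_zero]) e
    · have := rk D
      omega
  have inj : ∀ A ∈ As, Function.Injective (lin 11 11 A) := by
    intro A hA'
    rw [injective_iff_map_eq_zero]
    intro D hD
    by_contra e
    have h4 : rad n TP D = ⊤ := eq_top_iff.2 fun a _ => by
      rw [rad, LinearMap.mem_ker]
      refine dotProduct_eq_zero_iff.1 fun b => ?_
      rw [← (hA A hA').1.inv, hD, map_zero, LinearMap.zero_apply, zero_dotProduct]
    have := z1 D e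
    rw [h4, finrank_top, finrank_fintype_fun_eq_card, Fintype.card_fin] at this
    omega
  have step : ∀ t, ∀ A ∈ As, ∀ D, Good n TP t (vc 11 D) → Good n TP t (vc 11 (app A D)) := fun t A hA' D hD => by
    rw [← lin_vc _ (wf_iff.1 (hA A hA').1.wf1).1]
    exact hD.map (hA A hA').1 (hA A hA').2 (inj A hA')
  obtain ⟨v3, h4, g3⟩ := orb_sound (Q := fun D => Good n TP 3 (vc 11 D)) (step 3) _ h
    (fun D hD => good_of_rep hS (h3 D hD)) (by simp)
  obtain ⟨v2, h5, g2⟩ := orb_sound (Q := fun D => Good n TP 2 (vc 11 D)) (step 2) _ h4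
    (fun D hD => good_of_rep hS (h2 D hD)) (by simp)
  have key : ∀ D < 2 ^ 11, vc 11 D ≠ 0 → (n ≤ (insL [] (unp n n (app TP D))).length + 3 ∨ v3.testBit D = true ∨
      v2.testBit D = true) ∧ (D < 2 ^ n ∨ n ≤ (insL [] (unp n n (app TP D))).length + 2 ∨ v2.testBit D = true) ∧
      (n ≤ (insL [] (unp n n (app TP D))).length + 5 ∨
        ∀ j < N, n ≤ (insL (insL [] (unp n n (app TP D))) (T j).dm).length + 5) := by
    intro D hD e
    have := (allTo_iff _ _).1 h5 D hD
    simp only [Bool.or_eq_true, Bool.and_eq_true, frc_eq, insK_eq, Nat.ble_eq, Nat.blt_eq, allTo_iff,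
      testBit_iff] at this
    exact this.resolve_left fun h6 => e (by rw [Nat.eq_of_beq_eq_true h6, vc_zero])
  have small : ∀ D t, n ≤ (insL [] (unp n n (app TP D))).length + t → Good n TP t (vc 11 D) := fun D t ht E _ _ => by
    have := Submodule.finrank_mono (inf_le_left : rad n TP (vc 11 D) ⊓ rad n TP E ≤ _)
    have := rk D
    omega
  refine ⟨z1, fun D' e => ?_, fun D' e => ?_, fun D' e j hj => ?_⟩
  · obtain ⟨D, hD, rfl⟩ := vc_surj D'
    rcases (key D hD e).1 with h6 | h6 | h6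
    · exact small D 3 h6
    · exact g3 D h6
    · exact (g2 D h6).mono (by norm_num)
  · obtain ⟨D, hD, rfl⟩ := vc_surj D'
    rcases (key D hD fun e' => e (e' ▸ zero_mem _)).2.1 with h6 | h6 | h6
    · exact absurd ⟨_, io_vc h6⟩ e
    · exact small D 2 h6
    · exact g2 D h6
  · obtain ⟨D, hD, rfl⟩ := vc_surj D'
    rcases (key D hD e).2.2 with h6 | h6
    · have := Submodule.finrank_mono
        (inf_le_left : rad n TP (vc 11 D) ⊓ LinearMap.ker (lin n n (T j).mt - 1) ≤ _)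
      have := rk D
      omega
    · have := ((ech_nil.insL (unp n n (app TP D))).insL (T j).dm).finrank_le
        (W := rad n TP (vc 11 D) ⊓ LinearMap.ker (lin n n (T j).mt - 1)) ((xc_in _).insL ((xc_in _).insL (by simp)
          fun u hu => (in_ann_rad hS D u hu).mono (ann_anti inf_le_left))
          fun u hu => (hT.dm j hj u hu).mono (ann_anti inf_le_right))
      have := h6 j hj
      omega

theorem exists_second {m : ℕ} {W : Submodule F2 (Sp m)} (h : 2 ≤ finrank F2 W) (D : Sp m) :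
    ∃ E ∈ W, E ≠ 0 ∧ E ≠ D := by
  by_contra hc
  push Not at hc
  have h1 : W ≤ Submodule.span F2 {D} := fun E hE => by
    by_cases e : E = 0
    · rw [e]; exact zero_mem _
    · rw [hc E hE e]; exact Submodule.mem_span_singleton_self D
  have h2 := (Submodule.finrank_mono h1).trans (finrank_span_le_card ({D} : Set (Sp m)))
  simp at h2
  omega

/-- **the bounds for pairs of orthogonal subspaces** -/
theorem ZOk.bounds {n N : ℕ} {TP : List ℕ} {T : ℕ → Rec} (h : ZOk n N TP T) (hn : n ≤ 11) (hS : Sym n TP)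
    {A : Submodule F2 (Sp n)} {W : Submodule F2 (Sp 11)} (hW : ∀ D ∈ W, A ≤ rad n TP D) :
    (3 ≤ finrank F2 A → finrank F2 W ≤ 3) ∧ (4 ≤ finrank F2 A → finrank F2 W ≤ 1) ∧
      (7 ≤ finrank F2 A → finrank F2 W = 0) ∧
      ((∃ j < N, A ≤ LinearMap.ker (lin n n (T j).mt - 1)) → 6 ≤ finrank F2 A → finrank F2 W = 0) := by
  refine ⟨fun hk => ?_, fun hk => ?_, fun hk => ?_, fun ⟨j, hj, hA⟩ hk => ?_⟩
  · by_contra hc
    by_cases ho : W ≤ LinearMap.range (io n)
    · obtain ⟨a, ha, a0, -⟩ := exists_second (W := A) (by omega) 0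
      obtain ⟨b, hb, b0, ba⟩ := exists_second (W := A) (by omega) a
      have h1 := h.z2 (io n a) (fun e => a0 (io_inj hn (e.trans (map_zero _).symm))) (io n b)
        (fun e => b0 (io_inj hn (e.trans (map_zero _).symm))) fun e => ba (io_inj hn e)
      have h2 : W.comap (io n) ≤ rad n TP (io n a) ⊓ rad n TP (io n b) := fun x hx =>
        ⟨by rw [rad, SetLike.mem_coe, LinearMap.mem_ker, hS.s3]; exact hW _ hx ha,
          by rw [rad, SetLike.mem_coe, LinearMap.mem_ker, hS.s3]; exact hW _ hx hb⟩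
      have h3 := Submodule.finrank_mono h2
      rw [finrank_comap_io hn, inf_eq_right.2 ho] at h3
      omega
    · obtain ⟨D, hD, hD'⟩ := SetLike.not_le_iff_exists.1 ho
      obtain ⟨E, hE, e0, eD⟩ := exists_second (W := W) (by omega) D
      have h1 := h.z3 D hD' E e0 eD
      have := Submodule.finrank_mono (le_inf (hW D hD) (hW E hE))
      omega
  · by_contra hc
    obtain ⟨D, hD, d0, -⟩ := exists_second (W := W) (by omega) 0
    obtain ⟨E, hE, e0, eD⟩ := exists_second (W := W) (by omega) D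
    have h1 := h.z2 D d0 E e0 eD
    have := Submodule.finrank_mono (le_inf (hW D hD) (hW E hE))
    omega
  · rw [Submodule.finrank_eq_zero, eq_bot_iff]
    intro D hD
    by_contra d0
    have h1 := h.z1 D d0
    have := Submodule.finrank_mono (hW D hD)
    omega
  · rw [Submodule.finrank_eq_zero, eq_bot_iff]
    intro D hD
    by_contra d0
    have h1 := h.z4 D d0 j hj
    have := Submodule.finrank_mono (le_inf (hW D hD) hA)
    omega

end Cfsg.Agent.TwoF.SpB
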