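import Cfsg.Agent.TwoF.SpB.Lay

/-!
# TwoF SP-B: the frame `1, E*, E, 1` and the lower bound for the codimension (helper24)
-/

set_option autoImplicit false
set_option maxHeartbeats 400000
set_option linter.unusedSectionVars false

namespace Cfsg.Agent.TwoF.SpB

open Module Gen

variable {Y : Type} [Group Y] [Finite Y] {V : Type} [AddCommGroup V] [Module F2 V] [Finite V]
  {n : ℕ} {σ : Representation F2 Y (Sp n)} {e : Sp n → Y} {P : Subgroup Y} {y : Y} {s : ℕ}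

/-- the data on forms -/
structure Fd (σ : Representation F2 Y (Sp n)) (P : Subgroup Y) (y w : Y) (TP : List ℕ) : Prop where
  w5 : w ^ 5 = 1
  wM : w ∈ P ⊔ Subgroup.zpowers y
  wn : w ∈ Subgroup.normalizer (Subgroup.zpowers y : Set Y)
  sym : Sym n TP
  tinv : ∀ g ∈ P ⊔ Subgroup.zpowers y, ∀ x a b,
    tau n TP (io n (σ g x)) (σ g a) ⬝ᵥ σ g b = tau n TP (io n x) a ⬝ᵥ b
  tne : ∀ D, tau n TP D = 0 → D = 0
  h5 : ∀ B : Sp n →ₗ[F2] Sp n →ₗ[F2] F2, (∀ a b, B a b = B b a) → (∀ a, B a a = 0) →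
    (∀ g ∈ P ⊔ Subgroup.zpowers y, ∀ a b, B (σ g a) (σ g b) = B a b) → B = 0
  h4 : ∃ x1, x1 ≠ 0 ∧ ∀ B : Sp n →ₗ[F2] Sp n →ₗ[F2] F2, (∀ a b, B a b = B b a) → (∀ a, B a a = 0) →
    (∀ b, B x1 b = 0) → (∀ g ∈ P ⊔ Subgroup.zpowers y, σ g x1 = x1 → ∀ a b, B (σ g a) (σ g b) = B a b) →
    B = 0 ∨ B = bf (tau n TP (io n x1))
  h3 : ∃ D0, (∀ B : Sp n →ₗ[F2] Sp n →ₗ[F2] F2, (∀ a b, B a b = B b a) → (∀ a, B a a = 0) →
    (∀ a b, B (σ y a) (σ y b) = B a b) → (∀ a b, B (σ w a) (σ w b) = B a b) → B = 0 ∨ B = bf (tau n TP D0)) ∧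
    (D0 = 0 ∨ (D0 ∉ LinearMap.range (io n) ∧ ∃ g ∈ P ⊔ Subgroup.zpowers y, ∃ x0, x0 ≠ 0 ∧
      ∀ a b, tau n TP D0 (σ g a) ⬝ᵥ σ g b = tau n TP D0 a ⬝ᵥ b + tau n TP (io n x0) a ⬝ᵥ b))

/-- submodules over the field with two elements -/
def mkS {M : Type} [AddCommGroup M] [Module F2 M] (S : Set M) (h0 : 0 ∈ S) (h : ∀ a ∈ S, ∀ b ∈ S, a + b ∈ S) :
    Submodule F2 M where
  carrier := S
  zero_mem' := h0
  add_mem' := fun {a b} ha hb => h a ha b hb
  smul_mem' := fun c v hv => by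
    rcases f2_cases c with e | e
    · rw [e, zero_smul]; exact h0
    · rw [e, one_smul]; exact hv

/-- the functionals `a ↦ l (T a v)` -/
noncomputable def ph2 (ρ : Representation F2 Y V) (e : Sp n → Y) (l : V →ₗ[F2] F2) : V →ₗ[F2] Sp n → F2 :=
  LinearMap.pi fun a => l ∘ₗ TT ρ e a

/-- the forms `(a, b) ↦ l (T a T b v)` -/
noncomputable def ph3 (ρ : Representation F2 Y V) (e : Sp n → Y) (l : V →ₗ[F2] F2) : V →ₗ[F2] Sp n → Sp n → F2 :=
  LinearMap.pi fun a => LinearMap.pi fun b => l ∘ₗ TT ρ e a ∘ₗ TT ρ e b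

/-- the dot product -/
noncomputable def th2 (n : ℕ) : Sp n →ₗ[F2] Sp n → F2 := LinearMap.pi fun a => dotProductEquiv F2 (Fin n) a

/-- the forms `τ D` -/
noncomputable def th3 (n : ℕ) (TP : List ℕ) : Sp 11 →ₗ[F2] Sp n → Sp n → F2 :=
  LinearMap.pi fun a => LinearMap.pi fun b => dotProductEquiv F2 (Fin n) b ∘ₗ (tau n TP).flip a

theorem th2_apply (m a : Sp n) : th2 n m a = m ⬝ᵥ a := by
  change a ⬝ᵥ m = _
  exact dotProduct_comm _ _

theorem th3_apply (TP : List ℕ) (D : Sp 11) (a b : Sp n) : th3 n TP D a b = tau n TP D a ⬝ᵥ b := by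
  change b ⬝ᵥ tau n TP D a = _
  exact dotProduct_comm _ _

theorem ph3_apply (ρ : Representation F2 Y V) (l : V →ₗ[F2] F2) (v : V) (a b : Sp n) :
    ph3 ρ e l v a b = l (TT ρ e a (TT ρ e b v)) := rfl

theorem eq_zero_of_th3 {w : Y} {TP : List ℕ} (F : Fd σ P y w TP) {D : Sp 11} (h : th3 n TP D = 0) : D = 0 :=
  F.tne D (LinearMap.ext fun a => dotProduct_eq_zero_iff.1 fun b => by
    rw [← th3_apply, h]; rfl)

namespace Gd

variable (G : Gd n σ e P y s) {ρ : Representation F2 Y V}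
include G

/-- the intersection of `A` with `E` -/
def A0 (A : Subgroup Y) : Submodule F2 (Sp n) :=
  mkS {x | e x ∈ A} (by change e 0 ∈ A; rw [G.e_zero]; exact one_mem _)
    fun a ha b hb => by change e (a + b) ∈ A; rw [G.add]; exact mul_mem ha hb

theorem mem_A0 {A : Subgroup Y} {x : Sp n} : x ∈ G.A0 A ↔ e x ∈ A := Iff.rfl

/-- the functional -/
structure Lam (ρ : Representation F2 Y V) (l : V →ₗ[F2] F2) : Prop where
  eqv : ∀ g ∈ P ⊔ Subgroup.zpowers y, ∀ v ∈ asc ρ G.E 2, ∀ a, l (TT ρ e (σ g a) (ρ g v)) = l (TT ρ e a v)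
  surj : ∀ m, ∃ v ∈ asc ρ G.E 2, ph2 ρ e l v = th2 n m
  inj : ∀ v ∈ asc ρ G.E 2, (∀ a, l (TT ρ e a v) = 0) → v ∈ asc ρ G.E 1

theorem zero_of {v : V} (h : v ∈ asc ρ G.E 0) : v = 0 := by rwa [asc_zero] at h

theorem exists_lam (t0 : G.Tv ρ 0) (h : ¬ asc ρ G.E 2 ≤ asc ρ G.E 1)
    (hd : finrank F2 (asc ρ G.E 2) ≤ finrank F2 (asc ρ G.E 1) + n) : ∃ l, G.Lam ρ l := by
  have hR : cm ρ (asc ρ G.E 2) G.E ≤ asc ρ G.E 1 := le_fxQ_iff.1 le_rfl
  obtain ⟨l, -, ⟨r, hr, l2⟩, l3⟩ := inv_fun (ρ := ρ) G.pP (y := y) (U := asc ρ G.E 0) (R := cm ρ (asc ρ G.E 2) G.E)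
    (G.inv_U _ _) (inv_cm (G.norm _) (G.inv_U _ _))
    (fun e => h fun v hv => G.mem_asc.2 fun a => e (mem_cm (G.e_mem a) hv)) fun r hr => t0 r (hR hr)
  have eqv : ∀ g ∈ P ⊔ Subgroup.zpowers y, ∀ v ∈ asc ρ G.E 2, ∀ a, l (TT ρ e (σ g a) (ρ g v)) = l (TT ρ e a v) :=
    fun g hg v hv a => by rw [← G.rho_tt]; exact l3 g hg _ (mem_cm (G.e_mem a) hv)
  have add : ∀ v ∈ asc ρ G.E 2, ∀ a b, l (TT ρ e (a + b) v) = l (TT ρ e a v) + l (TT ρ e b v) := fun v hv a b => by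
    rw [G.tt_add, G.zero_of (G.step (G.step hv b) a), add_zero, map_add]
  have hy : y ∈ P ⊔ Subgroup.zpowers y := Subgroup.mem_sup_right (Subgroup.mem_zpowers y)
  let N2 : Submodule F2 (Sp n) := mkS {x | ∀ v ∈ asc ρ G.E 2, l (TT ρ e x v) = 0}
    (fun v hv => by have := add v hv 0 0; rw [add_zero, add_self'] at this; exact this)
    fun a ha b hb v hv => by rw [add v hv, ha v hv, hb v hv, add_zero]
  have hN : N2 = ⊥ := by
    by_contra hc
    have h1 : N2 = ⊤ := G.irr (fun a ha v hv => by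
      rw [← rho_apply_inv ρ y v, eqv y hy _ (G.inv_U ⊤ _ _ (Subgroup.mem_top _) v hv)]
      exact ha _ (G.inv_U ⊤ _ _ (Subgroup.mem_top _) v hv)) hc
    refine l2 ((show cm ρ (asc ρ G.E 2) G.E ≤ LinearMap.ker l from cm_le_iff.2 ?_) hr)
    rintro _ ⟨a, rfl⟩ v hv
    exact (show a ∈ N2 from h1 ▸ Submodule.mem_top) v hv
  let W2 : Submodule F2 (Sp n) := ((asc ρ G.E 2).map (ph2 ρ e l)).comap (th2 n)
  have hW : W2 = ⊤ := by
    have h1 : ann W2 ≤ N2 := fun x hx v hv => by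
      obtain ⟨m, hm⟩ := exists_lin (fun a => l (TT ρ e a v)) (add v hv)
      rw [hm]
      exact mem_ann.1 hx |> fun h2 => by
        rw [dotProduct_comm]
        exact h2 m ⟨v, hv, funext fun a => (hm a).trans (th2_apply m a).symm⟩
    have h2 := finrank_ann W2
    rw [hN, le_bot_iff] at h1
    rw [h1, finrank_bot] at h2
    refine Submodule.eq_top_of_finrank_eq ?_
    rw [finrank_fintype_fun_eq_card, Fintype.card_fin]; omega
  have surj : ∀ m, ∃ v ∈ asc ρ G.E 2, ph2 ρ e l v = th2 n m := fun m => (show m ∈ W2 from hW ▸ Submodule.mem_top)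
  refine ⟨l, eqv, surj, fun v hv h1 => ?_⟩
  have h2 := incr (U := asc ρ G.E 2 ⊓ LinearMap.ker (ph2 ρ e l)) (W := asc ρ G.E 2) ⊥ inf_le_left (ph2 ρ e l)
    (fun u hu => hu.2) (th2 n) surj ⊥ fun D v _ hv' h3 => by
      rw [(Submodule.mem_bot F2).1 hv', map_zero] at h3
      exact dotProduct_eq_zero_iff.1 fun a => by rw [← th2_apply, ← h3]; rfl
  rw [sup_bot_eq, sup_bot_eq, finrank_bot] at h2
  have h3 : asc ρ G.E 1 = asc ρ G.E 2 ⊓ LinearMap.ker (ph2 ρ e l) := Submodule.eq_of_le_of_finrank_le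
    (le_inf (asc_le_succ _ _) fun u hu => funext fun a => by
      change l (TT ρ e a u) = 0
      rw [G.zero_of (G.step hu a), map_zero]) (by omega)
  rw [h3]
  exact ⟨hv, funext h1⟩

variable {G} {l : V →ₗ[F2] F2}

theorem Lam.eqv3 (L : G.Lam ρ l) {g : Y} (hg : g ∈ P ⊔ Subgroup.zpowers y) {v : V} (hv : v ∈ asc ρ G.E 3) (a b : Sp n) :
    ph3 ρ e l (ρ g v) (σ g a) (σ g b) = ph3 ρ e l v a b := by
  rw [ph3_apply, ph3_apply, ← G.rho_tt, L.eqv g hg _ (G.step hv b)]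

theorem Lam.inj3 (L : G.Lam ρ l) {v : V} (hv : v ∈ asc ρ G.E 3) (h : ph3 ρ e l v = 0) : v ∈ asc ρ G.E 2 :=
  G.mem_asc.2 fun b => L.inj _ (G.step hv b) fun a => congrFun (congrFun h a) b

theorem ph3_two {v : V} (hv : v ∈ asc ρ G.E 2) : ph3 ρ e l v = 0 := funext fun a => funext fun b => by
  rw [ph3_apply, G.zero_of (G.step (G.step hv b) a), map_zero]; rfl

/-- the second layer -/
theorem Lam.two (L : G.Lam ρ l) {A : Subgroup Y} (hA : A ≤ P ⊔ Subgroup.zpowers y) :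
    finrank F2 (fx ρ A) + finrank F2 ↥(cm σ ⊤ A ⊔ G.A0 A) ≤ finrank F2 ↥(asc ρ G.E 2 ⊔ fx ρ A) := by
  have h1 := incr (fx ρ A) (asc_le_succ (ρ := ρ) G.E 1) (ph2 ρ e l) (fun u hu => funext fun a => by
      change l (TT ρ e a u) = 0
      rw [G.zero_of (G.step hu a), map_zero]) (th2 n) L.surj (ann (cm σ ⊤ A ⊔ G.A0 A)) fun D v hv hv' h => by
    have h2 : ∀ a, D ⬝ᵥ a = l (TT ρ e a v) := fun a => by rw [← th2_apply, ← h]; rfl
    have h3 : cm σ ⊤ A ⊔ G.A0 A ≤ LinearMap.ker (dotProductEquiv F2 (Fin n) D) := sup_le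
      (cm_le_iff.2 fun g hg a _ => by
        change D ⬝ᵥ _ = 0
        rw [dotProduct_sub, h2, h2, ← L.eqv g (hA hg) v hv a, hv' g hg, sub_self])
      fun x hx => by
        change D ⬝ᵥ _ = 0
        rw [h2, LinearMap.sub_apply, hv' _ hx, Module.End.one_apply, sub_self, map_zero]
    exact mem_ann.2 fun x hx => h3 hx
  have h2 := finrank_ann (cm σ ⊤ A ⊔ G.A0 A)
  have h3 := Submodule.finrank_mono (le_sup_right : fx ρ A ≤ asc ρ G.E 1 ⊔ fx ρ A)
  change _ ≤ finrank F2 ↥(asc ρ G.E (1 + 1) ⊔ fx ρ A)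
  omega

variable (G) in
/-- the invariant forms with `A0` in the radical -/
noncomputable def W0 (TP : List ℕ) (A : Subgroup Y) : Submodule F2 (Sp 11) :=
  mkS {D | (∀ g ∈ A, ∀ a b, th3 n TP D (σ g a) (σ g b) = th3 n TP D a b) ∧ G.A0 A ≤ rad n TP D}
    ⟨by simp, fun x _ => by simp [rad]⟩ fun D hD E hE => ⟨fun g hg a b => by
      rw [map_add]
      simp only [Pi.add_apply]
      rw [hD.1 g hg, hE.1 g hg], fun x hx => by
      rw [rad, LinearMap.mem_ker, map_add, LinearMap.add_apply, hD.2 hx, hE.2 hx, add_zero]⟩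

/-- the third layer -/
theorem Lam.three (L : G.Lam ρ l) {A : Subgroup Y} (hA : A ≤ P ⊔ Subgroup.zpowers y) {TP : List ℕ} {m : ℕ}
    (j : Sp m →ₗ[F2] Sp 11) (hj : ∀ D, ∃ v ∈ asc ρ G.E 3, ph3 ρ e l v = th3 n TP (j D)) :
    finrank F2 ↥(asc ρ G.E 2 ⊔ fx ρ A) + m ≤
      finrank F2 ↥(asc ρ G.E 3 ⊔ fx ρ A) + finrank F2 ((G.W0 TP A).comap j) :=
  incr (fx ρ A) (asc_le_succ (ρ := ρ) G.E 2) (ph3 ρ e l) (fun _ hu => ph3_two hu) (th3 n TP ∘ₗ j) hj _
    fun D v hv hv' h => by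
      have h1 : th3 n TP (j D) = ph3 ρ e l v := h.symm
      refine ⟨fun g hg a b => ?_, fun x hx => dotProduct_eq_zero_iff.1 fun b => ?_⟩
      · rw [h1, ← L.eqv3 (hA hg) hv a b, hv' g hg]
      · rw [← th3_apply, h1, ph3_apply, G.tt_comm, LinearMap.sub_apply (ρ (e x)), hv' _ hx, Module.End.one_apply,
          sub_self, map_zero, map_zero]

theorem comap_W0 {w : Y} {TP : List ℕ} (F : Fd σ P y w TP) {A : Subgroup Y} (hA : A ≤ P ⊔ Subgroup.zpowers y) :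
    (G.W0 TP A).comap (io n) ≤ fx σ A := fun x hx g hg => by
  rw [← sub_eq_zero]
  refine io_inj G.n11 (((eq_zero_of_th3 F ?_)).trans (map_zero _).symm)
  funext a b
  rw [map_sub, map_sub, Pi.sub_apply, Pi.sub_apply, ← rho_apply_inv σ g a, ← rho_apply_inv σ g b, hx.1 g hg,
    th3_apply, th3_apply, F.tinv g (hA hg), sub_self]
  rfl

variable (G) in
/-- the lower bound -/
def Bd (ρ : Representation F2 Y V) (TP : List ℕ) (A : Subgroup Y) : Prop :=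
  ∃ W : Submodule F2 (Sp 11), (∀ D ∈ W, G.A0 A ≤ rad n TP D) ∧ W.comap (io n) ≤ fx σ A ∧
    finrank F2 ↥(cm σ ⊤ A ⊔ G.A0 A) + n ≤ cod ρ A + finrank F2 (W.comap (io n)) ∧
    (G.A0 A ≠ ⊥ → finrank F2 ↥(cm σ ⊤ A ⊔ G.A0 A) + n + 1 ≤ cod ρ A + finrank F2 W)

/-- the non-cubic case -/
theorem Lam.four (L : G.Lam ρ l) {w : Y} {TP : List ℕ} (F : Fd σ P y w TP) (t3 : G.Tv ρ 3)
    (h : ¬ asc ρ G.E 4 ≤ asc ρ G.E 3) {A : Subgroup Y} (hA : A ≤ P ⊔ Subgroup.zpowers y) : G.Bd ρ TP A := by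
  obtain ⟨v, hv, hv', hfix⟩ := inv_vec G.pP (G.inv_U _ 3) (G.inv_U _ 4) h t3
  have hy : y ∈ P ⊔ Subgroup.zpowers y := Subgroup.mem_sup_right (Subgroup.mem_zpowers y)
  have eqv : ∀ g ∈ P ⊔ Subgroup.zpowers y, ∀ x a b,
      ph3 ρ e l (TT ρ e (σ g x) v) (σ g a) (σ g b) = ph3 ρ e l (TT ρ e x v) a b := fun g hg x a b => by
    have e1 : TT ρ e (σ g x) v = ρ g (TT ρ e x v) - TT ρ e (σ g x) (ρ g v - v) := by
      rw [G.rho_tt, map_sub]; abel
    rw [e1, map_sub, ph3_two (G.step (hfix g hg) _), sub_zero, L.eqv3 hg (G.step hv x)]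
  have add : ∀ x x', ph3 ρ e l (TT ρ e (x + x') v) = ph3 ρ e l (TT ρ e x v) + ph3 ρ e l (TT ρ e x' v) := fun x x' => by
    rw [G.tt_add, map_add, map_add, ph3_two (G.step (G.step hv x') x), add_zero]
  obtain ⟨x1, hx1, h4⟩ := F.h4
  have key : ∀ c : F2, ph3 ρ e l (TT ρ e x1 v) = c • th3 n TP (io n x1) →
      ∀ x, ph3 ρ e l (TT ρ e x v) = c • th3 n TP (io n x) := by
    intro c hc x
    let N : Submodule F2 (Sp n) := mkS {x | ph3 ρ e l (TT ρ e x v) = c • th3 n TP (io n x)}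
      (by
        have := add 0 0
        rw [add_zero, add_self'] at this
        change _ = _
        rw [this, map_zero, map_zero, smul_zero])
      fun a ha b hb => by
        change _ = _
        rw [add, ha, hb, map_add, map_add, smul_add]
    have h1 : N = ⊤ := G.irr (fun x hx => funext fun a => funext fun b => by
      rw [← rho_apply_inv σ y a, ← rho_apply_inv σ y b, eqv y hy, hx]
      simp only [Pi.smul_apply, th3_apply, F.tinv y hy])
      fun e1 => hx1 ((Submodule.mem_bot F2).1 (e1 ▸ (show x1 ∈ N from hc)))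
    exact (show x ∈ N from h1 ▸ Submodule.mem_top)
  obtain ⟨B, b1, b2, b3⟩ := G.bil (i := 0) (l := l) (fun u hu => by rw [G.zero_of hu, map_zero]) (G.step hv x1)
  have h1 : ∀ x, ph3 ρ e l (TT ρ e x v) = th3 n TP (io n x) := by
    rcases h4 B b2 b3 (fun b => by rw [b2, b1, G.tt_sq, map_zero, map_zero]) (fun g hg hx a b => by
      rw [b1, b1, ← ph3_apply, ← ph3_apply, ← eqv g hg x1 a b, hx]) with h2 | h2
    · refine absurd (G.mem_asc.2 fun x => L.inj3 (G.step hv x) ?_) hv'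
      rw [key 0 (funext fun a => funext fun b => by rw [ph3_apply, ← b1, h2, zero_smul]; rfl) x, zero_smul]
    · intro x
      rw [key 1 (funext fun a => funext fun b => by rw [ph3_apply, ← b1, h2, one_smul, th3_apply, bf_apply]) x,
        one_smul]
  have h2 := L.two hA
  have h3 := L.three hA (io n) fun x => ⟨_, G.step hv x, h1 x⟩
  have h5 := cod_add (ρ := ρ) A
  have h6 : (LinearMap.range (io n) ⊓ G.W0 TP A).comap (io n) = (G.W0 TP A).comap (io n) := by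
    rw [Submodule.comap_inf]
    exact inf_eq_right.2 fun x _ => ⟨x, rfl⟩
  refine ⟨LinearMap.range (io n) ⊓ G.W0 TP A, fun D hD => hD.2.2, h6 ▸ comap_W0 F hA, ?_, fun h0 => ?_⟩
  · have := Submodule.finrank_le (asc ρ G.E 3 ⊔ fx ρ A)
    rw [h6]
    omega
  · rw [← finrank_comap_io G.n11]
    have : finrank F2 ↥(asc ρ G.E 3 ⊔ fx ρ A) < finrank F2 V := Submodule.finrank_lt fun e1 => by
      obtain ⟨u, hu, c, hc, e2⟩ := Submodule.mem_sup.1 (show v ∈ asc ρ G.E 3 ⊔ fx ρ A from e1 ▸ Submodule.mem_top)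
      refine h0 (eq_bot_iff.2 fun x hx => io_inj G.n11 ((eq_zero_of_th3 F ?_).trans (map_zero _).symm))
      rw [← h1, ← e2, map_add, LinearMap.sub_apply (ρ (e x)) _ c, hc _ hx, Module.End.one_apply, sub_self, add_zero,
        ph3_two (G.step hu x)]
    omega

/-- the cubic case -/
theorem Lam.exc (L : G.Lam ρ l) {w : Y} {TP : List ℕ} (F : Fd σ P y w TP) (h : asc ρ G.E 3 = ⊤) {v : V}
    (hv : v ∉ asc ρ G.E 2) (h1 : ρ y v - v ∈ asc ρ G.E 2) (h2 : ρ w v - v ∈ asc ρ G.E 2) {A : Subgroup Y}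
    (hA : A ≤ P ⊔ Subgroup.zpowers y) : G.Bd ρ TP A := by
  have m3 : ∀ u, u ∈ asc ρ G.E 3 := fun u => h ▸ Submodule.mem_top
  have hy : y ∈ P ⊔ Subgroup.zpowers y := Subgroup.mem_sup_right (Subgroup.mem_zpowers y)
  obtain ⟨B, b1, b2, b3⟩ := G.bil (i := 0) (l := l) (fun u hu => by rw [G.zero_of hu, map_zero]) (m3 v)
  have inv : ∀ g ∈ P ⊔ Subgroup.zpowers y, ρ g v - v ∈ asc ρ G.E 2 → ∀ a b, B (σ g a) (σ g b) = B a b := by
    intro g hg hf a b
    have := ph3_two (l := l) hf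
    rw [map_sub, sub_eq_zero] at this
    rw [b1, b1, ← ph3_apply, ← ph3_apply, ← this, L.eqv3 hg (m3 v), this]
  obtain ⟨D0, h3, h4⟩ := F.h3
  have hB : B ≠ 0 := fun e1 => hv (L.inj3 (m3 v) (funext fun a => funext fun b => by rw [ph3_apply, ← b1, e1]; rfl))
  have h5 := (h3 B b2 b3 (inv y hy h1) (inv w F.wM h2)).resolve_left hB
  have h6 : ph3 ρ e l v = th3 n TP D0 := funext fun a => funext fun b => by
    rw [ph3_apply, ← b1, h5, th3_apply, bf_apply]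
  obtain ⟨h7, g, hg, x0, hx0, h8⟩ := h4.resolve_left fun e1 => hB (by
    rw [h5, e1, map_zero]; exact LinearMap.comp_zero _)
  let N := (LinearMap.range (ph3 ρ e l)).comap (th3 n TP)
  have h9 : N.comap (io n) = ⊤ := G.irr (fun x ⟨u, hu⟩ => ⟨ρ y u, funext fun a => funext fun b => by
      rw [← rho_apply_inv σ y a, ← rho_apply_inv σ y b, L.eqv3 hy (m3 u), hu, th3_apply, th3_apply, F.tinv y hy]⟩)
    fun e1 => hx0 ((Submodule.mem_bot F2).1 (e1 ▸ (show x0 ∈ N.comap (io n) from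
      ⟨ρ g⁻¹ v - v, funext fun a => funext fun b => by
        rw [map_sub, Pi.sub_apply, Pi.sub_apply, ← L.eqv3 hg (m3 _), rho_apply_inv, h6, th3_apply, th3_apply, th3_apply,
          h8, add_sub_cancel_left]⟩)))
  have h10 : LinearMap.range (io n) < N := lt_of_le_of_ne
    (by rintro _ ⟨x, rfl⟩; exact (show x ∈ N.comap (io n) from h9 ▸ Submodule.mem_top))
    fun e1 => h7 (e1 ▸ (show D0 ∈ N from ⟨v, h6⟩))
  have h11 := Submodule.finrank_lt_finrank_of_lt h10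
  have h12 := Submodule.finrank_le N
  rw [LinearMap.finrank_range_of_inj (io_inj G.n11)] at h11
  rw [finrank_fintype_fun_eq_card, Fintype.card_fin] at h11 h12
  have h13 := G.n10
  have h14 : N = ⊤ := Submodule.eq_top_of_finrank_eq (by rw [finrank_fintype_fun_eq_card, Fintype.card_fin]; omega)
  have k2 := L.two hA
  have k3 := L.three hA (TP := TP) LinearMap.id fun D => by
    obtain ⟨u, hu⟩ : D ∈ N := h14 ▸ Submodule.mem_top
    exact ⟨u, m3 u, hu⟩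
  have k4 := cod_add (ρ := ρ) A
  have k5 := Submodule.finrank_le (asc ρ G.E 3 ⊔ fx ρ A)
  have k6 := finrank_le_comap G.n11 (G.W0 TP A)
  rw [Submodule.comap_id] at k3
  exact ⟨G.W0 TP A, fun D hD => hD.2, comap_W0 F hA, by omega, fun _ => by omega⟩

variable (G) in
/-- **`E` is a cubic offender or the lower bound holds** -/
theorem frame {w : Y} {TP : List ℕ} (F : Fd σ P y w TP) (hd : finrank F2 V ≤ 24) :
    (Off 2 ρ G.E ∧ Cub ρ G.E) ∨ ∀ A ≤ P ⊔ Subgroup.zpowers y, G.Bd ρ TP A := by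
  have h10 := G.n10
  have mono : ∀ i, finrank F2 (asc ρ G.E i) ≤ finrank F2 (asc ρ G.E (i + 1)) := fun i =>
    Submodule.finrank_mono (asc_le_succ _ _)
  have top : ∀ i, finrank F2 (asc ρ G.E i) ≤ finrank F2 V := fun i => Submodule.finrank_le _
  have up : ∀ i, asc ρ G.E i = ⊤ → asc ρ G.E (i + 1) = ⊤ := fun i h => top_le_iff.1 (h ▸ asc_le_succ _ _)
  by_cases t0 : G.Tv ρ 0
  swap
  · left
    have h1 : finrank F2 (asc ρ G.E 0) + n ≤ finrank F2 (asc ρ G.E 1) := G.big_U t0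
    refine G.done ?_ (by omega)
    by_contra h3
    have h4 : ¬ asc ρ G.E 4 ≤ asc ρ G.E 3 := fun e1 => h3 (G.asc_stab e1)
    have h2 : ¬ asc ρ G.E 3 ≤ asc ρ G.E 2 := fun e1 => h3 (up 2 (G.asc_stab e1))
    have m1 : finrank F2 (asc ρ G.E 1) ≤ finrank F2 (asc ρ G.E 2) := mono 1
    have m2 : finrank F2 (asc ρ G.E 2) ≤ finrank F2 (asc ρ G.E 3) := mono 2
    have m4 := top 4
    have h1' : finrank F2 (asc ρ G.E 0) + n ≤ finrank F2 (asc ρ G.E 1) := h1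
    by_cases t1 : G.Tv ρ 1
    · have b2 : finrank F2 (asc ρ G.E 2) + n ≤ finrank F2 (asc ρ G.E 3) :=
        G.big_U (i := 2) fun t2 => h2 (G.consec t1 t2)
      have b3 : finrank F2 (asc ρ G.E 3) + n ≤ finrank F2 (asc ρ G.E 4) :=
        G.big_U (i := 3) fun t3 => h4 (G.gap F.h5 t1 t3)
      omega
    · have b1 : finrank F2 (asc ρ G.E 1) + n ≤ finrank F2 (asc ρ G.E 2) := G.big_U t1
      by_cases t2 : G.Tv ρ 2
      · have b3 : finrank F2 (asc ρ G.E 3) + n ≤ finrank F2 (asc ρ G.E 4) :=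
          G.big_U (i := 3) fun t3 => h4 (G.consec t2 t3)
        omega
      · have b2 : finrank F2 (asc ρ G.E 2) + n ≤ finrank F2 (asc ρ G.E 3) := G.big_U t2
        have m3 : finrank F2 (asc ρ G.E 3) ≤ finrank F2 (asc ρ G.E 4) := mono 3
        omega
  obtain ⟨d, hd1, hd2⟩ := G.dim_two hd t0
  by_cases h2 : asc ρ G.E 2 = ⊤
  · left
    refine G.done (up 2 h2) ?_
    rw [h2, finrank_top] at hd2
    omega
  have h32 : ¬ asc ρ G.E 3 ≤ asc ρ G.E 2 := fun e1 => h2 (G.asc_stab e1)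
  have h21 : ¬ asc ρ G.E 2 ≤ asc ρ G.E 1 := fun e1 => h2 (up 1 (G.asc_stab e1))
  have h10' : ¬ asc ρ G.E 1 ≤ asc ρ G.E 0 := fun e1 => h2 (up 1 (up 0 (G.asc_stab e1)))
  have t2 : ¬ G.Tv ρ 2 := fun t2 => h32 (G.gap F.h5 t0 t2)
  have b0 : 0 < finrank F2 (asc ρ G.E 1) := by
    by_contra hc
    exact h10' (by rw [Submodule.finrank_eq_zero.1 (Nat.eq_zero_of_not_pos hc)]; exact bot_le)
  have b1 : finrank F2 (asc ρ G.E 1) + n ≤ finrank F2 (asc ρ G.E 2) := G.big_U fun t1 => h21 (G.consec t0 t1)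
  have b2 : finrank F2 (asc ρ G.E 2) + n ≤ finrank F2 (asc ρ G.E 3) := G.big_U t2
  have m3 := top 3
  obtain ⟨l, L⟩ := G.exists_lam t0 h21 (by omega)
  by_cases h3 : asc ρ G.E 3 = ⊤
  swap
  · refine Or.inr fun A hA => L.four F ?_ (fun e1 => h3 (G.asc_stab e1)) hA
    by_contra t3
    have b3 : finrank F2 (asc ρ G.E 3) + n ≤ finrank F2 (asc ρ G.E 4) := G.big_U t3
    have := top 4
    omega
  by_cases h4 : finrank F2 V ≤ finrank F2 (asc ρ G.E 1) + 2 * n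
  · exact Or.inl (G.done h3 h4)
  obtain ⟨c, hc1, hc2⟩ := G.dim_top hd (G.inv_U (ρ := ρ) (Subgroup.zpowers y) 2)
  have hle : asc ρ G.E 2 ≤ fxQ ρ (asc ρ G.E 2) (Subgroup.zpowers y) := le_fxQ (G.inv_U _ _)
  have h5 := Submodule.finrank_mono hle
  have h6 : c ≠ 0 := fun e1 => t2 fun u _ => by
    have : fxQ ρ (asc ρ G.E 2) (Subgroup.zpowers y) = ⊤ := Submodule.eq_top_of_finrank_eq (by omega)
    exact mem_fxQ.1 (show u ∈ fxQ ρ (asc ρ G.E 2) (Subgroup.zpowers y) from this ▸ Submodule.mem_top) y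
      (Subgroup.mem_zpowers y)
  have h7 : ¬ fxQ ρ (asc ρ G.E 2) (Subgroup.zpowers y) ≤ asc ρ G.E 2 := fun e1 => by
    have := Submodule.finrank_mono e1
    omega
  obtain ⟨v, hv, hv'⟩ := SetLike.not_le_iff_exists.1 h7
  have h8 : cm ρ (fxQ ρ (asc ρ G.E 2) (Subgroup.zpowers y)) (Subgroup.zpowers w) ≤ asc ρ G.E 2 := by
    by_contra hc
    have : Fact (Nat.Prime 5) := ⟨by norm_num⟩
    have := le_finrank_of_order (s := 5) (n := 4) (by rw [Nat.card_zmod]; norm_num)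
      (by rw [Nat.card_zmod]; intro d h1 h2; interval_cases d <;> norm_num)
      (elemAb_isPGroup (elemAb_zpowers F.w5)) hle (G.inv_U _ _)
      (inv_fxQ (Subgroup.zpowers_le.2 F.wn) (G.inv_U _ _)) hc
    omega
  exact Or.inr fun A hA => L.exc F h3 hv' (mem_fxQ.1 hv y (Subgroup.mem_zpowers y))
    (h8 (mem_cm (Subgroup.mem_zpowers w) hv)) hA

end Gd

end Cfsg.Agent.TwoF.SpB
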