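import Cfsg.Agent.TwoF.SpB.Form
import Cfsg.Agent.TwoF.SpB.Core
import Cfsg.Agent.TwoF.Gen.BLay

/-!
# TwoF SP-B: the layers of a normal elementary abelian 2-subgroup, tools (helper24)
-/

set_option autoImplicit false
set_option maxHeartbeats 400000
set_option linter.unusedSectionVars false

namespace Cfsg.Agent.TwoF.SpB

open Module Gen

section gen

variable {Y : Type} [Group Y] [Finite Y] {V : Type} [AddCommGroup V] [Module F2 V] [Finite V]
  {ρ : Representation F2 Y V}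

theorem not_le_sup_cm {P : Subgroup Y} (hP : IsPGroup 2 P) {U R : Submodule F2 V} (hU : Inv ρ P U)
    (h : ¬ R ≤ U) : ¬ R ≤ U ⊔ cm ρ R P := by
  intro hc
  have key : ∀ j, R ≤ U ⊔ asc ρ P j → R ≤ U := by
    intro j
    induction j with
    | zero => rw [asc_zero, sup_bot_eq]; exact id
    | succ j ih =>
      intro h1
      refine ih (hc.trans (sup_le le_sup_left (cm_le_iff.2 fun b hb v hv => ?_)))
      obtain ⟨u, hu, x, hx, rfl⟩ := Submodule.mem_sup.1 (h1 hv)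
      rw [map_add, add_sub_add_comm]
      exact add_mem (Submodule.mem_sup_left (sub_mem (hU b hb u hu) hu))
        (Submodule.mem_sup_right (mem_asc_succ.1 hx b hb))
  exact h (key (cod ρ P + 1) (by rw [asc_eq_top hP (Nat.lt_succ_self _)]; simp))

/-- an invariant functional -/
theorem inv_fun {P : Subgroup Y} (hP : IsPGroup 2 P) {y : Y} {U R : Submodule F2 V}
    (hU : Inv ρ (P ⊔ Subgroup.zpowers y) U) (hR : Inv ρ (P ⊔ Subgroup.zpowers y) R) (h : ¬ R ≤ U)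
    (hy : ∀ r ∈ R, ρ y r - r ∈ U) : ∃ l : V →ₗ[F2] F2, (∀ u ∈ U, l u = 0) ∧ (∃ r ∈ R, l r ≠ 0) ∧
      ∀ g ∈ P ⊔ Subgroup.zpowers y, ∀ r ∈ R, l (ρ g r) = l r := by
  obtain ⟨r, hr, hr'⟩ := SetLike.not_le_iff_exists.1 (not_le_sup_cm hP (hU.mono le_sup_left) h)
  obtain ⟨l, h1, h2⟩ := exists_dual_of_notMem hr'
  let H : Subgroup Y :=
    { carrier := {g | g ∈ P ⊔ Subgroup.zpowers y ∧ ∀ r ∈ R, l (ρ g r) = l r}
      one_mem' := ⟨one_mem _, fun r _ => by rw [rho_one]⟩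
      mul_mem' := fun {a b} ha hb => ⟨mul_mem ha.1 hb.1, fun r hr => by
        rw [rho_mul, ha.2 _ (hR b hb.1 r hr), hb.2 r hr]⟩
      inv_mem' := fun {a} ha => ⟨inv_mem ha.1, fun r hr => by
        rw [← ha.2 _ (hR _ (inv_mem ha.1) r hr), rho_apply_inv]⟩ }
  have h3 : P ⊔ Subgroup.zpowers y ≤ H := sup_le
    (fun g hg => ⟨Subgroup.mem_sup_left hg, fun r hr => by
      rw [← sub_eq_zero, ← map_sub]; exact h2 _ (Submodule.mem_sup_right (mem_cm hg hr))⟩)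
    (Subgroup.zpowers_le.2 ⟨Subgroup.mem_sup_right (Subgroup.mem_zpowers y), fun r hr => by
      rw [← sub_eq_zero, ← map_sub]; exact h2 _ (Submodule.mem_sup_left (hy r hr))⟩)
  exact ⟨l, fun u hu => h2 u (Submodule.mem_sup_left hu), ⟨r, hr, h1⟩, fun g hg => (h3 hg).2⟩

theorem mem_fxQ_zpowers {y : Y} {U : Submodule F2 V} (hU : Inv ρ (Subgroup.zpowers y) U) {v : V}
    (h : ρ y v - v ∈ U) : v ∈ fxQ ρ U (Subgroup.zpowers y) := by
  let H : Subgroup Y :=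
    { carrier := {g | g ∈ Subgroup.zpowers y ∧ ρ g v - v ∈ U}
      one_mem' := ⟨one_mem _, by rw [rho_one, sub_self]; exact zero_mem _⟩
      mul_mem' := fun {a b} ha hb => ⟨mul_mem ha.1 hb.1, by
        have : ρ (a * b) v - v = ρ a (ρ b v - v) + (ρ a v - v) := by rw [rho_mul, map_sub]; abel
        rw [this]; exact add_mem (hU a ha.1 _ hb.2) ha.2⟩
      inv_mem' := fun {a} ha => ⟨inv_mem ha.1, by
        have : ρ a⁻¹ v - v = -ρ a⁻¹ (ρ a v - v) := by rw [map_sub, rho_inv_apply]; abel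
        rw [this]; exact neg_mem (hU _ (inv_mem ha.1) _ ha.2)⟩ }
  have : Subgroup.zpowers y ≤ H := Subgroup.zpowers_le.2 ⟨Subgroup.mem_zpowers y, h⟩
  exact mem_fxQ.2 fun b hb => (this hb).2

theorem cm_zpowers_le {y : Y} {U W : Submodule F2 V} (hU : Inv ρ (Subgroup.zpowers y) U) :
    cm ρ W (Subgroup.zpowers y) ≤ U ↔ ∀ w ∈ W, ρ y w - w ∈ U :=
  ⟨fun h _ hw => h (mem_cm (Subgroup.mem_zpowers y) hw),
    fun h => le_fxQ_iff.1 fun w hw => mem_fxQ_zpowers hU (h w hw)⟩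

theorem inv_zpowers {y : Y} {U : Submodule F2 V} (h : ∀ v ∈ U, ρ y v ∈ U) : Inv ρ (Subgroup.zpowers y) U := by
  intro g hg
  obtain ⟨k, rfl⟩ := mem_powers_iff_mem_zpowers.2 hg
  intro v hv
  induction k with
  | zero => simpa using hv
  | succ k ih =>
    change ρ (y ^ (k + 1)) v ∈ U
    rw [pow_succ', rho_mul]
    exact h _ (ih (Subgroup.npow_mem_zpowers y k))

/-- an invariant vector -/
theorem inv_vec {P : Subgroup Y} (hP : IsPGroup 2 P) {y : Y} {U W : Submodule F2 V}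
    (hU : Inv ρ (P ⊔ Subgroup.zpowers y) U) (hW : Inv ρ (P ⊔ Subgroup.zpowers y) W) (h : ¬ W ≤ U)
    (hy : ∀ w ∈ W, ρ y w - w ∈ U) : ∃ v ∈ W, v ∉ U ∧ ∀ g ∈ P ⊔ Subgroup.zpowers y, ρ g v - v ∈ U := by
  obtain ⟨v, h1, h2, h3⟩ := exists_mem_fxQ (p := 2) hP (hU.mono le_sup_left) (hW.mono le_sup_left) h
  refine ⟨v, h1, h2, mem_fxQ.1 ?_⟩
  rw [fxQ_sup (hU.mono le_sup_left) (hU.mono le_sup_right)]
  exact ⟨h3, mem_fxQ_zpowers (hU.mono le_sup_right) (hy v h1)⟩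

/-- the increment of `dim (U + C)` -/
theorem incr {U W : Submodule F2 V} (C : Submodule F2 V) (hUW : U ≤ W) {Z : Type} [AddCommGroup Z] [Module F2 Z]
    (Φ : V →ₗ[F2] Z) (hU : ∀ u ∈ U, Φ u = 0) {m : ℕ} (θ : Sp m →ₗ[F2] Z) (hθ : ∀ D, ∃ v ∈ W, Φ v = θ D)
    (W' : Submodule F2 (Sp m)) (hW' : ∀ D, ∀ v ∈ W, v ∈ C → Φ v = θ D → D ∈ W') :
    finrank F2 ↥(U ⊔ C) + m ≤ finrank F2 ↥(W ⊔ C) + finrank F2 W' := by
  choose c hc hc' using hθ
  let s : Sp m →ₗ[F2] W := (Pi.basisFun F2 (Fin m)).constr F2 fun i => ⟨c (Pi.basisFun F2 (Fin m) i), hc _⟩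
  have hs : Φ ∘ₗ W.subtype ∘ₗ s = θ := (Pi.basisFun F2 (Fin m)).ext fun i => by
    rw [LinearMap.comp_apply, LinearMap.comp_apply, Basis.constr_basis]
    exact hc' _
  have hle : U ⊔ C ≤ W ⊔ C := sup_le_sup_right hUW C
  let f := ((U ⊔ C).submoduleOf (W ⊔ C)).mkQ ∘ₗ Submodule.inclusion (le_sup_left : W ≤ W ⊔ C) ∘ₗ s
  have h1 := LinearMap.finrank_range_add_finrank_ker f
  have h2 := Submodule.finrank_le (LinearMap.range f)
  have h3 := finrank_sec hle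
  have h4 : LinearMap.ker f ≤ W' := fun D hD => by
    have h5 : (s D : V) ∈ U ⊔ C :=
      (Submodule.Quotient.mk_eq_zero ((U ⊔ C).submoduleOf (W ⊔ C))).1 (LinearMap.mem_ker.1 hD)
    obtain ⟨u, hu, x, hx, e⟩ := Submodule.mem_sup.1 h5
    have h6 : x = s D - u := by rw [← e]; abel
    refine hW' D x (by rw [h6]; exact sub_mem (s D).2 (hUW hu)) hx ?_
    rw [h6, map_sub, hU u hu, sub_zero, ← hs]
    rfl
  have h5 := Submodule.finrank_mono h4
  rw [finrank_fintype_fun_eq_card, Fintype.card_fin] at h1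
  omega

end gen

theorem exists_lin {n : ℕ} (f : Sp n → F2) (h : ∀ a b, f (a + b) = f a + f b) : ∃ m : Sp n, ∀ a, f a = m ⬝ᵥ a :=
  exists_dot ((AddMonoidHom.mk' f h).toZModLinearMap 2)

theorem exists_bil {n : ℕ} (f : Sp n → Sp n → F2) (h : ∀ a a' b, f (a + a') b = f a b + f a' b)
    (hs : ∀ a b, f a b = f b a) : ∃ B : Sp n →ₗ[F2] Sp n →ₗ[F2] F2, ∀ a b, B a b = f a b := by
  have h0 : ∀ b, f 0 b = 0 := fun b => by
    have := h 0 0 b
    rw [add_zero] at this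
    exact left_eq_add.1 this
  have h1 : ∀ (c : F2) a b, f (c • a) b = c • f a b := fun c a b => by
    rcases f2_cases c with e | e <;> simp [e, h0]
  exact ⟨LinearMap.mk₂ F2 f h h1 (fun a b b' => by rw [hs, h, hs b, hs b']) fun c a b => by rw [hs, h1, hs],
    fun _ _ => rfl⟩

/-- the group data -/
structure Gd {Y : Type} [Group Y] (n : ℕ) (σ : Representation F2 Y (Sp n)) (e : Sp n → Y) (P : Subgroup Y) (y : Y)
    (s : ℕ) : Prop where
  n10 : 10 ≤ n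
  n11 : n ≤ 11
  add : ∀ a b, e (a + b) = e a * e b
  inj : ∀ a, e a = 1 → a = 0
  conj : ∀ g a, g * e a * g⁻¹ = e (σ g a)
  pP : IsPGroup 2 P
  eP : ∀ a, e a ∈ P
  sp : s.Prime
  s2 : s ≠ 2
  ys : y ^ s = 1
  ord : ∀ d ≤ 24, 2 ^ d % s = 1 % s → d = 0 ∨ d = n ∨ d = 2 * n
  fpf : ∀ a, σ y a = a → a = 0

variable {Y : Type} [Group Y] [Finite Y] {V : Type} [AddCommGroup V] [Module F2 V] [Finite V]
  {n : ℕ} {σ : Representation F2 Y (Sp n)} {e : Sp n → Y} {P : Subgroup Y} {y : Y} {s : ℕ}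

namespace Gd

variable (G : Gd n σ e P y s)
include G

theorem e_zero : e 0 = 1 := by
  have := G.add 0 0
  rw [add_zero] at this
  exact left_eq_mul.1 this

theorem e_sq (a : Sp n) : e a * e a = 1 := by rw [← G.add, add_self', G.e_zero]

/-- the normal subgroup -/
def E : Subgroup Y where
  carrier := Set.range e
  one_mem' := ⟨0, G.e_zero⟩
  mul_mem' := by rintro _ _ ⟨a, rfl⟩ ⟨b, rfl⟩; exact ⟨a + b, G.add a b⟩
  inv_mem' := by rintro _ ⟨a, rfl⟩; exact ⟨a, (inv_eq_of_mul_eq_one_right (G.e_sq a)).symm⟩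

theorem e_mem (a : Sp n) : e a ∈ G.E := ⟨a, rfl⟩

theorem e_comm (a b : Sp n) : e a * e b = e b * e a := by rw [← G.add, add_comm, G.add]

theorem elemAb : IsElementaryAbelian 2 G.E :=
  elemAb_of (by rintro _ ⟨a, rfl⟩ _ ⟨b, rfl⟩; exact G.e_comm a b)
    (by rintro _ ⟨a, rfl⟩; rw [pow_two]; exact G.e_sq a)

theorem e_inj : Function.Injective e := fun a b h => by
  have := G.inj (a + b) (by rw [G.add, h, G.e_sq])
  rw [← sub_eq_add'] at this
  exact sub_eq_zero.1 this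

theorem card_E : Nat.card G.E = 2 ^ n := by
  have : Nat.card G.E = Nat.card (Sp n) := (Nat.card_range_of_injective G.e_inj)
  rw [this]; simp

theorem norm (H : Subgroup Y) : H ≤ Subgroup.normalizer (G.E : Set Y) := fun g _ =>
  Subgroup.mem_normalizer_fintype (by rintro _ ⟨a, rfl⟩; exact ⟨_, (G.conj g a).symm⟩)

theorem sig_e (a b : Sp n) : σ (e a) b = b := G.e_inj (by rw [← G.conj, G.e_comm, mul_inv_cancel_right])

theorem pY : haveI := Fact.mk G.sp; IsPGroup s (Subgroup.zpowers y) :=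
  haveI := Fact.mk G.sp
  elemAb_isPGroup (elemAb_zpowers G.ys)

theorem not_dvd : ¬ s ∣ Nat.card F2 := by
  rw [Nat.card_zmod]
  exact fun h => G.s2 ((Nat.prime_dvd_prime_iff_eq G.sp Nat.prime_two).1 h)

theorem hn : ∀ d, 0 < d → d < n → Nat.card F2 ^ d % s ≠ 1 % s := fun d h1 h2 h3 => by
  rw [Nat.card_zmod] at h3
  have := G.ord d (by have := G.n11; omega) h3
  omega

/-- sections on which `y` acts non-trivially -/
theorem big {V : Type} [AddCommGroup V] [Module F2 V] [Finite V] {ρ : Representation F2 Y V} {U W : Submodule F2 V}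
    (h : U ≤ W) (hU : Inv ρ (Subgroup.zpowers y) U) (hW : Inv ρ (Subgroup.zpowers y) W)
    (h1 : ¬ ∀ w ∈ W, ρ y w - w ∈ U) : finrank F2 U + n ≤ finrank F2 W :=
  haveI := Fact.mk G.sp
  le_finrank_of_order G.not_dvd G.hn G.pY h hU hW fun e => h1 ((cm_zpowers_le hU).1 e)

/-- irreducibility -/
theorem irr {W : Submodule F2 (Sp n)} (hW : ∀ a ∈ W, σ y a ∈ W) (h : W ≠ ⊥) : W = ⊤ := by
  have h1 := G.big bot_le (inv_bot _) (inv_zpowers hW) fun e => h (eq_bot_iff.2 fun a ha =>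
    G.fpf a (sub_eq_zero.1 (e a ha)))
  refine Submodule.eq_top_of_finrank_eq (le_antisymm (Submodule.finrank_le _) ?_)
  rw [finrank_fintype_fun_eq_card, Fintype.card_fin]
  omega

/-- no invariant functional -/
theorem noLin {f : Sp n → F2} (h : ∀ a b, f (a + b) = f a + f b) (hy : ∀ a, f (σ y a) = f a) (a : Sp n) : f a = 0 := by
  have h1 : Function.Injective (σ y - 1 : Sp n →ₗ[F2] Sp n) :=
    (injective_iff_map_eq_zero _).2 fun a ha => G.fpf a (sub_eq_zero.1 ha)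
  obtain ⟨b, rfl⟩ := LinearMap.injective_iff_surjective.1 h1 a
  rw [LinearMap.sub_apply, Module.End.one_apply, sub_eq_add', h, hy, add_self']

end Gd

/-- the operators `e a - 1` -/
abbrev TT (ρ : Representation F2 Y V) (e : Sp n → Y) (a : Sp n) : Module.End F2 V := ρ (e a) - 1

namespace Gd

variable (G : Gd n σ e P y s) {ρ : Representation F2 Y V}
include G

theorem tt_add (a b : Sp n) (v : V) : TT ρ e (a + b) v = TT ρ e a v + TT ρ e b v + TT ρ e a (TT ρ e b v) := by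
  rw [TT, G.add, Gen.mul_sub_one]

theorem tt_comm (a b : Sp n) (v : V) : TT ρ e a (TT ρ e b v) = TT ρ e b (TT ρ e a v) := sub_one_comm (G.e_comm a b) v

theorem tt_sq (a : Sp n) (v : V) : TT ρ e a (TT ρ e a v) = 0 := sq_zero (by rw [pow_two]; exact G.e_sq a) v

theorem rho_tt (g : Y) (a : Sp n) (v : V) : ρ g (TT ρ e a v) = TT ρ e (σ g a) (ρ g v) := by
  rw [TT, TT, ← G.conj, conj_sub_one, rho_inv_apply]

theorem mem_asc {i : ℕ} {v : V} : v ∈ asc ρ G.E (i + 1) ↔ ∀ a, TT ρ e a v ∈ asc ρ G.E i :=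
  mem_asc_succ.trans ⟨fun h a => h _ (G.e_mem a), fun h _ ⟨a, ha⟩ => ha ▸ h a⟩

theorem step {i : ℕ} {v : V} (h : v ∈ asc ρ G.E (i + 1)) (a : Sp n) : TT ρ e a v ∈ asc ρ G.E i := G.mem_asc.1 h a

theorem inv_U (H : Subgroup Y) (i : ℕ) : Inv ρ H (asc ρ G.E i) := inv_asc (G.norm H) i

/-- `y` acts trivially on the layer `i + 1` -/
def Tv (ρ : Representation F2 Y V) (i : ℕ) : Prop := ∀ w ∈ asc ρ G.E (i + 1), ρ y w - w ∈ asc ρ G.E i

theorem big_U {i : ℕ} (h : ¬ G.Tv ρ i) : finrank F2 (asc ρ G.E i) + n ≤ finrank F2 (asc ρ G.E (i + 1)) :=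
  G.big (asc_le_succ _ _) (G.inv_U _ _) (G.inv_U _ _) h

/-- above a trivial layer there is no fixed vector -/
theorem nofix {i : ℕ} (h : G.Tv ρ i) {v : V} (hv : v ∈ asc ρ G.E (i + 2)) (hy : ρ y v - v ∈ asc ρ G.E (i + 1)) :
    v ∈ asc ρ G.E (i + 1) := by
  refine G.mem_asc.2 fun a => ?_
  by_contra hc
  obtain ⟨l, h1, h2⟩ := exists_dual_of_notMem hc
  refine h1 (G.noLin (f := fun a => l (TT ρ e a v)) (fun a b => ?_) (fun a => ?_) a)
  · rw [G.tt_add, map_add, map_add, h2 _ (G.step (G.step hv b) a), add_zero]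
  · have e1 : TT ρ e (σ y a) v = (ρ y (TT ρ e a v) - TT ρ e a v) + TT ρ e a v - TT ρ e (σ y a) (ρ y v - v) := by
      rw [G.rho_tt, map_sub]; abel
    rw [e1, map_sub, map_add, h2 _ (h _ (G.step hv a)), h2 _ (G.step hy _), zero_add, sub_zero]

theorem consec {i : ℕ} (h : G.Tv ρ i) (h' : G.Tv ρ (i + 1)) : asc ρ G.E (i + 2) ≤ asc ρ G.E (i + 1) :=
  fun v hv => G.nofix h hv (h' v hv)

theorem asc_stab {i : ℕ} (h : asc ρ G.E (i + 1) ≤ asc ρ G.E i) : asc ρ G.E i = ⊤ := by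
  by_contra hc
  exact (asc_lt (p := 2) (elemAb_isPGroup G.elemAb) hc).not_ge h

/-- the form of a vector -/
theorem bil {i : ℕ} {l : V →ₗ[F2] F2} (hl : ∀ u ∈ asc ρ G.E i, l u = 0) {v : V} (hv : v ∈ asc ρ G.E (i + 3)) :
    ∃ B : Sp n →ₗ[F2] Sp n →ₗ[F2] F2, (∀ a b, B a b = l (TT ρ e a (TT ρ e b v))) ∧ (∀ a b, B a b = B b a) ∧
      ∀ a, B a a = 0 := by
  obtain ⟨B, hB⟩ := exists_bil (fun a b => l (TT ρ e a (TT ρ e b v)))
    (fun a a' b => by rw [G.tt_add, map_add, map_add, hl _ (G.step (G.step (G.step hv b) a') a), add_zero])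
    (fun a b => by rw [G.tt_comm])
  exact ⟨B, hB, fun a b => by rw [hB, hB, G.tt_comm], fun a => by rw [hB, G.tt_sq, map_zero]⟩

/-- two trivial layers at distance two -/
theorem gap (h5 : ∀ B : Sp n →ₗ[F2] Sp n →ₗ[F2] F2, (∀ a b, B a b = B b a) → (∀ a, B a a = 0) →
      (∀ g ∈ P ⊔ Subgroup.zpowers y, ∀ a b, B (σ g a) (σ g b) = B a b) → B = 0)
    {i : ℕ} (h : G.Tv ρ i) (h' : G.Tv ρ (i + 2)) : asc ρ G.E (i + 3) ≤ asc ρ G.E (i + 2) := by
  by_contra hc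
  let R := asc ρ G.E i ⊔ cm ρ (cm ρ (asc ρ G.E (i + 3)) G.E) G.E
  have mR : ∀ v ∈ asc ρ G.E (i + 3), ∀ a b, TT ρ e a (TT ρ e b v) ∈ R := fun v hv a b =>
    Submodule.mem_sup_right (mem_cm (G.e_mem a) (mem_cm (G.e_mem b) hv))
  have hR : R ≤ asc ρ G.E (i + 1) := sup_le (asc_le_succ _ _) (le_fxQ_iff.1 (le_fxQ_iff.1 le_rfl))
  obtain ⟨l, l1, ⟨r, hr, l2⟩, l3⟩ := inv_fun (ρ := ρ) G.pP (y := y) (U := asc ρ G.E i) (R := R) (G.inv_U _ _)
    ((G.inv_U _ _).sup (inv_cm (G.norm _) (inv_cm (G.norm _) (G.inv_U _ _))))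
    (fun e => hc fun v hv => G.mem_asc.2 fun b => G.mem_asc.2 fun a => e (mR v hv a b)) fun r hr => h r (hR hr)
  let K : Submodule F2 V :=
    { carrier := {v | v ∈ asc ρ G.E (i + 3) ∧ ∀ a b, l (TT ρ e a (TT ρ e b v)) = 0}
      zero_mem' := ⟨zero_mem _, by simp⟩
      add_mem' := fun {u v} hu hv => ⟨add_mem hu.1 hv.1, fun a b => by
        rw [map_add, map_add, map_add, hu.2, hv.2, add_zero]⟩
      smul_mem' := fun c v hv => ⟨Submodule.smul_mem _ c hv.1, fun a b => by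
        rw [map_smul, map_smul, map_smul, hv.2, smul_zero]⟩ }
  have eqv : ∀ g ∈ P ⊔ Subgroup.zpowers y, ∀ v ∈ asc ρ G.E (i + 3), ∀ a b,
      l (TT ρ e (σ g a) (TT ρ e (σ g b) (ρ g v))) = l (TT ρ e a (TT ρ e b v)) := fun g hg v hv a b => by
    rw [← G.rho_tt, ← G.rho_tt, l3 g hg _ (mR v hv a b)]
  have hK : Inv ρ (P ⊔ Subgroup.zpowers y) K := fun g hg v hv => ⟨G.inv_U _ _ g hg v hv.1, fun a b => by
    rw [← rho_apply_inv σ g a, ← rho_apply_inv σ g b, eqv g hg v hv.1, hv.2]⟩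
  have hUK : asc ρ G.E (i + 2) ≤ K := fun v hv => ⟨asc_le_succ _ _ hv, fun a b => l1 _ (G.step (G.step hv b) a)⟩
  have hn : ¬ asc ρ G.E (i + 3) ≤ K := fun e1 => by
    refine l2 ((show R ≤ LinearMap.ker l from sup_le l1 (cm_le_iff.2 ?_)) hr)
    rintro _ ⟨a, rfl⟩ u hu
    have : cm ρ (asc ρ G.E (i + 3)) G.E ≤ LinearMap.ker (l ∘ₗ TT ρ e a) := cm_le_iff.2 (by
      rintro _ ⟨b, rfl⟩ v hv
      exact (e1 hv).2 a b)
    exact this hu
  obtain ⟨v, hv, hv', hfix⟩ := inv_vec G.pP hK (G.inv_U _ _) hn fun w hw => hUK (h' w hw)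
  obtain ⟨B, b1, b2, b3⟩ := G.bil l1 hv
  refine hv' ⟨hv, fun a b => ?_⟩
  rw [← b1, h5 B b2 b3 fun g hg a b => ?_]
  · rfl
  · have := (hfix g hg).2 (σ g a) (σ g b)
    rw [map_sub, map_sub, map_sub, eqv g hg v hv, sub_eq_zero] at this
    rw [b1, b1, this]

/-- the dimension of the second layer -/
theorem dim_two (hd : finrank F2 V ≤ 24) (h : G.Tv ρ 0) : ∃ d, (d = 0 ∨ d = n ∨ d = 2 * n) ∧
    finrank F2 (asc ρ G.E 1) + d = finrank F2 (asc ρ G.E 2) := by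
  have := Fact.mk G.sp
  have h1 := finrank_sec (asc_le_succ (ρ := ρ) G.E 1)
  refine ⟨_, G.ord _ ?_ ?_, h1⟩
  · have := Submodule.finrank_le (asc ρ G.E (1 + 1))
    omega
  · have : Finite (↥(asc ρ G.E 2) ⧸ (asc ρ G.E 1).submoduleOf (asc ρ G.E 2)) :=
      Finite.of_surjective _ (Submodule.mkQ_surjective _)
    have h2 := pow_cod_modEq (ρ := sec ρ (G.inv_U (Subgroup.zpowers y) 1) (G.inv_U (Subgroup.zpowers y) 2)) G.not_dvd
      (X := ⊤) (G.pY.of_equiv Subgroup.topEquiv.symm)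
    rw [cod_of_fx_eq_bot, Nat.card_zmod] at h2
    · exact h2
    · rw [eq_bot_iff]
      intro q hq
      obtain ⟨w, rfl⟩ := Submodule.mkQ_surjective _ q
      have h3 := hq ⟨y, Subgroup.mem_zpowers y⟩ (Subgroup.mem_top _)
      rw [sec_mk, Submodule.mkQ_apply, Submodule.mkQ_apply, Submodule.Quotient.eq] at h3
      exact (Submodule.Quotient.mk_eq_zero _).2 (G.nofix h w.2 h3)

/-- the fixed vectors on a quotient -/
theorem dim_top (hd : finrank F2 V ≤ 24) {U : Submodule F2 V} (hU : Inv ρ (Subgroup.zpowers y) U) :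
    ∃ d, (d = 0 ∨ d = n ∨ d = 2 * n) ∧ finrank F2 (fxQ ρ U (Subgroup.zpowers y)) + d = finrank F2 V := by
  have := Fact.mk G.sp
  have h1 := lay_add (ρ := ρ) U ⊤ (Subgroup.zpowers y)
  rw [top_inf_eq, finrank_top, add_comm] at h1
  refine ⟨_, G.ord _ (by omega) ?_, h1⟩
  have : Finite (V ⧸ U) := Finite.of_surjective _ (Submodule.mkQ_surjective _)
  have h2 := pow_cod_modEq (ρ := quoBy ρ hU) G.not_dvd (X := ⊤) (G.pY.of_equiv Subgroup.topEquiv.symm)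
  rw [cod_quoBy, ← MonoidHom.range_eq_map, Subgroup.range_subtype, Nat.card_zmod] at h2
  exact h2

theorem done (h1 : asc ρ G.E 3 = ⊤) (h2 : finrank F2 V ≤ finrank F2 (asc ρ G.E 1) + 2 * n) :
    Off 2 ρ G.E ∧ Cub ρ G.E := by
  refine ⟨off_of_card G.elemAb (by have := G.n10; omega) G.card_E ?_, cub_iff_asc.2 h1⟩
  have := cod_add (ρ := ρ) G.E
  rw [asc_one] at h2
  omega

end Gd

end Cfsg.Agent.TwoF.SpB
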