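import Cfsg.Agent.TwoF.SpB.C2Big
import Cfsg.Agent.TwoF.SpB.C3
import Cfsg.Agent.TwoF.SpO.Co1
import Cfsg.Agent.BMx.Base

/-!
# TwoF SP-B: the rows of the Conway groups (helper24)
-/

set_option autoImplicit false

namespace Cfsg.Agent.TwoF.SpB

/-- **the row of `Co1`** -/
theorem row_Co1 (p : ℕ) [Fact p.Prime] : Row p Spor.Co1 := by
  by_cases hp : p = 2
  · subst hp
    exact row_of_core S2069.result S2043.result
      (fun d h1 h2 => ((Nat.dvd_prime Nat.prime_two).1 h1).resolve_right fun e => h2 (e ▸ dvd_rfl))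
      (C1W.core BMx.engBase)
  · exact SpO.row1 p hp

/-- **the row of `Co2`** -/
theorem row_Co2 (p : ℕ) [Fact p.Prime] : Row p Spor.Co2 := by
  by_cases hp : p = 2
  · subst hp
    exact row_of_core S2070.result S2044.result (fun d h _ => Nat.dvd_one.1 h) (C2W.core BMx.engBase)
  · exact SpO.row2 p hp

/-- **the row of `Co3`** -/
theorem row_Co3 (p : ℕ) [Fact p.Prime] : Row p Spor.Co3 := by
  by_cases hp : p = 2
  · subst hp
    exact row_of_core S2071.result S2045.result (fun d h _ => Nat.dvd_one.1 h) C3.core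
  · exact SpO.row3 p hp

end Cfsg.Agent.TwoF.SpB
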