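import Cfsg.Agent.TwoF.SpB.Chain
import Cfsg.Agent.SporadicStructure.M24El

/-!
# TwoF SP-B: monomial groups (helper24)
-/

set_option autoImplicit false
set_option maxHeartbeats 400000
set_option linter.unusedSectionVars false

namespace Cfsg.Agent.TwoF.SpB

open Module Gen Cfsg.Agent.SporadicA.GolayPerm Cfsg.Agent.SporadicStructure.M24El

theorem sp_ind {n : ℕ} (S : Set (Sp n)) (h0 : 0 ∈ S) (h : ∀ a ∈ S, ∀ b ∈ S, a + b ∈ S)
    (hb : ∀ i < n, vc n (2 ^ i) ∈ S) (a : Sp n) : a ∈ S := by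
  change a ∈ mkS S h0 h
  rw [pi_eq_sum_univ' a]
  refine Submodule.sum_mem _ fun i _ => Submodule.smul_mem _ _ ?_
  rw [← vc_pow]
  exact hb i i.2

theorem app_xor (R : List ℕ) (x y : ℕ) : app R (x ^^^ y) = app R x ^^^ app R y := by
  induction R generalizing x y with
  | nil => simp [app]
  | cons r R ih =>
    rw [app, app, app, SporadicA.GolayBase.bit_mul_xor, Nat.xor_div_two, ih]
    ac_rfl

theorem app_zero (R : List ℕ) : app R 0 = 0 := by
  have := app_xor R 0 0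
  rwa [Nat.xor_self, Nat.xor_self] at this

theorem app_pow (R : List ℕ) (i : ℕ) : app R (2 ^ i) = R.getD i 0 := by
  induction R generalizing i with
  | nil => simp [app]
  | cons r R ih =>
    cases i with
    | zero => simp [app, app_zero]
    | succ i => rw [app, pow_succ, Nat.mul_mod_left, Nat.mul_div_cancel _ (by norm_num), ih]; simp

/-- the mask of a vector -/
noncomputable def code {n : ℕ} (a : Sp n) : ℕ := (vc_surj a).choose

theorem code_lt {n : ℕ} (a : Sp n) : code a < 2 ^ n := (vc_surj a).choose_spec.1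

theorem vc_code {n : ℕ} (a : Sp n) : vc n (code a) = a := (vc_surj a).choose_spec.2

theorem code_vc {n x : ℕ} (hx : x < 2 ^ n) : code (vc n x) = x := vc_inj (code_lt _) hx (vc_code _)

theorem code_add {n : ℕ} (a b : Sp n) : code (a + b) = code a ^^^ code b :=
  vc_inj (code_lt _) (Nat.xor_lt_two_pow (code_lt a) (code_lt b)) (by rw [vc_xor, vc_code, vc_code, vc_code])

/-- packed permutations as group elements -/
structure Hm {G : Type} [Group G] (Ok : ℕ → Prop) (ψ : ℕ → G) : Prop where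
  p1 : Ok idP
  pc : ∀ P Q, Ok P → Ok Q → Ok (pcomp P Q)
  f1 : ψ idP = 1
  fc : ∀ P Q, Ok P → Ok Q → ψ (pcomp P Q) = ψ P * ψ Q

namespace Hm

variable {G : Type} [Group G] {Ok : ℕ → Prop} {ψ : ℕ → G} (H : Hm Ok ψ)
include H

theorem word {gl w : List ℕ} {K : Subgroup G} (h : ∀ i ∈ w, Ok (gl.getD i idP) ∧ ψ (gl.getD i idP) ∈ K) :
    Ok (prodW gl w) ∧ ψ (prodW gl w) ∈ K := by
  induction w with
  | nil => exact ⟨H.p1, by rw [show prodW gl [] = idP from rfl, H.f1]; exact one_mem _⟩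
  | cons i w ih =>
    have h1 := ih fun j hj => h j (List.mem_cons_of_mem _ hj)
    have h2 := h i List.mem_cons_self
    refine ⟨H.pc _ _ h2.1 h1.1, ?_⟩
    rw [show prodW gl (i :: w) = pcomp (gl.getD i idP) (prodW gl w) from rfl, H.fc _ _ h2.1 h1.1]
    exact mul_mem h2.2 h1.2

theorem pow {P : ℕ} (h : Ok P) (k : ℕ) :
    Ok (prodW [P] (List.replicate k 0)) ∧ ψ (prodW [P] (List.replicate k 0)) = ψ P ^ k := by
  induction k with
  | zero => exact ⟨H.p1, by rw [pow_zero]; exact H.f1⟩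
  | succ k ih => exact ⟨H.pc _ _ h ih.1, by rw [pow_succ', ← ih.2]; exact H.fc _ _ h ih.1⟩

end Hm

/-- sign changes and permutations -/
structure Mon {G : Type} [Group G] (okm okp : ℕ → Bool) (sg ψ : ℕ → G) (c : ℕ) : Prop where
  hm : Hm (fun P => okp P = true) ψ
  m0 : okm 0 = true
  mx : ∀ a b, okm a = true → okm b = true → okm (a ^^^ b) = true
  mc : okm c = true
  sx : ∀ a b, okm a = true → okm b = true → sg (a ^^^ b) = sg a * sg b
  sc : sg c = 1
  si : ∀ m, okm m = true → sg m = 1 → m = 0 ∨ m = c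
  cj : ∀ P m, okp P = true → okm m = true → ψ P * sg m * (ψ P)⁻¹ = sg (pimg P m)

/-- the matrix of a permutation -/
def chkM (n c : ℕ) (eb : List ℕ) (P : ℕ) (A : List ℕ) : Bool :=
  wf n n A && allTo (fun i => frc (pimg P (eb.getD i 0)) fun u => frc (app eb (A.getD i 0)) fun v =>
    Nat.beq u v || Nat.beq u (v ^^^ c)) n

/-- independence -/
def chkI (n c : ℕ) (eb : List ℕ) : Bool :=
  allTo (fun x => Nat.beq x 0 || frc (app eb x) fun v => !Nat.beq v 0 && !Nat.beq v c) (2 ^ n)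

/-- no fixed vector -/
def chkF (n : ℕ) (A : List ℕ) : Bool := frL A fun B => allTo (fun x => Nat.beq x 0 || !Nat.beq (app B x) x) (2 ^ n)

namespace Mon

variable {G : Type} [Group G] [Finite G] {okm okp : ℕ → Bool} {sg ψ : ℕ → G} {c : ℕ} (M : Mon okm okp sg ψ c)
include M

theorem ok_app {eb : List ℕ} (h : ∀ m ∈ eb, okm m = true) (x : ℕ) : okm (app eb x) = true := by
  induction eb generalizing x with
  | nil => exact M.m0
  | cons r R ih =>
    refine M.mx _ _ ?_ (ih (fun m hm => h m (List.mem_cons_of_mem _ hm)) _)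
    rcases Nat.mod_two_eq_zero_or_one x with e | e
    · rw [e, zero_mul]; exact M.m0
    · rw [e, one_mul]; exact h r List.mem_cons_self

/-- the normaliser of the sign changes -/
theorem exists_data {n : ℕ} {eb : List ℕ} (h : ∀ m ∈ eb, okm m = true) (hi : chkI n c eb = true) :
    ∃ (N : Subgroup G) (σ : Representation F2 N (Sp n)) (e : Sp n → N) (Ok : ℕ → Prop) (φ : ℕ → N),
      (∀ a b, e (a + b) = e a * e b) ∧ Function.Injective e ∧ (∀ g a, g * e a * g⁻¹ = e (σ g a)) ∧ Hm Ok φ ∧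
      ∀ P A, okp P = true → chkM n c eb P A = true → Ok P ∧ σ (φ P) = lin n n A := by
  classical
  let e0 : Sp n → G := fun a => sg (app eb (code a))
  have add : ∀ a b, e0 (a + b) = e0 a * e0 b := fun a b => by
    simp only [e0]
    rw [code_add, app_xor, M.sx _ _ (M.ok_app h _) (M.ok_app h _)]
  have e00 : e0 0 = 1 := by
    have := add 0 0
    rw [add_zero] at this
    exact left_eq_mul.1 this
  have inj : Function.Injective e0 := fun a b hab => by
    have h1 : e0 (a + b) = 1 := by rw [add, hab, ← add, add_self', e00]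
    have h2 := (allTo_iff _ _).1 hi _ (code_lt (a + b))
    simp only [frc_eq, Bool.or_eq_true, Bool.and_eq_true, Bool.not_eq_true', Nat.beq_eq, ← Bool.not_eq_true] at h2
    have h3 : code (a + b) = 0 := h2.resolve_right fun h4 => (M.si _ (M.ok_app h _) h1).elim h4.1 h4.2
    rw [← sub_eq_zero, sub_eq_add', ← vc_code (a + b), h3, vc_zero]
  obtain ⟨σ, hσ⟩ := exists_sigma e0 add inj
  have hN : ∀ a, e0 a ∈ Subgroup.normalizer (Set.range e0) := fun a => Subgroup.mem_normalizer_fintype (by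
    rintro _ ⟨b, rfl⟩
    exact ⟨b, by rw [← add, add_comm, add, mul_inv_cancel_right]⟩)
  let φ : ℕ → Subgroup.normalizer (Set.range e0) := fun P =>
    if h : ψ P ∈ Subgroup.normalizer (Set.range e0) then ⟨ψ P, h⟩ else 1
  have hφ : ∀ P, ψ P ∈ Subgroup.normalizer (Set.range e0) → (φ P : G) = ψ P := fun P hP => by
    simp only [φ]; rw [dif_pos hP]
  have hc : ∀ P Q, okp P = true ∧ ψ P ∈ Subgroup.normalizer (Set.range e0) →
      okp Q = true ∧ ψ Q ∈ Subgroup.normalizer (Set.range e0) →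
      okp (pcomp P Q) = true ∧ ψ (pcomp P Q) ∈ Subgroup.normalizer (Set.range e0) := fun P Q hP hQ =>
    ⟨M.hm.pc P Q hP.1 hQ.1, by rw [M.hm.fc P Q hP.1 hQ.1]; exact mul_mem hP.2 hQ.2⟩
  have h1 : ψ idP ∈ Subgroup.normalizer (Set.range e0) := by rw [M.hm.f1]; exact one_mem _
  refine ⟨_, σ, fun a => ⟨e0 a, hN a⟩, fun P => okp P = true ∧ ψ P ∈ Subgroup.normalizer (Set.range e0), φ,
    fun a b => Subtype.ext (add a b), fun a b hab => inj (congrArg Subtype.val hab),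
    fun g a => Subtype.ext (hσ g a), ⟨⟨M.hm.p1, h1⟩, hc, Subtype.ext (by rw [hφ _ h1, M.hm.f1]; rfl),
      fun P Q hP hQ => Subtype.ext ?_⟩, fun P A hP hA => ?_⟩
  · rw [Subgroup.coe_mul, hφ _ (hc P Q hP hQ).2, hφ _ hP.2, hφ _ hQ.2, M.hm.fc P Q hP.1 hQ.1]
  simp only [chkM, Bool.and_eq_true, allTo_iff, frc_eq, Bool.or_eq_true, Nat.beq_eq] at hA
  have key : ∀ a, ψ P * e0 a * (ψ P)⁻¹ = e0 (lin n n A a) := by
    refine sp_ind {a | ψ P * e0 a * (ψ P)⁻¹ = e0 (lin n n A a)} ?_ (fun a ha b hb => ?_) fun i hi => ?_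
    · change _ = _
      rw [map_zero, e00, mul_one, mul_inv_cancel]
    · change _ = _
      rw [map_add, add, add, ← ha, ← hb]; group
    · change _ = _
      have hm : okm (eb.getD i 0) = true := by rw [← app_pow]; exact M.ok_app h _
      simp only [e0]
      rw [lin_pow _ _ hi, code_vc (Nat.pow_lt_pow_right (by norm_num) hi), code_vc (getD_lt (wf_iff.1 hA.1).2 i),
        app_pow, M.cj _ _ hP hm]
      rcases hA.2 i hi with h2 | h2
      · rw [h2]
      · rw [h2, M.sx _ _ (M.ok_app h _) M.mc, M.sc, mul_one]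
  have hP' : ψ P ∈ Subgroup.normalizer (Set.range e0) := Subgroup.mem_normalizer_fintype (by
    rintro _ ⟨b, rfl⟩
    exact ⟨_, (key b).symm⟩)
  exact ⟨⟨hP, hP'⟩, LinearMap.ext fun a => inj (by rw [← hσ, hφ _ hP', key])⟩

end Mon

/-- the data -/
structure Dat where
  /-- rank of `E` -/
  n : ℕ
  /-- order of `y` -/
  s : ℕ
  /-- length of the chain -/
  ν : ℕ
  /-- size of the table -/
  N : ℕ
  /-- the trivial mask -/
  c : ℕ
  /-- basis -/
  eb : List ℕ
  /-- generators -/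
  Gl : List ℕ
  /-- their matrices -/
  Ms : List (List ℕ)
  /-- certificate of the chain -/
  ct : List (List (List ℕ))
  /-- word of `h` -/
  hw : List ℕ
  /-- word of `w` -/
  ww : List ℕ
  /-- matrix of `h` -/
  Mh : List ℕ
  /-- matrix of `w` -/
  Mw : List ℕ
  /-- exponent -/
  kk : ℕ
  /-- the trilinear form -/
  TP : List ℕ
  /-- numbers -/
  q : List ℕ
  /-- representatives -/
  r3 : List ℕ
  /-- representatives -/
  r2 : List ℕ

namespace Dat

variable (d : Dat)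

/-- generator -/
def g (j : ℕ) : ℕ := d.Gl.getD j idP

/-- matrix with eleven rows -/
def M (j : ℕ) : List ℕ := d.Ms.getD j []

/-- square matrix -/
def A (j : ℕ) : List ℕ := (d.M j).take d.n

/-- number -/
def u (j : ℕ) : ℕ := d.q.getD j 0

/-- the small checks -/
def chk (okm okp : ℕ → Bool) : Bool :=
  d.eb.all okm && (chkI d.n d.c d.eb && (allTo (fun j => okp (d.g j) && (chkM d.n d.c d.eb (d.g j) (d.A j) &&
    chkInv d.n d.TP (d.M j))) (d.ν + 1) && (allTo (cert d.Gl d.ct) d.ν &&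
  (Nat.beq (prodW [d.g d.ν] (List.replicate d.s 0)) idP && (chkF d.n (d.A d.ν) &&
  ((d.hw.all fun i => Nat.ble i d.ν) && ((d.ww.all fun i => Nat.ble i d.ν) &&
  (chkM d.n d.c d.eb (prodW d.Gl d.hw) d.Mh && (chkM d.n d.c d.eb (prodW d.Gl d.ww) d.Mw &&
  (Nat.beq (prodW [prodW d.Gl d.ww] (List.replicate 5 0)) idP &&
  (Nat.beq (pcomp (prodW d.Gl d.ww) (d.g d.ν)) (pcomp (prodW [d.g d.ν] (List.replicate d.kk 0)) (prodW d.Gl d.ww)) &&
  chkSym d.n d.TP)))))))))))

/-- all checks; the numbers are `i5, i4, D1, a4, b4, D0, a3, b3, i3, x0, i0` -/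
structure Ck (okm okp : ℕ → Bool) (T : ℕ → Rec) : Prop where
  n10 : 10 ≤ d.n
  n11 : d.n ≤ 11
  sp : d.s.Prime
  s2 : d.s ≠ 2
  ord : ∀ k ≤ 24, 2 ^ k % d.s = 1 % d.s → k = 0 ∨ k = d.n ∨ k = 2 * d.n
  small : d.chk okm okp = true
  lvc : lv d.n d.A d.ν (cov d.n d.N T) = true
  f5 : d.u 0 ≤ d.ν ∧ chkForm d.n [d.A (d.u 0), d.A d.ν] [] 0 0 0 = true
  f4 : d.u 1 ≤ d.ν ∧ d.u 2 < 2 ^ d.n ∧ d.u 2 ≠ 0 ∧ app (d.A (d.u 1)) (d.u 2) = d.u 2 ∧ app d.Mh (d.u 2) = d.u 2 ∧
    chkForm d.n [d.A (d.u 1), d.Mh] [d.u 2] (app d.TP (d.u 2)) (d.u 3) (d.u 4) = true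
  f3 : chkForm d.n [d.A d.ν, d.Mw] [] (app d.TP (d.u 5)) (d.u 6) (d.u 7) = true ∧
    (d.u 5 = 0 ∨ (2 ^ d.n ≤ d.u 5 ∧ d.u 5 < 2 ^ 11 ∧ d.u 8 ≤ d.ν ∧ d.u 9 < 2 ^ d.n ∧ d.u 9 ≠ 0 ∧
      app (d.M (d.u 8)) (d.u 5 ^^^ d.u 9) = d.u 5))
  tab : TabOk d.n d.N T
  top : ∀ j < d.N, top T (PP d.n) j = true
  z1 : chkZ1 d.n d.TP = true
  z3 : ∀ D ∈ d.r3, chkRep d.n d.TP 3 D = true
  z2 : ∀ D ∈ d.r2, chkRep d.n d.TP 2 D = true
  z : d.u 10 ≤ d.ν ∧ chkZ d.n d.N d.TP T [d.M d.ν, d.M (d.u 10)] d.r3 d.r2 = true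

end Dat

end Cfsg.Agent.TwoF.SpB
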