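import Cfsg.Agent.TwoF.SpB.Mon

/-!
# TwoF SP-B: small modules of a group with a monomial Sylow 2-subgroup (helper24)
-/

set_option autoImplicit false
set_option maxHeartbeats 800000
set_option linter.unusedSectionVars false

namespace Cfsg.Agent.TwoF.SpB

open Module Gen Cfsg.Agent.SporadicA.GolayPerm Cfsg.Agent.SporadicStructure.M24El

theorem bf_zero {n : ℕ} : bf (0 : Sp n →ₗ[F2] Sp n) = 0 :=
  LinearMap.ext fun a => LinearMap.ext fun b => by rw [bf_apply]; simp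

/-- the stabiliser of the trilinear form -/
def stabT {Y : Type} [Group Y] {n : ℕ} (σ : Representation F2 Y (Sp n)) (TP : List ℕ) : Subgroup Y where
  carrier := {g | ∀ x a b, tau n TP (io n (σ g x)) (σ g a) ⬝ᵥ σ g b = tau n TP (io n x) a ⬝ᵥ b}
  one_mem' := fun x a b => by simp only [rho_one]
  mul_mem' := fun {g h} hg hh x a b => by rw [rho_mul, rho_mul, rho_mul, hg, hh]
  inv_mem' := fun {g} hg x a b => by rw [← hg, rho_apply_inv, rho_apply_inv, rho_apply_inv]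

namespace Dat

variable {d : Dat} {okm okp : ℕ → Bool} {T : ℕ → Rec} (C : d.Ck okm okp T)
include C

theorem Ck.data {Y : Type} [Group Y] [Finite Y] {σ : Representation F2 Y (Sp d.n)} {e : Sp d.n → Y} {Ok : ℕ → Prop}
    {φ : ℕ → Y} (add : ∀ a b, e (a + b) = e a * e b) (inj : Function.Injective e)
    (conj : ∀ g a, g * e a * g⁻¹ = e (σ g a)) (H : Hm Ok φ)
    (hm : ∀ P A, okp P = true → chkM d.n d.c d.eb P A = true → Ok P ∧ σ (φ P) = lin d.n d.n A)
    (hp : Hm (fun P => okp P = true) fun _ => (1 : Y)) :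
    ∃ (P : Subgroup Y) (y w : Y), Gd d.n σ e P y d.s ∧ Fd σ P y w d.TP ∧ Td σ e P d.N T ∧ ZOk d.n d.N d.TP T ∧
      2 ^ (d.n + d.ν) ≤ Nat.card P := by
  have hs := C.small
  simp only [chk, Bool.and_eq_true, allTo_iff, List.all_eq_true, Nat.beq_eq, Nat.ble_eq] at hs
  obtain ⟨-, -, c3, c4, c5, c6, c7, c8, c9, c10, c11, c12, c13⟩ := hs
  have hS := sym_of C.n11 c13
  have g1 : ∀ j ≤ d.ν, Ok (d.g j) := fun j hj => (hm _ _ (c3 j (by omega)).1 (c3 j (by omega)).2.1).1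
  have g2 : ∀ j ≤ d.ν, σ (φ (d.g j)) = lin d.n d.n (d.A j) := fun j hj =>
    (hm _ _ (c3 j (by omega)).1 (c3 j (by omega)).2.1).2
  have g3 : ∀ j ≤ d.ν, InvM d.n d.TP (d.M j) := fun j hj => invM_of C.n11 hS.len (c3 j (by omega)).2.2
  obtain ⟨L, l1, l2⟩ := lv_sound add inj conj (g := fun j => φ (d.g j)) d.ν (fun j hj => by
    have h1 : (Nat.beq (pcomp (d.Gl.getD j idP) (d.Gl.getD j idP)) idP && (List.range j).all fun i =>
      (((d.ct.getD j []).getD i []).all fun l => Nat.blt l j) && Nat.beq (pcomp (d.Gl.getD j idP) (d.Gl.getD i idP))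
        (pcomp (prodW d.Gl ((d.ct.getD j []).getD i [])) (d.Gl.getD j idP))) = true := c4 j hj
    simp only [Bool.and_eq_true, List.all_eq_true, Nat.beq_eq, List.mem_range, Nat.blt_eq] at h1
    have h2 := g1 j hj.le
    refine ⟨by rw [← H.fc _ _ h2 h2]; exact (congrArg φ h1.1).trans H.f1, g2 j hj.le, (g3 j hj.le).wf2, fun i hi => ?_⟩
    obtain ⟨h3, h4⟩ := H.word (gl := d.Gl) (K := Pk e (fun j => φ (d.g j)) j) fun l hl =>
      ⟨g1 l (by have := (h1.2 i hi).1 l hl; omega), g_mem_Pk (fun j => φ (d.g j)) ((h1.2 i hi).1 l hl)⟩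
    rw [← H.fc _ _ h2 (g1 i (by omega)), show pcomp (d.g j) (d.g i) = pcomp _ (d.g j) from (h1.2 i hi).2, H.fc _ _ h3 h2,
      mul_inv_cancel_right]
    exact h4) C.lvc
  set P := Pk e (fun j => φ (d.g j)) d.ν
  set y := φ (d.g d.ν) with hy
  have gm : ∀ j ≤ d.ν, φ (d.g j) ∈ P ⊔ Subgroup.zpowers y := fun j hj => by
    rcases hj.lt_or_eq with h | rfl
    · exact Subgroup.mem_sup_left (g_mem_Pk (fun j => φ (d.g j)) h)
    · exact Subgroup.mem_sup_right (Subgroup.mem_zpowers _)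
  have wd : ∀ {w : List ℕ} {A : List ℕ}, (∀ i ∈ w, i ≤ d.ν) → chkM d.n d.c d.eb (prodW d.Gl w) A = true →
      Ok (prodW d.Gl w) ∧ φ (prodW d.Gl w) ∈ P ⊔ Subgroup.zpowers y ∧ σ (φ (prodW d.Gl w)) = lin d.n d.n A :=
    fun h1 h2 =>
      have h3 := H.word (K := P ⊔ Subgroup.zpowers y) fun i hi => ⟨g1 i (h1 i hi), gm i (h1 i hi)⟩
      ⟨h3.1, h3.2, (hm _ _ (hp.word (K := ⊤) fun i hi => ⟨(c3 i (by have := h1 i hi; omega)).1, trivial⟩).1 h2).2⟩
  obtain ⟨-, h2, h3⟩ := wd c7 c9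
  obtain ⟨w1, w2, w3⟩ := wd c8 c10
  have e0 : e 0 = 1 := by
    have := add 0 0
    rw [add_zero] at this
    exact left_eq_mul.1 this
  have G : Gd d.n σ e P y d.s := ⟨C.n10, C.n11, add, fun a ha => inj (ha.trans e0.symm), conj, l2.pg,
    e_mem_Pk _ _, C.sp, C.s2, by rw [hy, ← (H.pow (g1 _ le_rfl) _).2, c5, H.f1], C.ord, fun a ha => by
      obtain ⟨x, hx, rfl⟩ := vc_surj a
      rw [chkF, frL_eq, allTo_iff] at c6
      have h4 := c6 x hx
      have h5 := wf_iff.1 (g3 _ le_rfl).wf2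
      simp only [Bool.or_eq_true, Bool.not_eq_true', Nat.beq_eq, ← Bool.not_eq_true] at h4
      rw [hy, g2 _ le_rfl, A, lin_vc _ h5.1] at ha
      rw [h4.resolve_right fun h6 => h6 (vc_inj (app_lt h5.2 _) hx ha), vc_zero]⟩
  have Z : ZOk d.n d.N d.TP T := zOk_of (by have := C.n10; omega) hS C.tab (by
    have h4 : ∀ j ≤ d.ν, InvM d.n d.TP (d.M j) ∧ Function.Injective (lin d.n d.n ((d.M j).take d.n)) := fun j hj =>
      ⟨g3 j hj, by have := rho_injective σ (φ (d.g j)); rwa [g2 j hj] at this⟩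
    intro A hA
    simp only [List.mem_cons, List.not_mem_nil, or_false] at hA
    rcases hA with rfl | rfl
    exacts [h4 _ le_rfl, h4 _ C.z.1]) C.z1 C.z3 C.z2 C.z.2
  have st : ∀ j ≤ d.ν, φ (d.g j) ∈ stabT σ d.TP := fun j hj x a b => by
    rw [g2 j hj, A, ← (g3 j hj).io, (g3 j hj).inv]
  have tv : ∀ {D}, D < 2 ^ d.n → tau d.n d.TP (io d.n (vc d.n D)) = fm d.n (app d.TP D) := fun h => by
    rw [io_vc h, tau_vc _ hS.len]
  refine ⟨P, y, φ (prodW d.Gl d.ww), G, ⟨by rw [← (H.pow w1 _).2, c11, H.f1], w2,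
    Subgroup.mem_normalizer_fintype ?_, hS, ?_, fun D hD => ?_, fun B b1 b2 b3 => ?_, ?_, ?_⟩,
    ⟨C.tab, C.top, l2.cov l1, l2.kr⟩, Z, l2.cd⟩
  · rintro _ ⟨m, rfl⟩
    have h4 := congrArg φ c12
    have h5 := H.pow (g1 _ le_rfl) d.kk
    rw [H.fc _ _ w1 (g1 _ le_rfl), H.fc _ _ h5.1 w1, h5.2, ← mul_inv_eq_iff_eq_mul] at h4
    change _ * y ^ m * _ ∈ Subgroup.zpowers y
    rw [← conj_zpow, h4]
    exact zpow_mem (pow_mem (Subgroup.mem_zpowers y) _) _
  · exact (show P ⊔ Subgroup.zpowers y ≤ stabT σ d.TP from sup_le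
      (Pk_le (fun a x b c => by simp only [G.sig_e]) fun j hj => st j hj.le) (Subgroup.zpowers_le.2 (st _ le_rfl)))
  · by_contra h4
    have h5 := Z.z1 D h4
    have h6 : rad d.n d.TP D = ⊤ := by rw [rad, hD, LinearMap.ker_zero]
    rw [h6, finrank_top, finrank_fintype_fun_eq_card, Fintype.card_fin] at h5
    have := C.n10
    omega
  · have := chkForm_sound C.f5.2 B b1 b2 (by simp) (by
      intro A hA
      simp only [List.mem_cons, List.not_mem_nil, or_false] at hA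
      rcases hA with rfl | rfl
      · rw [← g2 _ C.f5.1]; exact b3 _ (gm _ C.f5.1)
      · rw [← g2 _ le_rfl]; exact b3 _ (gm _ le_rfl))
    rwa [fm_zero, bf_zero, or_self] at this
  · obtain ⟨f1, f2, f3, f4, f5, f6⟩ := C.f4
    refine ⟨vc d.n (d.u 2), vc_ne_zero f2 f3, fun B b1 b2 b3 b4 => ?_⟩
    rw [tv f2]
    refine chkForm_sound f6 B b1 b2 (by simpa using b3) fun A hA => ?_
    simp only [List.mem_cons, List.not_mem_nil, or_false] at hA
    rcases hA with rfl | rfl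
    · rw [← g2 _ f1]
      exact b4 _ (gm _ f1) (by rw [g2 _ f1, A, lin_vc _ (wf_iff.1 (g3 _ f1).wf2).1]; exact congrArg _ f4)
    · rw [← h3]
      rw [chkM, Bool.and_eq_true] at c9
      exact b4 _ h2 (by rw [h3, lin_vc _ (wf_iff.1 c9.1).1, f5])
  · obtain ⟨f1, f2⟩ := C.f3
    refine ⟨vc 11 (d.u 5), fun B b1 b2 b3 b4 => ?_, f2.imp (fun h => by rw [h, vc_zero]) ?_⟩
    · rw [tau_vc _ hS.len]
      refine chkForm_sound f1 B b1 b2 (by simp) fun A hA => ?_
      simp only [List.mem_cons, List.not_mem_nil, or_false] at hA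
      rcases hA with rfl | rfl
      · rw [← g2 _ le_rfl]; exact b3
      · rw [← w3]; exact b4
    · rintro ⟨f2, f3, f4, f5, f6, f7⟩
      refine ⟨?_, _, gm _ f4, vc d.n (d.u 9), vc_ne_zero f5 f6, fun a b => ?_⟩
      · rintro ⟨x, hx⟩
        obtain ⟨x, h4, rfl⟩ := vc_surj x
        rw [io_vc h4] at hx
        have := vc_inj (h4.trans_le (Nat.pow_le_pow_right (by norm_num) C.n11)) f3 hx
        omega
      · have h4 := (g3 _ f4).inv (vc 11 (d.u 5 ^^^ d.u 9)) a b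
        rw [lin_vc _ (wf_iff.1 (g3 _ f4).wf1).1, f7, vc_xor, map_add, LinearMap.add_apply, add_dotProduct] at h4
        rw [g2 _ f4, io_vc f5]
        exact h4

/-- **rank and small modules** -/
theorem Ck.main {G : Type} [Group G] [Finite G] {sg ψ : ℕ → G} (M : Mon okm okp sg ψ d.c)
    (hc : ¬ 2 ^ (d.n + d.ν + 1) ∣ Nat.card G) :
    (∀ A : Subgroup G, IsElementaryAbelian 2 A → Nat.card A ≤ 2 ^ d.n) ∧
    ∀ (V : Type) [AddCommGroup V] [Module F2 V] [Finite V] (ρ : Representation F2 G V), finrank F2 V ≤ 24 →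
      G88 2 ρ := by
  have hs := C.small
  simp only [chk, Bool.and_eq_true, List.all_eq_true] at hs
  obtain ⟨N, σ, e, Ok, φ, add, inj, conj, H, hm⟩ := M.exists_data hs.1 hs.2.1
  obtain ⟨P, y, w, G', F, D, Z, hP⟩ := C.data add inj conj H hm
    ⟨M.hm.p1, M.hm.pc, rfl, fun _ _ _ _ => (mul_one _).symm⟩
  have key : ∀ A : Subgroup G, IsElementaryAbelian 2 A → ∃ g : G,
      A.map (MulAut.conj g).toMonoidHom ≤ N.subtype.range ∧ (A.map (MulAut.conj g).toMonoidHom).comap N.subtype ≤ P :=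
    fun A hA => by
      obtain ⟨g, hg⟩ := exists_conj_le (G'.pP.map N.subtype)
        (by rw [Subgroup.card_map_of_injective N.subtype_injective]; exact hP) hc (elemAb_isPGroup hA)
      exact ⟨g, hg.trans (Subgroup.map_le_range _ _), fun x hx => by
        obtain ⟨z, hz, h⟩ := hg hx
        exact N.subtype_injective h ▸ hz⟩
  refine ⟨fun A hA => ?_, fun V _ _ _ ρ hd A hA => ?_⟩
  · obtain ⟨g, h1, h2⟩ := key A hA
    have h3 := elemAb_map hA (MulAut.conj g).toMonoidHom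
    rw [← card_map_conj g, ← Subgroup.map_comap_eq_self h1, Subgroup.card_map_of_injective N.subtype_injective]
    exact G'.rank_le D (elemAb_of (fun a ha b hb => Subtype.ext (elemAb_comm h3 ha hb))
      fun a ha => Subtype.ext (h3.2 _ ha)) h2
  · obtain ⟨g, h1, h2⟩ := key A hA.1
    obtain ⟨B, h3, h4⟩ := G'.main D F Z hd (off_comap _ N.subtype_injective h1 (hA.conj g)) h2
    exact ⟨_, off_map _ N.subtype_injective h3, (cub_comp _ _).1 h4⟩

end Dat

end Cfsg.Agent.TwoF.SpB
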