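import Cfsg.Agent.TwoF.SpB.Ech
import Mathlib.Data.Set.Card

/-!
# TwoF SP-B: enumeration of the elementary abelian subgroups of a 2-group of matrices (helper24)
-/

set_option autoImplicit false

namespace Cfsg.Agent.TwoF.SpB

open Module

/-- the record of an involution: matrix, commuting involutions, products, image, annihilator of the kernel -/
structure Rec where
  /-- matrix -/
  mt : List ℕ
  /-- mask of the commuting involutions -/
  cm : ℕ
  /-- products, eight bits each -/
  pr : ℕ
  /-- image of `mt - 1` -/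
  im : List ℕ
  /-- annihilator of the kernel of `mt - 1` -/
  dm : List ℕ

/-- binary trees of records -/
inductive RT : Type
  | leaf : Rec → RT
  | node : RT → RT → RT

/-- look-up -/
noncomputable def RT.get (t : RT) : ℕ → Rec :=
  RT.rec (fun r _ => r) (fun _ _ fl fr i => cond (Nat.beq (i % 2) 0) (fl (i / 2)) (fr (i / 2))) t

/-- the coset test -/
def cosK (row g : ℕ) : List ℕ → (List ℕ → Bool) → Bool
  | [], k => k []
  | b :: B, k => frc ((row >>> (8 * b)) % 256) fun j => cond (Nat.blt j g) (cosK row g B fun L => k (j :: L)) true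

theorem cosK_realised : True := by have := @cosK.eq_def; trivial

theorem testBit_iff {a j : ℕ} : Nat.beq ((a >>> j) % 2) 1 = true ↔ a.testBit j = true := by
  rw [Nat.testBit, Nat.one_and_eq_mod_two]
  rcases Nat.mod_two_eq_zero_or_one (a >>> j) with e | e <;> simp [e]

theorem cosK_sound {row g : ℕ} {B : List ℕ} {k : List ℕ → Bool} (h : cosK row g B k = true)
    (hB : ∀ b ∈ B, (row >>> (8 * b)) % 256 < g) : k (B.map fun b => (row >>> (8 * b)) % 256) = true := by
  induction B generalizing k with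
  | nil => exact h
  | cons b B ih =>
    have : Nat.blt ((row >>> (8 * b)) % 256) g = true := by rw [Nat.blt_eq]; exact hB b List.mem_cons_self
    rw [cosK, frc_eq, this, cond_true] at h
    exact ih h fun c hc => hB c (List.mem_cons_of_mem _ hc)

/-- strict filter -/
def filK (c : ℕ) : List ℕ → (List ℕ → Bool) → Bool
  | [], k => k []
  | j :: J, k => cond (Nat.beq ((c >>> j) % 2) 1) (filK c J fun L => k (j :: L)) (filK c J k)

theorem filK_realised : True := by have := @filK.eq_def; trivial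

theorem filK_eq (c : ℕ) (J : List ℕ) (k : List ℕ → Bool) : filK c J k = k (J.filter fun j => c.testBit j) := by
  induction J generalizing k with
  | nil => rfl
  | cons j J ih =>
    rw [filK, List.filter_cons]
    cases e : c.testBit j
    · have : Nat.beq ((c >>> j) % 2) 1 = false := by
        rw [← Bool.not_eq_true, testBit_iff, e]; decide
      rw [this, cond_false, ih]; rfl
    · rw [testBit_iff.2 e, cond_true, ih]; rfl

/-- strict append -/
def apK (B : List ℕ) : List ℕ → (List ℕ → Bool) → Bool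
  | [], k => k B
  | j :: J, k => apK B J fun L => k (j :: L)

theorem apK_realised : True := by have := @apK.eq_def; trivial

theorem apK_eq (B J : List ℕ) (k : List ℕ → Bool) : apK B J k = k (J ++ B) := by
  induction J generalizing k with
  | nil => rfl
  | cons j J ih => rw [apK, ih]; rfl

/-- the type of the search function -/
abbrev Srch : Type := ℕ → List ℕ → List ℕ → List ℕ → List ℕ → Bool

/-- adjoin the involution `g` -/
def child (P : ℕ → ℕ → ℕ → Bool) (R : Rec) (rc : Srch) (g r : ℕ) (B al L1 L2 : List ℕ) : Bool :=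
  cosK R.pr g B fun C => insK L1 R.im fun M1 => insK L2 R.dm fun M2 =>
    frc (r + 1) fun r' => P r' M1.length M2.length && filK R.cm al fun a => apK B C fun B' => rc r' (g :: B') a M1 M2

/-- the search -/
noncomputable def dfs (T : ℕ → Rec) (P : ℕ → ℕ → ℕ → Bool) (f : ℕ) : Srch :=
  Nat.rec (fun _ _ _ _ _ => false) (fun _ rc r B al L1 L2 =>
    List.rec true (fun g al' ih => child P (T g) rc g r B al' L1 L2 && ih) al) f

/-- the facts on the table -/
structure TabOk (n N : ℕ) (T : ℕ → Rec) : Prop where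
  wf : ∀ j < N, wf n n (T j).mt = true
  ne : ∀ j < N, lin n n (T j).mt ≠ 1
  cm : ∀ i < N, ∀ j < N, lin n n (T i).mt * lin n n (T j).mt = lin n n (T j).mt * lin n n (T i).mt →
    (T i).cm.testBit j = true
  pr : ∀ i < N, ∀ j < N, (T i).cm.testBit j = true → lin n n (T i).mt ≠ lin n n (T j).mt →
    ((T i).pr >>> (8 * j)) % 256 < N ∧
      lin n n (T (((T i).pr >>> (8 * j)) % 256)).mt = lin n n (T i).mt * lin n n (T j).mt
  im : ∀ j < N, ∀ u ∈ (T j).im, In (LinearMap.range (lin n n (T j).mt - 1)) u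
  dm : ∀ j < N, ∀ u ∈ (T j).dm, In (ann (LinearMap.ker (lin n n (T j).mt - 1))) u

/-- the set of indices of the non-trivial elements of an elementary abelian group -/
structure GSet (n N : ℕ) (T : ℕ → Rec) (J : Set ℕ) (W1 W2 : Submodule F2 (Sp n)) : Prop where
  lt : ∀ j ∈ J, j < N
  sq : ∀ j ∈ J, lin n n (T j).mt * lin n n (T j).mt = 1
  comm : ∀ i ∈ J, ∀ j ∈ J, lin n n (T i).mt * lin n n (T j).mt = lin n n (T j).mt * lin n n (T i).mt
  mul : ∀ i ∈ J, ∀ j ∈ J, ∀ l < N, lin n n (T l).mt = lin n n (T i).mt * lin n n (T j).mt → l ∈ J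
  w1 : ∀ j ∈ J, LinearMap.range (lin n n (T j).mt - 1) ≤ W1
  w2 : ∀ j ∈ J, W2 ≤ LinearMap.ker (lin n n (T j).mt - 1)

/-- the conclusion -/
def Concl (n : ℕ) (T : ℕ → Rec) (P : ℕ → ℕ → ℕ → Bool) (J : Set ℕ) (W1 W2 : Submodule F2 (Sp n)) : Prop :=
  ∃ r s s', ((fun j => lin n n (T j).mt) '' J).ncard + 1 ≤ 2 ^ r ∧ s ≤ finrank F2 W1 ∧ finrank F2 W2 + s' ≤ n ∧
    P r s s' = true

/-- the invariant -/
structure St (n : ℕ) (T : ℕ → Rec) (J : Set ℕ) (W1 W2 : Submodule F2 (Sp n)) (r : ℕ) (B al L1 L2 : List ℕ) :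
    Prop where
  sub : ∀ b ∈ B, b ∈ J
  cov : ∀ j ∈ J, (∃ b ∈ B, lin n n (T b).mt = lin n n (T j).mt) ∨ j ∈ al
  srt : al.Pairwise (· > ·)
  cl : ∀ b ∈ B, ∀ c ∈ B, lin n n (T b).mt = lin n n (T c).mt ∨
    ∃ d ∈ B, lin n n (T d).mt = lin n n (T b).mt * lin n n (T c).mt
  len : B.length + 1 = 2 ^ r
  e1 : Ech L1
  e2 : Ech L2
  i1 : ∀ u ∈ L1, In W1 u
  i2 : ∀ u ∈ L2, In (ann W2) u

variable {n N : ℕ} {T : ℕ → Rec} {P : ℕ → ℕ → ℕ → Bool} {J : Set ℕ} {W1 W2 : Submodule F2 (Sp n)}

theorem child_sound (hT : TabOk n N T) (hJ : GSet n N T J W1 W2) {rc : Srch}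
    (hrc : ∀ r B al L1 L2, rc r B al L1 L2 = true → St n T J W1 W2 r B al L1 L2 → P r L1.length L2.length = true →
      Concl n T P J W1 W2)
    {g r : ℕ} {B al L1 L2 : List ℕ} (h : child P (T g) rc g r B al L1 L2 = true)
    (S : St n T J W1 W2 r B (g :: al) L1 L2) (hg : g ∈ J)
    (hgB : ∀ b ∈ B, lin n n (T b).mt ≠ lin n n (T g).mt) : Concl n T P J W1 W2 := by
  set el : ℕ → Module.End F2 (Sp n) := fun j => lin n n (T j).mt with hel
  have hp : ∀ b ∈ B, ((T g).pr >>> (8 * b)) % 256 ∈ J ∧ el (((T g).pr >>> (8 * b)) % 256) = el g * el b := by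
    intro b hb
    have h1 := hT.pr g (hJ.lt g hg) b (hJ.lt b (S.sub b hb))
      (hT.cm g (hJ.lt g hg) b (hJ.lt b (S.sub b hb)) (hJ.comm g hg b (S.sub b hb))) (hgB b hb).symm
    exact ⟨hJ.mul g hg b (S.sub b hb) _ h1.1 h1.2, h1.2⟩
  have sq : ∀ j ∈ J, el j * el j = 1 := hJ.sq
  have cmm : ∀ i ∈ J, ∀ j ∈ J, el i * el j = el j * el i := hJ.comm
  have hne : ∀ j ∈ J, el j ≠ 1 := fun j hj => hT.ne j (hJ.lt j hj)
  have h1 := cosK_sound h fun b hb => by
    obtain ⟨h3, h4⟩ := hp b hb
    rcases S.cov _ h3 with ⟨c, hc, h5⟩ | h5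
    · exfalso
      have h6 : el c = el g * el b := h5.trans h4
      rcases S.cl c hc b hb with h7 | ⟨d, hd, h7⟩
      · have h8 : el c = el b := h7
        refine hne g hg ?_
        rw [← mul_one (el g), ← sq b (S.sub b hb), ← mul_assoc, ← h6, h8]
      · have h8 : el d = el c * el b := h7
        refine hgB d hd (h8.trans ?_)
        rw [h6, mul_assoc, sq b (S.sub b hb), mul_one]
    · rcases List.mem_cons.1 h5 with h6 | h6
      · exfalso
        rw [h6] at h4
        refine hne b (S.sub b hb) ?_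
        rw [← one_mul (el b), ← sq g hg, mul_assoc, ← h4]
      · exact (List.pairwise_cons.1 S.srt).1 _ h6
  rw [insK_eq, insK_eq, frc_eq, Bool.and_eq_true, filK_eq, apK_eq] at h1
  refine hrc _ _ _ _ _ h1.2 ⟨?_, ?_, (List.pairwise_cons.1 S.srt).2.filter _, ?_, ?_, S.e1.insL _, S.e2.insL _, ?_, ?_⟩ h1.1
  · intro b hb
    rcases List.mem_cons.1 hb with e | e
    · rw [e]; exact hg
    rcases List.mem_append.1 e with e | e
    · obtain ⟨c, hc, rfl⟩ := List.mem_map.1 e
      exact (hp c hc).1
    · exact S.sub b e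
  · intro j hj
    rcases S.cov j hj with ⟨c, hc, h5⟩ | h5
    · exact Or.inl ⟨c, by simp [hc], h5⟩
    rcases List.mem_cons.1 h5 with h6 | h6
    · exact Or.inl ⟨j, by simp [h6], rfl⟩
    · exact Or.inr (List.mem_filter.2 ⟨h6, hT.cm g (hJ.lt g hg) j (hJ.lt j hj) (hJ.comm g hg j hj)⟩)
  · have key : ∀ b ∈ g :: ((B.map fun b => ((T g).pr >>> (8 * b)) % 256) ++ B),
        el b = el g ∨ (∃ c ∈ B, el b = el g * el c) ∨ b ∈ B := by
      intro b hb
      rcases List.mem_cons.1 hb with e | e
      · exact Or.inl (by rw [e])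
      rcases List.mem_append.1 e with e | e
      · obtain ⟨c, hc, rfl⟩ := List.mem_map.1 e
        exact Or.inr (Or.inl ⟨c, hc, (hp c hc).2⟩)
      · exact Or.inr (Or.inr e)
    have mg : ∃ d ∈ g :: ((B.map fun b => ((T g).pr >>> (8 * b)) % 256) ++ B), el d = el g :=
      ⟨g, List.mem_cons_self, rfl⟩
    have mB : ∀ c ∈ B, ∃ d ∈ g :: ((B.map fun b => ((T g).pr >>> (8 * b)) % 256) ++ B), el d = el c :=
      fun c hc => ⟨c, by simp [hc], rfl⟩
    have mC : ∀ c ∈ B, ∃ d ∈ g :: ((B.map fun b => ((T g).pr >>> (8 * b)) % 256) ++ B), el d = el g * el c :=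
      fun c hc => ⟨_, List.mem_cons_of_mem _ (List.mem_append_left _ (List.mem_map.2 ⟨c, hc, rfl⟩)), (hp c hc).2⟩
    have gg := sq g hg
    intro b hb c hc
    change el b = el c ∨ ∃ d ∈ _, el d = el b * el c
    rcases key b hb with e | ⟨b', hb', e⟩ | e <;> rcases key c hc with e' | ⟨c', hc', e'⟩ | e'
    · exact Or.inl (e.trans e'.symm)
    · right; rw [e, e', ← mul_assoc, gg, one_mul]; exact mB c' hc'
    · right; rw [e]; exact mC c e'
    · right; rw [e, e', cmm g hg b' (S.sub _ hb'), mul_assoc, gg, mul_one]; exact mB b' hb'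
    · rcases S.cl b' hb' c' hc' with h7 | ⟨d, hd, h7⟩
      · have h8 : el b' = el c' := h7
        exact Or.inl (by rw [e, e', h8])
      · have h8 : el d = el b' * el c' := h7
        right
        rw [e, e', cmm g hg b' (S.sub _ hb'), mul_assoc, ← mul_assoc (el g), gg, one_mul, ← h8]
        exact mB d hd
    · rcases S.cl b' hb' c e' with h7 | ⟨d, hd, h7⟩
      · have h8 : el b' = el c := h7
        right; rw [e, h8, mul_assoc, sq c (S.sub _ e'), mul_one]; exact mg
      · have h8 : el d = el b' * el c := h7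
        right; rw [e, mul_assoc, ← h8]; exact mC d hd
    · right; rw [e', ← cmm g hg b (S.sub _ e)]; exact mC b e
    · rcases S.cl b e c' hc' with h7 | ⟨d, hd, h7⟩
      · have h8 : el b = el c' := h7
        right
        rw [e', h8, ← mul_assoc, ← cmm g hg c' (S.sub _ hc'), mul_assoc, sq c' (S.sub _ hc'), mul_one]; exact mg
      · have h8 : el d = el b * el c' := h7
        right
        rw [e', ← mul_assoc, ← cmm g hg b (S.sub _ e), mul_assoc, ← h8]; exact mC d hd
    · rcases S.cl b e c e' with h7 | ⟨d, hd, h7⟩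
      · exact Or.inl h7
      · exact Or.inr ⟨d, by simp [hd], h7⟩
  · have := S.len
    simp only [List.length_cons, List.length_append, List.length_map, pow_succ]
    omega
  · exact (xc_in W1).insL S.i1 fun u hu => (hT.im g (hJ.lt g hg) u hu).mono (hJ.w1 g hg)
  · exact (xc_in _).insL S.i2 fun u hu => (hT.dm g (hJ.lt g hg) u hu).mono (ann_anti (hJ.w2 g hg))

theorem dfs_sound (hT : TabOk n N T) (hJ : GSet n N T J W1 W2) (f : ℕ) :
    ∀ r B al L1 L2, dfs T P f r B al L1 L2 = true → St n T J W1 W2 r B al L1 L2 → P r L1.length L2.length = true →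
      Concl n T P J W1 W2 := by
  classical
  induction f with
  | zero => intro r B al L1 L2 h; exact absurd h (by simp [dfs])
  | succ f ih =>
    intro r B al L1 L2 h S hP
    induction al with
    | nil =>
      refine ⟨r, _, _, ?_, S.e1.length_le S.i1, S.e2.finrank_le S.i2, hP⟩
      have h1 : (fun j => lin n n (T j).mt) '' J ⊆ ↑((B.map fun j => lin n n (T j).mt).toFinset) := by
        rintro _ ⟨j, hj, rfl⟩
        rcases S.cov j hj with ⟨b, hb, e⟩ | e
        · simp only [List.coe_toFinset, List.mem_map, Set.mem_ofPred_eq]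
          exact ⟨b, hb, e⟩
        · simp at e
      have h2 := Set.ncard_le_ncard h1 (Finset.finite_toSet _)
      rw [Set.ncard_coe_finset] at h2
      have h3 := List.toFinset_card_le (B.map fun j => lin n n (T j).mt)
      rw [List.length_map] at h3
      have := S.len
      omega
    | cons g al ih2 =>
      change (child P (T g) (dfs T P f) g r B al L1 L2 && dfs T P (f + 1) r B al L1 L2) = true at h
      rw [Bool.and_eq_true] at h
      by_cases hg : g ∈ J ∧ ∀ b ∈ B, lin n n (T b).mt ≠ lin n n (T g).mt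
      · exact child_sound hT hJ ih h.1 S hg.1 hg.2
      · refine ih2 h.2 ⟨S.sub, fun j hj => ?_, (List.pairwise_cons.1 S.srt).2, S.cl, S.len, S.e1, S.e2, S.i1, S.i2⟩
        rcases S.cov j hj with e | e
        · exact Or.inl e
        rcases List.mem_cons.1 e with e' | e'
        · left
          by_contra h5
          push Not at h5
          exact hg ⟨e' ▸ hj, e' ▸ h5⟩
        · exact Or.inr e'

/-- `g - 1, …, 0` -/
noncomputable def dn (g : ℕ) : List ℕ := Nat.rec [] (fun k L => k :: L) g

theorem mem_dn {g j : ℕ} : j ∈ dn g ↔ j < g := by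
  induction g with
  | zero => simp [dn]
  | succ g ih =>
    change j ∈ g :: dn g ↔ _
    rw [List.mem_cons, ih]; omega

theorem dn_srt (g : ℕ) : (dn g).Pairwise (· > ·) := by
  induction g with
  | zero => exact List.Pairwise.nil
  | succ g ih => exact List.pairwise_cons.2 ⟨fun j hj => mem_dn.1 hj, ih⟩

/-- the subgroups whose largest index is `g` -/
noncomputable def top (T : ℕ → Rec) (P : ℕ → ℕ → ℕ → Bool) (g : ℕ) : Bool :=
  child P (T g) (dfs T P 8) g 0 [] (dn g) [] []

theorem top_sound (hT : TabOk n N T) (hJ : GSet n N T J W1 W2) (h : ∀ g < N, top T P g = true) (hne : J.Nonempty) :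
    Concl n T P J W1 W2 := by
  have hf : J.Finite := (Set.finite_lt_nat N).subset hJ.lt
  obtain ⟨g, hg, hm⟩ := Set.exists_max_image J id hf hne
  exact child_sound hT hJ (dfs_sound hT hJ 8) (h g (hJ.lt g hg))
    ⟨by simp, fun j hj => Or.inr ((mem_dn (g := g + 1)).2 (Nat.lt_succ_of_le (hm j hj))), dn_srt (g + 1), by simp, rfl,
      ech_nil, ech_nil, by simp, by simp⟩ hg (by simp)

/-! ### the check of the table -/

/-- the products `S R` and `R S` differ -/
def neq2 (S R : List ℕ) : List ℕ → List ℕ → Bool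
  | a :: A, b :: B => cond (Nat.beq (app S a) (app R b)) (neq2 S R A B) true
  | _, _ => false

theorem neq2_realised : True := by have := @neq2.eq_def; trivial

theorem neq2_sound {S R A B : List ℕ} (h : neq2 S R A B = true) : mulM S A ≠ mulM R B := by
  induction A generalizing B with
  | nil => simp [neq2] at h
  | cons a A ih =>
    cases B with
    | nil => simp [neq2] at h
    | cons b B =>
      intro e
      rw [mulM, mulM, List.map_cons, List.map_cons, List.cons.injEq] at e
      rw [neq2, e.1, Nat.beq_refl, cond_true] at h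
      exact ih h e.2

/-- `S A = C` -/
def eq2 (S : List ℕ) : List ℕ → List ℕ → Bool
  | [], [] => true
  | a :: A, c :: C => Nat.beq (app S a) c && eq2 S A C
  | _, _ => false

theorem eq2_realised : True := by have := @eq2.eq_def; trivial

theorem eq2_sound {S A C : List ℕ} (h : eq2 S A C = true) : C = mulM S A := by
  induction A generalizing C with
  | nil => cases C <;> simp [eq2, mulM] at h ⊢
  | cons a A ih =>
    cases C with
    | nil => simp [eq2] at h
    | cons c C =>
      rw [eq2, Bool.and_eq_true] at h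
      rw [mulM, List.map_cons, Nat.eq_of_beq_eq_true h.1, ih h.2]; rfl

/-- check of one record -/
def chkRec (n : ℕ) (R : Rec) : Bool :=
  wf n n R.mt && (!leq R.mt (idM n) && (wf n n (trM n R.mt) && (isTr n n R.mt (trM n R.mt) &&
    (insK [] (sub1 R.mt 1) (fun L => leq L R.im) && insK [] (sub1 (trM n R.mt) 1) fun L => leq L R.dm))))

/-- check of a row of the table -/
def chkRow (N : ℕ) (T : ℕ → Rec) (i : ℕ) : Bool :=
  allTo (fun j => cond (Nat.beq (((T i).cm >>> j) % 2) 1)
    (Nat.beq i j || frc (((T i).pr >>> (8 * j)) % 256) fun l => Nat.blt l N && eq2 (T i).mt (T j).mt (T l).mt)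
    (neq2 (T i).mt (T j).mt (T j).mt (T i).mt)) N

theorem tabOk_of (h1 : ∀ j < N, chkRec n (T j) = true) (h2 : ∀ i < N, chkRow N T i = true) : TabOk n N T := by
  have h3 : ∀ j < N, wf n n (T j).mt = true ∧ (T j).mt ≠ idM n ∧ wf n n (trM n (T j).mt) = true ∧
      isTr n n (T j).mt (trM n (T j).mt) = true ∧ insL [] (sub1 (T j).mt 1) = (T j).im ∧
      insL [] (sub1 (trM n (T j).mt) 1) = (T j).dm := by
    intro j hj
    have := h1 j hj
    simp only [chkRec, Bool.and_eq_true, insK_eq, leq_iff, Bool.not_eq_true', ← Bool.not_eq_true] at this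
    exact this
  have len : ∀ j < N, (T j).mt.length = n := fun j hj => (wf_iff.1 (h3 j hj).1).1
  refine ⟨fun j hj => (h3 j hj).1, fun j hj e => (h3 j hj).2.1 (lin_inj (h3 j hj).1 (wf_idM n) ?_),
    fun i hi j hj e => ?_, fun i hi j hj e hij => ?_, fun j hj => ?_, fun j hj => ?_⟩
  · rw [e, lin_idM]; rfl
  · by_contra hc
    have := (allTo_iff _ _).1 (h2 i hi) j hj
    rw [← testBit_iff, Bool.not_eq_true] at hc
    rw [hc, cond_false] at this
    refine neq2_sound this (lin_inj (wf_mulM (h3 i hi).1 (len j hj)) (wf_mulM (h3 j hj).1 (len i hi)) ?_)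
    rw [lin_mulM (len i hi) (len j hj), lin_mulM (len j hj) (len i hi)]
    exact e
  · have := (allTo_iff _ _).1 (h2 i hi) j hj
    rw [testBit_iff.2 e, cond_true, Bool.or_eq_true, frc_eq, Bool.and_eq_true, Nat.blt_eq] at this
    rcases this with h4 | h4
    · exact absurd (by rw [Nat.eq_of_beq_eq_true h4]) hij
    · refine ⟨h4.1, ?_⟩
      rw [eq2_sound h4.2, lin_mulM (len i hi) (len j hj)]
      rfl
  · rw [← (h3 j hj).2.2.2.2.1]
    exact (xc_in _).insL (by simp) (in_range_sub1 (h3 j hj).1)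
  · rw [← (h3 j hj).2.2.2.2.2]
    exact (xc_in _).insL (by simp) (in_ann_sub1 (h3 j hj).2.2.1 (h3 j hj).2.2.2.1)

end Cfsg.Agent.TwoF.SpB
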